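import Cfsg.Agent.H378.TwRows
import Cfsg.Agent.H437.Iso.TwD4

/-!
# `³D₄(u)` : primes not adjacent to `2` (helper18)
-/

set_option autoImplicit false
set_option linter.unusedSectionVars false

namespace Cfsg.Agent.R2.Spec.X4.H18

open CoxeterSystem Subgroup Cfsg Cfsg.Lie Cfsg.Lie.ChevalleyDatum
open Cfsg.Agent.ChevalleyStructure.CoxeterGeomTypes
open Cfsg.Agent.Nodes Cfsg.Agent.Nodes.RGDChev Cfsg.Agent.KFacts.RgdChevCoord Cfsg.Agent.BpExc.TorChev
open Cfsg.Agent.BpExc.TowChev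
open Cfsg.Agent.H493.PGTorus Cfsg.Agent.H493.PGCyc Cfsg.Agent.H129.WData
open Cfsg.Agent.H564.NearTwo Cfsg.Agent.H94.PG
open Cfsg.Agent.H378.ExcAdj Cfsg.Agent.H378.TwAdj Cfsg.Agent.H378.TwRows

universe u

/-- orders of powers -/
theorem ord_dvd {G : Type*} [Group G] {n d : ℕ} (h : ∃ x : G, orderOf x = n) (hn : n ≠ 0) (hd : d ∣ n) :
    ∃ x : G, orderOf x = d := by
  obtain ⟨x, hx⟩ := h
  obtain ⟨k, hk⟩ := hd
  have hk0 : k ≠ 0 := by
    rintro rfl
    exact hn (by rw [hk, mul_zero])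
  refine ⟨x ^ k, ?_⟩
  rw [orderOf_pow_of_dvd hk0 (by rw [hx, hk]; exact dvd_mul_left _ _), hx, hk, Nat.mul_div_cancel _ (Nat.pos_of_ne_zero hk0)]

theorem prOrd {G : Type*} [Group G] {r s : ℕ} (h : Pr G r s) (hr : r.Prime) (hs : s.Prime) (hne : r ≠ s) :
    ∃ x : G, orderOf x = s * r := by
  obtain ⟨x, y, hx, hy, hxy⟩ := h
  refine ⟨y * x, ?_⟩
  rw [hxy.symm.orderOf_mul_eq_mul_orderOf_of_coprime (by
    rw [hx, hy]
    exact (Nat.coprime_primes hs hr).2 hne.symm), hx, hy]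

section D

variable {K : Type u} [Field K] [Fintype K] {q : ℕ} (hq : IsPrimePow q) (hK : Fintype.card K = q ^ 3)

include hq hK

open Cfsg.Agent.H493.PGD4T in
/-- **`³D₄(q)`**: the prime divisors of the order. -/
theorem d4_near {r : ℕ} (hr : r.Prime) (h2 : r ≠ 2) (hd : r ∣ Nat.card ↥(twistedD4 K q)) :
    (∃ x : ↥(twistedD4 K q), orderOf x = 2 * r) ∨ (r : ℤ) ∣ (q : ℤ) ^ 4 - q ^ 2 + 1 := by
  obtain ⟨p, n, hp, hn, hpn⟩ := id hq
  have hp := hp.nat_prime
  have hq2 := hq.two_le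
  have hpq : p ∣ q := hpn ▸ dvd_pow_self p hn.ne'
  have hne : ∀ {f : ℕ} {c : Fin (f + 1) → ℤ}, (c 0 = 1 ∨ c 0 = -1) → (r : ℤ) ∣ pv c (q : ℤ) → r ≠ p := by
    intro f c hc h
    rw [← hpn] at h
    exact H493.PGTwist.ne_char hc hp hn h
  rw [Cfsg.Agent.S1067.result hq hK] at hd
  by_cases hp2 : p = 2
  · subst hp2
    rcases cover hq.two_le hr hd with (h | h | h | h | h) | h
    · exfalso
      rw [← hpn] at h
      exact h2 ((Nat.prime_dvd_prime_iff_eq hr hp).1 (hr.dvd_of_dvd_pow h))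
    · exact Or.inl (prOrd (pairD_p hq hK chainA_ok hThA eigA_1 (by decide) (by decide) fixA vanA_1 hr hp h hpq) hr hp h2)
    · exact Or.inl (prOrd (pairD_p hq hK chainB_ok hThB eigB_2 (by decide) (by decide) fixB vanB_2 hr hp h hpq) hr hp h2)
    · exact Or.inl (prOrd (pairD_p hq hK chainA_ok hThA eigA_3 (by decide) (by decide) fixA vanA_3 hr hp h hpq) hr hp h2)
    · exact Or.inl (prOrd (pairD_p hq hK chainB_ok hThB eigB_6 (by decide) (by decide) fixB vanB_6 hr hp h hpq) hr hp h2)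
    · exact Or.inr (by rwa [pv_c12] at h)
  · have hqo : q % 2 = 1 := by
      rw [← hpn, Nat.pow_mod, (hp.eq_two_or_odd.resolve_left hp2), one_pow]
      rfl
    have hA : ∀ {a : ℕ}, r ∣ a → a ∣ (q ^ 3 - 1) * (q + 1) → ∃ x : ↥(twistedD4 K q), orderOf x = 2 * r := by
      intro a ha hd
      have h3 : 1 < q ^ 3 := Nat.one_lt_pow (by norm_num) (by omega)
      refine ord_dvd (H437.Iso.d4_orderA hq hK) (Nat.mul_ne_zero (by omega) (by omega)) ?_
      refine Nat.Coprime.mul_dvd_of_dvd_of_dvd ((Nat.coprime_primes Nat.prime_two hr).2 (Ne.symm h2)) ?_ (ha.trans hd)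
      exact (show 2 ∣ q + 1 by omega).mul_left _
    have hB : ∀ {a : ℕ}, r ∣ a → a ∣ (q ^ 3 + 1) * (q - 1) → ∃ x : ↥(twistedD4 K q), orderOf x = 2 * r := by
      intro a ha hd
      refine ord_dvd (H437.Iso.d4_orderB hq hK) (Nat.mul_ne_zero (by omega) (by omega)) ?_
      refine Nat.Coprime.mul_dvd_of_dvd_of_dvd ((Nat.coprime_primes Nat.prime_two hr).2 (Ne.symm h2)) ?_ (ha.trans hd)
      exact (show 2 ∣ q - 1 by omega).mul_left _
    have e3 : q ^ 3 - 1 = (q ^ 2 + q + 1) * (q - 1) := by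
      obtain ⟨c, rfl⟩ : ∃ c, q = c + 1 := ⟨q - 1, by omega⟩
      rw [Nat.add_sub_cancel]
      apply Nat.sub_eq_of_eq_add
      ring
    have hqq : q ≤ q ^ 2 := Nat.le_self_pow two_ne_zero _
    have e6 : q ^ 3 + 1 = (q ^ 2 - q + 1) * (q + 1) := by
      zify [hqq]
      ring
    rcases cover hq.two_le hr hd with (h | h | h | h | h) | h
    · left
      have hrp : r = p := by
        rw [← hpn] at h
        exact (Nat.prime_dvd_prime_iff_eq hr hp).1 (hr.dvd_of_dvd_pow h)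
      have h1 : ((2 : ℕ) : ℤ) ∣ pv c1 (q : ℤ) := two_dvd_c1 (by omega)
      have h4 := prOrd (pairD_p hq hK chainA_ok hThA eigA_1 (by decide) (by decide) fixA vanA_1 Nat.prime_two hr h1 h)
        Nat.prime_two hr (Ne.symm h2)
      rwa [mul_comm] at h4
    · rw [pv_c1] at h
      have h' : r ∣ q - 1 := by
        have h4 : (r : ℤ) ∣ ((q - 1 : ℕ) : ℤ) := by push_cast [hq.one_lt.le]; exact h
        exact_mod_cast h4
      exact Or.inl (hB h' (dvd_mul_left _ _))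
    · rw [pv_c2] at h
      have h' : r ∣ q + 1 := by exact_mod_cast h
      exact Or.inl (hA h' (dvd_mul_left _ _))
    · rw [pv_c3] at h
      have h' : r ∣ q ^ 2 + q + 1 := by exact_mod_cast h
      exact Or.inl (hA h' (by rw [e3]; exact (dvd_mul_right _ _).mul_right _))
    · rw [pv_c6] at h
      have h' : r ∣ q ^ 2 - q + 1 := by
        have h4 : (r : ℤ) ∣ ((q ^ 2 - q + 1 : ℕ) : ℤ) := by push_cast [hqq]; exact h
        exact_mod_cast h4
      exact Or.inl (hB h' (by rw [e6]; exact (dvd_mul_right _ _).mul_right _))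
    · exact Or.inr (by rwa [pv_c12] at h)

end D

end Cfsg.Agent.R2.Spec.X4.H18
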