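import Cfsg.Agent.R2.Spec.X4.H18.F4
import Cfsg.Agent.R2.Spec.X4.H18.TwNear
import Cfsg.Agent.R2.Spec.X1.TD.OmD4
import Cfsg.Agent.H378.OmD4

/-!
# Box X4 of S3435 : row `³D₄(u)` (helper18)
-/

set_option autoImplicit false
set_option linter.unusedVariables false

namespace Cfsg.Agent.R2.Spec.X4.H18

open Cfsg Cfsg.Agent.H426.LieFam

universe u

/-- the facts about `ω(³D₄(u))` -/
structure D4Dat (v u : ℕ) (S : Type*) [Group S] : Prop where
  vp : v.Prime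
  pw : ∃ f, 1 ≤ f ∧ u = v ^ f
  up : 3 ≤ u → ∀ x : S, orderOf x ∣ u ^ 4 - u ^ 2 + 1 ∨ orderOf x ∣ (u ^ 3 - 1) * (u + 1) ∨
    orderOf x ∣ (u ^ 3 + 1) * (u - 1) ∨ orderOf x ∣ v * (u ^ 3 - 1) ∨ orderOf x ∣ v * (u ^ 3 + 1) ∨
    (orderOf x ∣ v ^ 2 ∨ orderOf x ∣ v ^ 3 ∧ v = 2) ∨
    (v = 2 ∧ (orderOf x ∣ 4 * (u ^ 2 + u + 1) ∨ orderOf x ∣ 4 * (u ^ 2 - u + 1)))
  near : ∀ r : ℕ, r.Prime → r ≠ 2 → r ∣ Nat.card S → (¬ ∃ x : S, orderOf x = 2 * r) →
    (r : ℤ) ∣ (u : ℤ) ^ 4 - u ^ 2 + 1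
  ex12 : ∃ x : S, orderOf x = u ^ 4 - u ^ 2 + 1
  exA : ∃ x : S, orderOf x = (u ^ 3 - 1) * (u + 1)
  exB : ∃ x : S, orderOf x = (u ^ 3 + 1) * (u - 1)
  card : Nat.card S = u ^ 12 * (u ^ 2 - 1) * (u ^ 6 - 1) * (u ^ 8 + u ^ 4 + 1)

theorem d4_list {v u n : ℕ} (h : H135.TD.Om v u n) : n ∣ u ^ 4 - u ^ 2 + 1 ∨ n ∣ (u ^ 3 - 1) * (u + 1) ∨
    n ∣ (u ^ 3 + 1) * (u - 1) ∨ n ∣ v * (u ^ 3 - 1) ∨ n ∣ v * (u ^ 3 + 1) ∨
    (n ∣ v ^ 2 ∨ n ∣ v ^ 3 ∧ v = 2) ∨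
    (v = 2 ∧ (n ∣ 4 * (u ^ 2 + u + 1) ∨ n ∣ 4 * (u ^ 2 - u + 1))) := by
  rcases h with h | h | h | ⟨rfl, h | h | h | h | h⟩ | ⟨rfl, h | h | h⟩
  · exact Or.inl h
  · exact Or.inr (Or.inl h)
  · exact Or.inr (Or.inr (Or.inl h))
  · exact Or.inr (Or.inr (Or.inr (Or.inr (Or.inr (Or.inl (Or.inr ⟨h, rfl⟩))))))
  · exact Or.inr (Or.inr (Or.inr (Or.inr (Or.inr (Or.inr ⟨rfl, Or.inl h⟩)))))
  · exact Or.inr (Or.inr (Or.inr (Or.inr (Or.inr (Or.inr ⟨rfl, Or.inr h⟩)))))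
  · exact Or.inr (Or.inr (Or.inr (Or.inl h)))
  · exact Or.inr (Or.inr (Or.inr (Or.inr (Or.inl h))))
  · exact Or.inr (Or.inr (Or.inr (Or.inr (Or.inr (Or.inl (Or.inl h))))))
  · exact Or.inr (Or.inr (Or.inr (Or.inl h)))
  · exact Or.inr (Or.inr (Or.inr (Or.inr (Or.inl h))))

theorem d4Dat {v f : ℕ} (hv : v.Prime) {K : Type u} [Field K] [Fintype K] [CharP K v]
    (hK : Fintype.card K = (v ^ f) ^ 3) (hf : 1 ≤ f) : D4Dat v (v ^ f) ↥(Lie.twistedD4 K (v ^ f)) := by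
  have hq : IsPrimePow (v ^ f) := hv.isPrimePow.pow (by omega)
  refine ⟨hv, ⟨f, hf, rfl⟩, ?_, ?_, H437.Iso.d4_order12 hq hK, H437.Iso.d4_orderA hq hK, H437.Iso.d4_orderB hq hK,
    Cfsg.Agent.S1067.result hq hK⟩
  · intro h3 x
    by_cases h5 : 5 ≤ v
    · have := Cfsg.Agent.R2.Spec.X1.TD.om_3D4 (p := v) (q := v ^ f) ⟨hv, h5, f, hf, rfl⟩ hK x
      rcases this with h | h | h | h | h | h
      · exact Or.inl h
      · exact Or.inr (Or.inl h)
      · exact Or.inr (Or.inr (Or.inl h))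
      · exact Or.inr (Or.inr (Or.inr (Or.inl h)))
      · exact Or.inr (Or.inr (Or.inr (Or.inr (Or.inl h))))
      · exact Or.inr (Or.inr (Or.inr (Or.inr (Or.inr (Or.inl (Or.inl h))))))
    · have h23 : v = 2 ∨ v = 3 := by
        have h2 := hv.two_le
        have h4 : v ≠ 4 := by rintro rfl; revert hv; decide
        omega
      exact d4_list (H378.OmD4.om_3D4 (p := v) (q := v ^ f) ⟨h23, ⟨f, hf, rfl⟩, h3⟩ hK x)
  · intro r hr h2 hd hn
    have := (d4_near hq hK hr h2 hd).resolve_left hn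
    exact_mod_cast this

theorem D4Dat.congr {v u : ℕ} {S X : Type*} [Group S] [Group X] (e : S ≃* X) (h : D4Dat v u X) : D4Dat v u S := by
  have key : ∀ {n : ℕ}, (∃ x : X, orderOf x = n) → ∃ x : S, orderOf x = n := by
    rintro n ⟨x, rfl⟩
    exact ⟨e.symm x, MulEquiv.orderOf_eq e.symm x⟩
  refine ⟨h.vp, h.pw, ?_, ?_, key h.ex12, key h.exA, key h.exB, ?_⟩
  · intro h3 x
    have := h.up h3 (e x)
    rwa [MulEquiv.orderOf_eq] at this
  · intro r hr h2 hd hn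
    rw [Nat.card_congr e.toEquiv] at hd
    exact h.near r hr h2 hd fun h1 => hn (key h1)
  · rw [Nat.card_congr e.toEquiv]
    exact h.card

section

variable {p q k A k' B m i : ℕ} {W : ℕ → Prop} {S : Type u} [Group S] {v u : ℕ}

/-- the case `k' ≤ u²` -/
theorem tor_small (h : LW p q k A k' B W) (hu : 7 ≤ u) {T : ℕ} (hTA : T ∣ A) (hT : u ^ 4 + 1 ≤ T + u ^ 2)
    (hk' : k' ≤ u ^ 2) : False := by
  have hA0 : 0 < A := by
    have := h.side.A_odd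
    omega
  have h1 := Nat.le_of_dvd hA0 hTA
  have h2 := (h.side.k_ge h.q2).2
  have h3 : 2 * A ≤ q ^ 3 + 1 := by rcases h.side.two_mul with h3 | h3 <;> omega
  have hqq : q ≤ q ^ 2 := Nat.le_self_pow two_ne_zero q
  have hq7 : (7 : ℤ) ≤ q := by exact_mod_cast h.q7
  have huz : (7 : ℤ) ≤ u := by exact_mod_cast hu
  have e1 : (q : ℤ) ^ 2 - q + 1 ≤ 3 * u ^ 2 := by
    have : q ^ 2 + 1 ≤ 3 * u ^ 2 + q := by omega
    have : (q : ℤ) ^ 2 + 1 ≤ 3 * u ^ 2 + q := by exact_mod_cast this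
    linarith
  have e2 : 2 * ((u : ℤ) ^ 4 + 1 - u ^ 2) ≤ (q : ℤ) ^ 3 + 1 := by
    have h4 : 2 * (u ^ 4 + 1) ≤ q ^ 3 + 1 + 2 * u ^ 2 := by omega
    have : 2 * ((u : ℤ) ^ 4 + 1) ≤ (q : ℤ) ^ 3 + 1 + 2 * u ^ 2 := by exact_mod_cast h4
    linarith
  have e3 : (q : ℤ) ^ 3 + 1 = (q + 1) * (q ^ 2 - q + 1) := by ring
  have e4 : ((q : ℤ) + 1) * (q ^ 2 - q + 1) ≤ (q + 1) * (3 * u ^ 2) := mul_le_mul_of_nonneg_left e1 (by linarith)
  have e5 : 2 * ((u : ℤ) ^ 2 - 1) < 3 * (q + 1) := by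
    have h5 : (u : ℤ) ^ 2 * (2 * ((u : ℤ) ^ 2 - 1)) < u ^ 2 * (3 * (q + 1)) := by nlinarith
    exact lt_of_mul_lt_mul_left h5 (by positivity)
  have e6 : 13 * (u : ℤ) < 3 * (q + 1) := by nlinarith
  nlinarith

theorem D4Dat.u2 (D : D4Dat v u S) : 2 ≤ u := by
  obtain ⟨f, hf, rfl⟩ := D.pw
  exact D.vp.two_le.trans (Nat.le_self_pow (by omega) v)

theorem D4Dat.vu (D : D4Dat v u S) : v ∣ u := by
  obtain ⟨f, hf, rfl⟩ := D.pw
  exact dvd_pow_self v (by omega)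

theorem e3_sub (hu : 1 ≤ u) : u ^ 2 + u + 1 ∣ (u ^ 3 - 1) * (u + 1) ∧ u ^ 2 - u + 1 ∣ (u ^ 3 + 1) * (u - 1) := by
  have e3 : u ^ 3 - 1 = (u ^ 2 + u + 1) * (u - 1) := by
    obtain ⟨c, rfl⟩ : ∃ c, u = c + 1 := ⟨u - 1, by omega⟩
    rw [Nat.add_sub_cancel]
    apply Nat.sub_eq_of_eq_add
    ring
  have e6 : u ^ 3 + 1 = (u ^ 2 - u + 1) * (u + 1) := by
    zify [le_sq (u := u)]
    ring
  rw [e3, e6]
  exact ⟨(dvd_mul_right _ _).mul_right _, (dvd_mul_right _ _).mul_right _⟩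

/-- the class of a prime `w ≠ v`, `w ≥ 5`, of an order -/
theorem D4Dat.cls (D : D4Dat v u S) (hu : 3 ≤ u) {x : S} {w n : ℕ} (hw : w.Prime) (hw5 : 5 ≤ w) (hwv : w ≠ v)
    (hn : orderOf x = n) (hwn : w ∣ n) : n ∣ u ^ 4 - u ^ 2 + 1 ∨ w ∣ (u ^ 3 - 1) * (u + 1) ∨
      w ∣ (u ^ 3 + 1) * (u - 1) := by
  have hv' : ¬ w ∣ v := fun hd => hwv ((Nat.prime_dvd_prime_iff_eq hw D.vp).1 hd)
  have h0 := D.up hu x
  rw [hn] at h0
  rcases h0 with h | h | h | h | h | (h | ⟨h, -⟩) | ⟨hp, h | h⟩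
  · exact Or.inl h
  · exact Or.inr (Or.inl (hwn.trans h))
  · exact Or.inr (Or.inr (hwn.trans h))
  · rcases hw.dvd_mul.1 (hwn.trans h) with h1 | h1
    · exact absurd h1 hv'
    · exact Or.inr (Or.inl (h1.mul_right _))
  · rcases hw.dvd_mul.1 (hwn.trans h) with h1 | h1
    · exact absurd h1 hv'
    · exact Or.inr (Or.inr (h1.mul_right _))
  · exact absurd (hw.dvd_of_dvd_pow (hwn.trans h)) hv'
  · exact absurd (hw.dvd_of_dvd_pow (hwn.trans h)) hv'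
  · rcases hw.dvd_mul.1 (hwn.trans h) with h1 | h1
    · have := Nat.le_of_dvd (by norm_num) h1
      omega
    · exact Or.inr (Or.inl (h1.trans (e3_sub (by omega)).1))
  · rcases hw.dvd_mul.1 (hwn.trans h) with h1 | h1
    · have := Nat.le_of_dvd (by norm_num) h1
      omega
    · exact Or.inr (Or.inr (h1.trans (e3_sub (by omega)).2))

theorem not_dvd_v {r v u : ℕ} (hr : 5 ≤ r) (hvu : v ∣ u) (h1 : (r : ℤ) ∣ (u : ℤ) ^ 4 - u ^ 2 + 1) : ¬ r ∣ v := by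
  intro hrv
  have h2 : (r : ℤ) ∣ u := by exact_mod_cast hrv.trans hvu
  have h3 : (r : ℤ) ∣ 1 := by
    have := dvd_sub h1 (h2.mul_right ((u : ℤ) ^ 3 - u))
    have e : (u : ℤ) ^ 4 - u ^ 2 + 1 - u * (u ^ 3 - u) = 1 := by ring
    rwa [e] at this
  have := Int.le_of_dvd (by norm_num) h3
  omega

/-- the torus of `k` -/
theorem d4_kT (h : SX p q k A k' B m i W S) (hg : Good W m i) (D : D4Dat v u S) (hu : 3 ≤ u) :
    k ∣ u ^ 4 - u ^ 2 + 1 := by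
  obtain ⟨r, hr, hrk⟩ := Nat.exists_prime_and_dvd h.lw.k_pos.1.ne'
  have hr7 := SX.prime h hr (Or.inl hrk)
  obtain ⟨x, hx⟩ := h.kS hg
  have hgk := h.good_k hg hr hrk
  have hdS := h.dvd_card hr (h.W_prime hr (Or.inl hrk)) hgk.1 hgk.2
  have hnear := D.near r hr (by omega) hdS (h.twoS hr hrk)
  have hrv : r ≠ v := by
    rintro rfl
    exact not_dvd_v (by omega) D.vu hnear dvd_rfl
  have hcop := f4_cop12 (show 1 ≤ u by omega) (by omega) hnear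
  rcases D.cls hu hr (by omega) hrv hx hrk with h1 | h1 | h1
  · exact h1
  · exact absurd h1 hcop.1
  · exact absurd h1 hcop.2.1

theorem d4_I (h : SX p q k A k' B m i W S) (hg : Good W m i) (D : D4Dat v u S) (hvp : v ≠ p) (hu : 4 ≤ u)
    (h1 : ∀ r : ℕ, r.Prime → r ∣ k' → ¬ r ∣ m ∧ ¬ r ∣ i) : False := by
  obtain ⟨x, hx⟩ := SX.k'S h h1
  have hk25 := (k_ge h.lw).2
  have hkT := d4_kT h hg D (by omega)
  have hTA := SX.dvdA h D.ex12 hkT
  have hvu : v ≤ u := Nat.le_of_dvd (by omega) D.vu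
  have hp7 : ∀ w : ℕ, w.Prime → w ∣ k' → 7 ≤ w := fun w hw hwk => SX.prime h hw (Or.inr hwk)
  have bA : (u ^ 3 - 1) * (u + 1) ≤ u ^ 4 + u ^ 3 + u ^ 2 + u := by
    zify [Nat.one_le_pow 3 u (show 1 ≤ u by omega)]
    nlinarith [sq_nonneg (u : ℤ), (by positivity : (0 : ℤ) ≤ u)]
  have bB : (u ^ 3 + 1) * (u - 1) ≤ u ^ 4 + u ^ 3 + u ^ 2 + u := by
    zify [show 1 ≤ u by omega]
    nlinarith [sq_nonneg (u : ℤ), (by positivity : (0 : ℤ) ≤ u), (by positivity : (0 : ℤ) ≤ (u : ℤ) ^ 3)]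
  have bV : v * (u ^ 3 + 1) ≤ u ^ 4 + u ^ 3 + u ^ 2 + u := by
    have h2 : v * (u ^ 3 + 1) ≤ u * (u ^ 3 + 1) := Nat.mul_le_mul_right _ hvu
    have h3 : u * (u ^ 3 + 1) = u ^ 4 + u := by ring
    omega
  have b16 : 16 ≤ u ^ 2 := by
    calc 16 = 4 ^ 2 := by norm_num
      _ ≤ u ^ 2 := Nat.pow_le_pow_left hu 2
  have b4 : 16 * u ^ 2 ≤ u ^ 4 := by
    have e : u ^ 4 = u ^ 2 * u ^ 2 := by ring
    rw [e]
    exact Nat.mul_le_mul_right _ b16
  have b3 : 4 * u ^ 2 ≤ u ^ 3 := by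
    have e : u ^ 3 = u * u ^ 2 := by ring
    rw [e]
    exact Nat.mul_le_mul_right _ hu
  have hu3 : 1 < u ^ 3 := by omega
  have b1 := le_sq (u := u)
  have hle : k' ≤ u ^ 4 + u ^ 3 + u ^ 2 + u := by
    have h0 := D.up (by omega) x
    rw [hx] at h0
    have hv0 := D.vp.pos
    rcases h0 with h | h | h | h | h | (h | ⟨h, hp⟩) | ⟨hp, h | h⟩
    · have := Nat.le_of_dvd (by omega) h; omega
    · exact (Nat.le_of_dvd (Nat.mul_pos (by omega) (by omega)) h).trans bA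
    · exact (Nat.le_of_dvd (Nat.mul_pos (by omega) (by omega)) h).trans bB
    · have h2 := Nat.le_of_dvd (Nat.mul_pos hv0 (by omega)) h
      have h3 : v * (u ^ 3 - 1) ≤ v * (u ^ 3 + 1) := Nat.mul_le_mul_left _ (by omega)
      omega
    · have h2 := Nat.le_of_dvd (Nat.mul_pos hv0 (by omega)) h
      omega
    · have h2 := Nat.le_of_dvd (pow_pos hv0 2) h
      have h3 : v ^ 2 ≤ u ^ 2 := Nat.pow_le_pow_left hvu 2
      omega
    · rw [hp] at h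
      have := Nat.le_of_dvd (by norm_num) h
      omega
    · have := Nat.le_of_dvd (by positivity) h
      omega
    · have := Nat.le_of_dvd (by positivity) h
      omega
  by_cases hall : ∃ w : ℕ, w.Prime ∧ w ∣ k' ∧ w ≠ v
  · obtain ⟨w, hw, hwk, hwv⟩ := hall
    have hw7 := hp7 w hw hwk
    rcases D.cls (by omega) hw (by omega) hwv hx hwk with h2 | h2 | h2
    · obtain ⟨y, hy⟩ := D.ex12
      obtain ⟨s, hs, hsk⟩ := Nat.exists_prime_and_dvd h.lw.k_pos.1.ne'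
      have hWT := h.WS y
      rw [hy] at hWT
      exact h.lw.na hs hsk hw hwk hWT (hsk.trans hkT) (hwk.trans h2)
    · exact f4_12AB h D.vp D.pw hvp hu hkT hTA hle (Or.inl (SX.dvdB h D.exA hw hwk h2))
    · exact f4_12AB h D.vp D.pw hvp hu hkT hTA hle (Or.inr (SX.dvdB h D.exB hw hwk h2))
  · push Not at hall
    obtain ⟨r, hr, hrk⟩ := Nat.exists_prime_and_dvd (show k' ≠ 1 by omega)
    have hrv := hall r hr hrk
    have hv7 : 7 ≤ v := by rw [← hrv]; exact hp7 r hr hrk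
    -- `k'` divides `v ^ 2`
    have cop : ∀ n : ℕ, ¬ v ∣ n → k'.Coprime n := by
      intro n hn
      refine Nat.Coprime.symm (Nat.coprime_of_dvd fun y hy hyn hyk => ?_)
      rw [hall y hy hyk] at hyn
      exact hn hyn
    have nv3 : ¬ v ∣ u ^ 3 - 1 := by
      intro hd
      have h2 : v ∣ u ^ 3 := D.vu.trans (dvd_pow_self u (by norm_num))
      have h3 : v ∣ u ^ 3 - (u ^ 3 - 1) := Nat.dvd_sub h2 hd
      rw [show u ^ 3 - (u ^ 3 - 1) = 1 by omega] at h3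
      exact D.vp.one_lt.ne' (Nat.dvd_one.1 h3)
    have nv3' : ¬ v ∣ u ^ 3 + 1 := by
      intro hd
      have h2 : v ∣ u ^ 3 := D.vu.trans (dvd_pow_self u (by norm_num))
      have h3 := (Nat.dvd_add_right h2).1 hd
      exact D.vp.one_lt.ne' (Nat.dvd_one.1 h3)
    have nv1 : ¬ v ∣ u + 1 := by
      intro hd
      have h3 := (Nat.dvd_add_right D.vu).1 hd
      exact D.vp.one_lt.ne' (Nat.dvd_one.1 h3)
    have nv1' : ¬ v ∣ u - 1 := by
      intro hd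
      have h3 : v ∣ u - (u - 1) := Nat.dvd_sub D.vu hd
      rw [show u - (u - 1) = 1 by omega] at h3
      exact D.vp.one_lt.ne' (Nat.dvd_one.1 h3)
    have nv12 : ¬ v ∣ u ^ 4 - u ^ 2 + 1 := by
      intro hd
      have h3 : (v : ℤ) ∣ (u : ℤ) ^ 4 - u ^ 2 + 1 := by rw [← f4c12]; exact_mod_cast hd
      exact not_dvd_v (by omega) D.vu h3 dvd_rfl
    have hk2 : k' ∣ v ^ 2 := by
      have h0 := D.up (by omega) x
      rw [hx] at h0
      have hone : ∀ n : ℕ, k' ∣ n → ¬ v ∣ n → k' ∣ v ^ 2 := fun n h2 h3 => by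
        rw [Nat.Coprime.eq_one_of_dvd (cop n h3) h2]
        exact one_dvd _
      have hv2 : v ∣ v ^ 2 := dvd_pow_self v two_ne_zero
      rcases h0 with h | h | h | h | h | (h | ⟨h, hp⟩) | ⟨hp, h | h⟩
      · exact hone _ h nv12
      · exact hone _ h fun hd => (D.vp.dvd_mul.1 hd).elim nv3 nv1
      · exact hone _ h fun hd => (D.vp.dvd_mul.1 hd).elim nv3' nv1'
      · exact ((cop _ nv3).dvd_of_dvd_mul_right h).trans hv2
      · exact ((cop _ nv3').dvd_of_dvd_mul_right h).trans hv2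
      · exact h
      · omega
      · omega
      · omega
    have hk3 := Nat.le_of_dvd (pow_pos D.vp.pos 2) hk2
    have h3 : v ^ 2 ≤ u ^ 2 := Nat.pow_le_pow_left hvu 2
    exact tor_small h.lw (by omega) hTA f4_hT (by omega)

/-- cyclic Sylow subgroups -/
theorem D4Dat.cyc (D : D4Dat v u S) (hu : 3 ≤ u) [Finite S] {y : ℕ} (hy : y.Prime) (hy2 : y ≠ 2)
    (hyS : y ∣ Nat.card S) (hx : ∃ x : S, y ^ (Nat.card S).factorization y ∣ orderOf x) :
    y ≠ v ∧ y ∣ u ^ 4 - u ^ 2 + 1 := by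
  obtain ⟨x, hx⟩ := hx
  have hn0 : Nat.card S ≠ 0 := Nat.card_pos.ne'
  have hyf : 1 ≤ (Nat.card S).factorization y :=
    (hy.pow_dvd_iff_le_factorization hn0).1 (show y ^ 1 ∣ Nat.card S by rwa [pow_one])
  have hya : y ∣ y ^ (Nat.card S).factorization y := dvd_pow_self y (by omega)
  have hv0 := D.vp.pos
  have hvu : v ≤ u := Nat.le_of_dvd (by omega) D.vu
  have hyv : y ≠ v := by
    rintro rfl
    obtain ⟨f, hf, hu'⟩ := D.pw
    have h1 : y ^ (f * 12) ∣ Nat.card S := by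
      rw [pow_mul, ← hu', D.card]
      exact ((dvd_mul_right _ _).mul_right _).mul_right _
    have h2 := (hy.pow_dvd_iff_le_factorization hn0).1 h1
    have h3 : u ^ 12 ∣ orderOf x := by
      rw [hu', ← pow_mul]
      exact (pow_dvd_pow y h2).trans hx
    have h4 := Nat.le_of_dvd (orderOf_pos x) h3
    have hu3 : 27 ≤ u ^ 3 := by
      calc 27 = 3 ^ 3 := by norm_num
        _ ≤ u ^ 3 := Nat.pow_le_pow_left hu 3
    have hu2 : 9 ≤ u ^ 2 := by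
      calc 9 = 3 ^ 2 := by norm_num
        _ ≤ u ^ 2 := Nat.pow_le_pow_left hu 2
    have h5 : orderOf x ≤ (u ^ 3 + 1) * (u + 1) := by
      have g : ∀ n : ℕ, 0 < n → orderOf x ∣ n → n ≤ (u ^ 3 + 1) * (u + 1) → orderOf x ≤ (u ^ 3 + 1) * (u + 1) :=
        fun n h1 h2 h3 => (Nat.le_of_dvd h1 h2).trans h3
      have e : (u ^ 3 + 1) * (u + 1) = u ^ 4 + u ^ 3 + u + 1 := by ring
      have e' : u ^ 4 = u ^ 3 * u := by ring
      have e3 : u ^ 3 = u ^ 2 * u := by ring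
      have hyu : y * (u ^ 3 + 1) ≤ (u ^ 3 + 1) * (u + 1) := by
        rw [mul_comm y]
        exact Nat.mul_le_mul_left _ (by omega)
      have hle3 : 9 * u ≤ u ^ 3 := by rw [e3]; exact Nat.mul_le_mul_right _ hu2
      have hle2 : 3 * u ^ 2 ≤ u ^ 3 := by rw [e3, mul_comm]; exact Nat.mul_le_mul_left _ hu
      rcases D.up hu x with h | h | h | h | h | (h | ⟨h, hp⟩) | ⟨hp, h | h⟩
      · exact g _ (by omega) h (by omega)
      · exact g _ (Nat.mul_pos (by omega) (by omega)) h (Nat.mul_le_mul_right _ (by omega))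
      · exact g _ (Nat.mul_pos (by omega) (by omega)) h (Nat.mul_le_mul_left _ (by omega))
      · exact g _ (Nat.mul_pos hv0 (by omega)) h ((Nat.mul_le_mul_left _ (by omega)).trans hyu)
      · exact g _ (Nat.mul_pos hv0 (by omega)) h hyu
      · refine g _ (pow_pos hv0 2) h ?_
        have : y ^ 2 ≤ u ^ 2 := Nat.pow_le_pow_left hvu 2
        omega
      · refine g _ (pow_pos hv0 3) h ?_
        rw [hp]
        omega
      · exact g _ (by positivity) h (by omega)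
      · exact g _ (by positivity) h (by omega)
    have h6 : (u ^ 3 + 1) * (u + 1) < u ^ 12 := by
      obtain ⟨t, rfl⟩ : ∃ t, u = t + 3 := ⟨u - 3, by omega⟩
      zify
      apply pos_lt
      ring_nf
      positivity
    omega
  refine ⟨hyv, ?_⟩
  have hu1 : 1 ≤ u := by omega
  have f3 : u ^ 6 - 1 = (u ^ 3 - 1) * (u ^ 3 + 1) := by
    have := Nat.one_le_pow 3 u (by omega)
    obtain ⟨t, ht⟩ : ∃ t, u ^ 3 = t + 1 := ⟨u ^ 3 - 1, by omega⟩
    rw [show u ^ 6 = (u ^ 3) ^ 2 by ring, ht, Nat.add_sub_cancel]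
    have : (t + 1) ^ 2 = t * (t + 1 + 1) + 1 := by ring
    omega
  have hA : (u ^ 3 - 1) * (u + 1) ∣ u ^ 6 - 1 := by
    rw [f3]
    have := Odd.nat_add_dvd_pow_add_pow u 1 (n := 3) (by decide)
    rw [one_pow] at this
    exact mul_dvd_mul_left _ this
  have hB : (u ^ 3 + 1) * (u - 1) ∣ u ^ 6 - 1 := by
    rw [f3, mul_comm]
    exact mul_dvd_mul_right (by simpa using Nat.sub_one_dvd_pow_sub_one u 3) _
  have d2 : (u ^ 6 - 1) * (u ^ 6 - 1) ∣ Nat.card S := by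
    rw [D.card]
    have e : u ^ 12 * (u ^ 2 - 1) * (u ^ 6 - 1) * (u ^ 8 + u ^ 4 + 1) =
        (u ^ 6 - 1) * (u ^ 6 - 1) * (u ^ 12 * (u ^ 4 - u ^ 2 + 1)) := by
      have h24 : u ^ 2 ≤ u ^ 4 := Nat.pow_le_pow_right hu1 (by norm_num)
      zify [Nat.one_le_pow 2 u hu1, Nat.one_le_pow 6 u hu1, h24]
      ring
    rw [e]
    exact dvd_mul_right _ _
  have k6 : ¬ y ^ (Nat.card S).factorization y ∣ u ^ 6 - 1 := fun hd => fact_lt hy hn0 hyS d2 hd hd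
  have hcy : ∀ e n : ℕ, y ^ (Nat.card S).factorization y ∣ v ^ e * n → y ^ (Nat.card S).factorization y ∣ n :=
    fun e n hd => (Nat.Coprime.pow_left _ (Nat.Coprime.pow_right _ ((Nat.coprime_primes hy D.vp).2 hyv))).dvd_of_dvd_mul_left hd
  have hdv : ∀ e : ℕ, ¬ orderOf x ∣ v ^ e := fun e hd =>
    hyv ((Nat.prime_dvd_prime_iff_eq hy D.vp).1 (hy.dvd_of_dvd_pow ((hya.trans hx).trans hd)))
  have c4 : (y ^ (Nat.card S).factorization y).Coprime 4 := by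
    have : (4 : ℕ) = 2 ^ 2 := by norm_num
    rw [this]
    exact Nat.Coprime.pow_left _ (Nat.Coprime.pow_right _ ((Nat.coprime_primes hy Nat.prime_two).2 hy2))
  rcases D.up hu x with h | h | h | h | h | (h | ⟨h, hp⟩) | ⟨hp, h | h⟩
  · exact hya.trans (hx.trans h)
  · exact absurd (hx.trans (h.trans hA)) k6
  · exact absurd (hx.trans (h.trans hB)) k6
  · refine absurd ((hcy 1 _ (by rw [pow_one]; exact hx.trans h)).trans ?_) k6
    rw [f3]; exact dvd_mul_right _ _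
  · refine absurd ((hcy 1 _ (by rw [pow_one]; exact hx.trans h)).trans ?_) k6
    rw [f3]; exact dvd_mul_left _ _
  · exact absurd h (hdv _)
  · exact absurd h (hdv _)
  · exact absurd (((c4.dvd_of_dvd_mul_left (hx.trans h)).trans (e3_sub hu1).1).trans hA) k6
  · exact absurd (((c4.dvd_of_dvd_mul_left (hx.trans h)).trans (e3_sub hu1).2).trans hB) k6

theorem d4_II (h : SX p q k A k' B m i W S) (hg : Good W m i) (D : D4Dat v u S) (hvp : v ≠ p) (hu : 3 ≤ u)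
    (hF : ∀ w : ℕ, w.Prime → 5 ≤ w → F1.FldDat v w S) (hw : ∃ w : ℕ, w.Prime ∧ w ∣ k' ∧ w ∣ m * i)
    (h2 : ∀ r : ℕ, r.Prime → (r ∣ (q ^ 2 + 1) / 2 ∨ r = p) → ¬ r ∣ m ∧ ¬ r ∣ i) : False := by
  have := h.fin
  obtain ⟨w, hwp, hwk, hwmi⟩ := hw
  have hw7 := SX.prime h hwp (Or.inr hwk)
  have hwm : w ∣ m := by
    rcases hwp.dvd_mul.1 hwmi with h3 | h3
    · exact h3
    · exact (SX.noFld h hwp hwk h3 h2 (hF w hwp (by omega))).elim
  have hz25 := z_ge h.lw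
  -- a prime of `z`
  obtain ⟨y, hy, hyz⟩ := Nat.exists_prime_and_dvd (show (q ^ 2 + 1) / 2 ≠ 1 by omega)
  have hy5 := (h.lw.side.z_prime h.lw.q2 hy hyz).1
  have hyS : y ∣ Nat.card S := h.dvd_card hy (h.W_prime hy (Or.inr (Or.inr (Or.inl hyz)))) (h2 y hy (Or.inl hyz)).1
    (h2 y hy (Or.inl hyz)).2
  obtain ⟨hyv, hyT⟩ := D.cyc hu hy (by omega) hyS (SX.cyc h hwp hwk hwm hy (Or.inl hyz))
  obtain ⟨g, hg'⟩ := D.ex12
  obtain ⟨s, hs, hsk⟩ := Nat.exists_prime_and_dvd h.lw.k_pos.1.ne'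
  have hkT := d4_kT h hg D hu
  have hWT := h.WS g
  rw [hg'] at hWT
  exact h.lw.naz hs (Or.inl hsk) hy (Or.inl hyz) hWT (hsk.trans hkT) hyT

/-- **Row `³D₄(u)`.** -/
theorem row_td4 {v f : ℕ} (h : SX p q k A k' B m i W S) (hg : Good W m i) (hI : Fam.Is v f S Fam.td4) (hv : v.Prime)
    (hvp : v ≠ p) : False := by
  have hfin := h.fin
  have hF : ∀ w : ℕ, w.Prime → 5 ≤ w → F1.FldDat v w S := fun w hw hw5 =>
    fldDat_exc (t := Fam.td4) trivial hv hI hw hw5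
  obtain ⟨F, _, _, _, hcard, ⟨e⟩⟩ := hI
  have hf := f_pos_of_card hcard
  have D : D4Dat v (v ^ f) S := (d4Dat hv hcard hf).congr e
  have hk19 := (k_ge h.lw).1
  have hu2 := D.u2
  have hu3 : 3 ≤ v ^ f := by
    by_contra hcon
    have h5 : v ^ f = 2 := by omega
    -- `k` is a power of `13`
    have h13 : ∀ r : ℕ, r.Prime → r ∣ k → r = 13 := by
      intro r hr hrk
      have hr7 := SX.prime h hr (Or.inl hrk)
      have hgk := h.good_k hg hr hrk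
      have hdS := h.dvd_card hr (h.W_prime hr (Or.inl hrk)) hgk.1 hgk.2
      have hnear := D.near r hr (by omega) hdS (h.twoS hr hrk)
      rw [h5] at hnear
      norm_num at hnear
      have : r ∣ 13 := by exact_mod_cast hnear
      exact (Nat.prime_dvd_prime_iff_eq hr (by norm_num)).1 this
    obtain ⟨x, hx⟩ := h.kS hg
    have hkS : k ∣ Nat.card S := by rw [← hx]; exact orderOf_dvd_natCard x
    have hk1 : k = 13 ^ k.primeFactorsList.length := Nat.eq_prime_pow_of_unique_prime_dvd (by omega) fun {r} hr hrk => h13 r hr hrk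
    rw [D.card, h5] at hkS
    have h6 : k.primeFactorsList.length ≤ 1 := by
      by_contra h7
      have h8 : 13 ^ 2 ∣ k := by
        rw [hk1]
        exact pow_dvd_pow 13 (by omega)
      have h9 := h8.trans hkS
      norm_num at h9
    have : 13 ^ k.primeFactorsList.length ≤ 13 ^ 1 := Nat.pow_le_pow_right (by norm_num) h6
    omega
  rcases h.dich with h1 | ⟨hw, h2⟩
  · by_cases hu : 4 ≤ v ^ f
    · exact d4_I h hg D hvp hu h1
    · have h5 : v ^ f = 3 := by omega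
      have h6 := d4_kT h hg D hu3
      rw [h5] at h6
      norm_num at h6
      exact k73 h.lw h6 hv (by rw [← h5]; exact dvd_pow_self v (by omega)) hvp
  · exact d4_II h hg D hvp hu3 hF hw h2

end

end Cfsg.Agent.R2.Spec.X4.H18
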