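import Cfsg.Agent.R2.Spec.F1.Fld
import Cfsg.Agent.H967.FaTw

/-!
# S3435, box X4 : field automorphisms of the exceptional groups (helper18)

`fldDat_exc` : `FldDat v r S` for `G₂, F₄, E₆, ³D₄, ²E₆, ²F₄` and all primes `r ≥ 5`.
-/

set_option autoImplicit false
set_option linter.unusedSectionVars false

namespace Cfsg.Agent.R2.Spec.X4.H18

open Cfsg Cfsg.Lie
open Cfsg.Agent.H426.LieFam Cfsg.Agent.H414.LieShape Cfsg.Agent.H967.CopMat Cfsg.Agent.H967.CopRow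
  Cfsg.Agent.H967.CopChev Cfsg.Agent.H967.CopSz Cfsg.Agent.H967.CopTw Cfsg.Agent.H967.CopFix
  Cfsg.Agent.H967.CopD4 Cfsg.Agent.H967.FaBase Cfsg.Agent.H967.FaChev Cfsg.Agent.H967.FaTw

universe u

/-- the criterion for matrix groups -/
theorem fldDat_mat {ι : Type*} [Fintype ι] [DecidableEq ι] {F : Type*} [Field F] [Fintype F] {G : Subgroup (GL ι F)}
    (hG : Stab G) {v n r c : ℕ} [Fact v.Prime] [CharP F v] (hn : 1 ≤ n) (hF : Fintype.card F = v ^ n)
    (hr : r.Prime) (hrc : ¬ r ∣ c)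
    (hinn : ∀ σ : F ≃+* F, σ ≠ 1 → fieldAut hG σ ∉ Cfsg.Inn ↥G)
    (hc : Nat.card (Cfsg.Out ↥G) ∣ c * n)
    (hfix : ∀ σ : F ≃+* F, orderOf σ = r → ∀ x : ℕ, x.Prime → (x = v ∨ 5 ≤ x ∧ x % r ≠ 1) → x ∣ Nat.card ↥G →
      ∃ g : ↥G, orderOf g = x ∧ fieldAut hG σ g = g) : F1.FldDat v r ↥G := by
  obtain ⟨ρ, hρ⟩ := exists_ringAut v n hF
  have hinj : ∀ σ : F ≃+* F, fieldAut hG σ = 1 → σ = 1 := by
    intro σ hσ
    by_contra h1
    exact hinn σ h1 (by rw [hσ]; exact one_mem _)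
  have hfin : Function.Injective (fieldAut hG) := (injective_iff_map_eq_one _).2 hinj
  refine ⟨fieldAut hG ρ, ?_, ?_, ?_⟩
  · intro k hk
    rw [← map_pow] at hk ⊢
    by_contra h1
    refine hinn (ρ ^ k) ?_ hk
    rintro h2
    exact h1 (by rw [h2, map_one])
  · intro k hk
    rw [orderOf_injective _ hfin, hρ]
    exact Nat.Coprime.dvd_of_dvd_mul_left (Nat.Coprime.pow_left _ ((Nat.Prime.coprime_iff_not_dvd hr).2 hrc))
      (hk.trans hc)
  · intro k hk x hx hxc hd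
    rw [← map_pow, orderOf_injective _ hfin] at hk
    rw [← map_pow]
    exact hfix _ hk x hx hxc hd

theorem fac_dvd' {x r : ℕ} (hx : x.Prime) (hx5 : 5 ≤ x) (hr : r.Prime) (hr5 : 5 ≤ r) (hxr : x % r ≠ 1) {q : ℕ}
    (hq : 1 ≤ q) {a : Fac} (h : x ∣ a.val (q ^ r)) : x ∣ a.val q := by
  by_cases ha : a = Fac.tri
  · subst ha
    change x ∣ (q ^ r) ^ 8 + (q ^ r) ^ 4 + 1 at h
    change x ∣ q ^ 8 + q ^ 4 + 1
    have := Fact.mk hx
    rw [← ZMod.natCast_eq_zero_iff] at h ⊢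
    push_cast at h ⊢
    have h1 : ((q : ZMod x) ^ 12) ^ r = 1 := by
      have h2 : (((q : ZMod x) ^ r) ^ 12 : ZMod x) = 1 := by
        linear_combination (((q : ZMod x) ^ r) ^ 4 - 1) * h
      rw [← h2, ← pow_mul, ← pow_mul, mul_comm]
    have h3 := F1.pow_eq_one_of_mod hx hr hxr h1
    have h4 : (q : ZMod x) ^ 4 ≠ 1 := by
      intro h5
      have h6 : ((q : ZMod x) ^ r) ^ 4 = 1 := by
        rw [← pow_mul, mul_comm, pow_mul, h5, one_pow]
      have h7 : ((q : ZMod x) ^ r) ^ 8 = 1 := by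
        rw [show (8 : ℕ) = 4 * 2 by norm_num, pow_mul, h6, one_pow]
      rw [h6, h7] at h
      have h8 : ((3 : ℕ) : ZMod x) = 0 := by
        push_cast
        linear_combination h
      rw [ZMod.natCast_eq_zero_iff] at h8
      have := Nat.le_of_dvd (by norm_num) h8
      omega
    have h5 : ((q : ZMod x) ^ 4 - 1) * ((q : ZMod x) ^ 8 + (q : ZMod x) ^ 4 + 1) = 0 := by
      linear_combination h3
    exact (mul_eq_zero.1 h5).resolve_left (sub_ne_zero.2 h4)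
  · exact F1.fac_dvd hx hr hr5 hxr hq ha h

theorem dvd_small' {v f₀ r c d N c₀ d₀ N₀ : ℕ} {l : List Fac} (hv : v.Prime) (hr : r.Prime) (hr5 : 5 ≤ r)
    (h : Sh v c (f₀ * r) d N l) (h₀ : Sh v c₀ f₀ d₀ N₀ l) {x : ℕ} (hx : x.Prime)
    (hxc : x = v ∨ 5 ≤ x ∧ x % r ≠ 1) (hd : x ∣ c) : x ∣ c₀ := by
  by_cases hxv : x = v
  · rw [hxv]
    exact h₀.chr
  · obtain ⟨h5, hxr⟩ := hxc.resolve_left hxv
    obtain ⟨a, ha, had⟩ := h.exists_fac hv hx hxv hd
    refine h₀.dvd_of_fac hx h5 ha (fac_dvd' hx h5 hr hr5 hxr (Nat.one_le_pow _ _ hv.pos) ?_)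
    rwa [← pow_mul]

/-! ### the shapes -/

section sh

variable {F : Type*} [Field F] [Fintype F] {v : ℕ}

theorem sh_g2 {f : ℕ} (hf : 1 ≤ f) (hcard : Fintype.card F = v ^ f) (hv : v.Prime) :
    Sh v (Nat.card ↥(chevG2.group F)) f 1 6 Fam.g2.facs := by
  refine sh_list hv (by norm_num) (Nat.coprime_one_left _) hf (by norm_num) (by norm_num) ?_
  rw [one_mul, Cfsg.Agent.S1059.result hcard]
  simp only [Fam.facs, List.map_cons, List.map_nil, List.prod_cons, List.prod_nil, Fac.val]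
  ring

theorem sh_f4 {f : ℕ} (hf : 1 ≤ f) (hcard : Fintype.card F = v ^ f) (hv : v.Prime) :
    Sh v (Nat.card ↥(chevF4.group F)) f 1 24 Fam.f4.facs := by
  refine sh_list hv (by norm_num) (Nat.coprime_one_left _) hf (by norm_num) (by norm_num) ?_
  rw [one_mul, Cfsg.Agent.S1062.result hcard]
  simp only [Fam.facs, List.map_cons, List.map_nil, List.prod_cons, List.prod_nil, Fac.val]
  ring

theorem sh_e6 {f : ℕ} (hf : 1 ≤ f) (hcard : Fintype.card F = v ^ f) (hv : v.Prime) :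
    Sh v (Nat.card ↥(chevE6.group F)) f (Nat.gcd 3 (v ^ f - 1)) 36 Fam.e6.facs := by
  have hg3 : Nat.gcd 3 (v ^ f - 1) ∣ 12 := (Nat.gcd_dvd_left _ _).trans (by norm_num)
  have hg3' : Nat.gcd 3 (v ^ f - 1) < 5 :=
    lt_of_le_of_lt (Nat.le_of_dvd (by norm_num) (Nat.gcd_dvd_left _ _)) (by norm_num)
  refine sh_list hv (by norm_num) (by
    have := cop_gcd_sub (m := 3) (k := 1) (f := f) hv le_rfl
    rwa [pow_one] at this) hf hg3 hg3' ?_
  rw [Cfsg.Agent.S1063.result hcard]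
  simp only [Fam.facs, List.map_cons, List.map_nil, List.prod_cons, List.prod_nil, Fac.val]
  ring

theorem sh_te6 {f : ℕ} (hf : 1 ≤ f) (hcard : Fintype.card F = (v ^ f) ^ 2) (hv : v.Prime) :
    Sh v (Nat.card ↥(twistedE6 F (v ^ f))) f (Nat.gcd 3 (v ^ f + 1)) 36 Fam.te6.facs := by
  refine sh_list hv (by norm_num) (by
      have := cop_gcd_add (m := 3) (k := 1) (f := f) (r := v) le_rfl
      rwa [pow_one] at this) hf
    ((Nat.gcd_dvd_left 3 (v ^ f + 1)).trans (by norm_num))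
    (lt_of_le_of_lt (Nat.le_of_dvd (by norm_num) (Nat.gcd_dvd_left _ _)) (by norm_num)) ?_
  rw [Cfsg.Agent.S1066.result (hv.isPrimePow.pow (by omega)) hcard]
  simp only [Fam.facs, List.map_cons, List.map_nil, List.prod_cons, List.prod_nil, Fac.val]
  ring

theorem sh_td4 {f : ℕ} (hf : 1 ≤ f) (hcard : Fintype.card F = (v ^ f) ^ 3) (hv : v.Prime) :
    Sh v (Nat.card ↥(twistedD4 F (v ^ f))) f 1 12 Fam.td4.facs := by
  refine sh_list hv (by norm_num) (Nat.coprime_one_left _) hf (by norm_num) (by norm_num) ?_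
  rw [one_mul, Cfsg.Agent.S1067.result (hv.isPrimePow.pow (by omega)) hcard]
  simp only [Fam.facs, List.map_cons, List.map_nil, List.prod_cons, List.prod_nil, Fac.val]
  ring

theorem sh_tf4 {m : ℕ} (hcard : Fintype.card F = 2 ^ (2 * m + 1)) :
    Sh 2 (Nat.card ↥(twistedF4 F (2 ^ m))) (2 * m + 1) 1 12 Fam.tf4.facs := by
  refine sh_list (f := 2 * m + 1) Nat.prime_two (by norm_num) (Nat.coprime_one_left _) (by omega) (by norm_num)
    (by norm_num) ?_
  rw [one_mul, Cfsg.Agent.S1068.result hcard]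
  simp only [Fam.facs, List.map_cons, List.map_nil, List.prod_cons, List.prod_nil, Fac.val, pow_one]
  ring

end sh

/-- exponents of the field of fixed elements -/
theorem exists_exp {v n r N : ℕ} (hv : v.Prime) (hn : n ≠ 0) (hr : r.Prime) (h : v ^ n = N ^ r) :
    ∃ f₀, 1 ≤ f₀ ∧ N = v ^ f₀ ∧ n = f₀ * r := by
  obtain ⟨k, hk, hkn⟩ := exists_log hv hr.ne_zero h
  refine ⟨k, ?_, hk, hkn.symm⟩
  rcases Nat.eq_zero_or_pos k with h0 | h0
  · rw [h0, zero_mul] at hkn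
    exact absurd hkn.symm hn
  · exact h0

theorem not_dvd_of_lt {r c : ℕ} (hr5 : 5 ≤ r) (hc : 0 < c) (h : c < 5) : ¬ r ∣ c := by
  intro h1
  have := Nat.le_of_dvd hc h1
  omega

section fam

variable {F : Type} [Field F] [Fintype F] {v f r : ℕ}

theorem fldDat_g2 (hv : v.Prime) [CharP F v] (hF : Fintype.card F = v ^ f) (h3 : 3 ≤ v ^ f) (hr : r.Prime)
    (hr5 : 5 ≤ r) : F1.FldDat v r ↥(chevG2.group F) := by
  have := Fact.mk hv
  have hf : 1 ≤ f := by
    rcases Nat.eq_zero_or_pos f with h0 | h0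
    · rw [h0, pow_zero] at h3
      omega
    · exact h0
  refine fldDat_mat (stab_group chevG2 F) hf hF hr (not_dvd_of_lt hr5 two_pos (by norm_num))
    (fun σ hσ => not_inner (by simp) σ hσ) ?_ ?_
  · rw [S2121.result v f hF h3]
    split_ifs
    · exact dvd_rfl
    · exact dvd_mul_left _ _
  · intro σ hσ x hx hxc hd
    have : Fintype ↥(Fx σ) := Fintype.ofFinite _
    have h1 : v ^ f = Nat.card ↥(Fx σ) ^ r := by rw [← hσ, ← card_Fx, Nat.card_eq_fintype_card, hF]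
    obtain ⟨f₀, hf₀, hE, hff⟩ := exists_exp hv (by omega) hr h1
    refine fixed_of_dvd σ hx ?_
    have h2 := sh_g2 hf hF hv
    rw [hff] at h2
    exact dvd_small' hv hr hr5 h2 (sh_g2 hf₀ (by rw [← Nat.card_eq_fintype_card, hE]) hv) hx hxc hd

theorem fldDat_f4 (hv : v.Prime) [CharP F v] (hF : Fintype.card F = v ^ f) (hf : 1 ≤ f) (hr : r.Prime)
    (hr5 : 5 ≤ r) : F1.FldDat v r ↥(chevF4.group F) := by
  have := Fact.mk hv
  refine fldDat_mat (stab_group chevF4 F) hf hF hr (not_dvd_of_lt hr5 two_pos (by norm_num))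
    (fun σ hσ => not_inner (by simp) σ hσ) ?_ ?_
  · rw [S2122.result v f hF]
    exact mul_dvd_mul_right (Nat.gcd_dvd_left _ _) _
  · intro σ hσ x hx hxc hd
    have : Fintype ↥(Fx σ) := Fintype.ofFinite _
    have h1 : v ^ f = Nat.card ↥(Fx σ) ^ r := by rw [← hσ, ← card_Fx, Nat.card_eq_fintype_card, hF]
    obtain ⟨f₀, hf₀, hE, hff⟩ := exists_exp hv (by omega) hr h1
    refine fixed_of_dvd σ hx ?_
    have h2 := sh_f4 hf hF hv
    rw [hff] at h2
    exact dvd_small' hv hr hr5 h2 (sh_f4 hf₀ (by rw [← Nat.card_eq_fintype_card, hE]) hv) hx hxc hd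

theorem not_dvd_six {r n : ℕ} (hr : r.Prime) (hr5 : 5 ≤ r) : ¬ r ∣ 2 * Nat.gcd 3 n := by
  intro h
  rcases hr.dvd_mul.1 h with h | h
  · exact not_dvd_of_lt hr5 two_pos (by norm_num) h
  · exact not_dvd_of_lt hr5 three_pos (by norm_num) (h.trans (Nat.gcd_dvd_left _ _))

theorem fldDat_e6 (hv : v.Prime) [CharP F v] (hF : Fintype.card F = v ^ f) (hf : 1 ≤ f) (hr : r.Prime)
    (hr5 : 5 ≤ r) : F1.FldDat v r ↥(chevE6.group F) := by
  have := Fact.mk hv
  refine fldDat_mat (stab_group chevE6 F) hf hF hr (c := 2 * Nat.gcd 3 (v ^ f - 1)) (not_dvd_six hr hr5)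
    (fun σ hσ => not_inner (by simp) σ hσ) ?_ ?_
  · rw [S2123.result v f hF]
  · intro σ hσ x hx hxc hd
    have : Fintype ↥(Fx σ) := Fintype.ofFinite _
    have h1 : v ^ f = Nat.card ↥(Fx σ) ^ r := by rw [← hσ, ← card_Fx, Nat.card_eq_fintype_card, hF]
    obtain ⟨f₀, hf₀, hE, hff⟩ := exists_exp hv (by omega) hr h1
    refine fixed_of_dvd σ hx ?_
    have h2 := sh_e6 hf hF hv
    rw [hff] at h2
    exact dvd_small' hv hr hr5 h2 (sh_e6 hf₀ (by rw [← Nat.card_eq_fintype_card, hE]) hv) hx hxc hd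

theorem fldDat_td4 (hv : v.Prime) [CharP F v] (hF : Fintype.card F = (v ^ f) ^ 3) (hf : 1 ≤ f) (hr : r.Prime)
    (hr5 : 5 ≤ r) : F1.FldDat v r ↥(twistedD4 F (v ^ f)) := by
  have := Fact.mk hv
  have hq : IsPrimePow (v ^ f) := hv.isPrimePow.pow (by omega)
  have hF' : Fintype.card F = v ^ (3 * f) := by rw [hF, ← pow_mul, mul_comm]
  refine fldDat_mat (stab_d4 _) (by omega) hF' hr (c := 1) (not_dvd_of_lt hr5 one_pos (by norm_num))
    (not_inner_d4 hq hF) ?_ ?_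
  · rw [S2129.result v f hF' hf, one_mul]
  · intro σ hσ x hx hxc hd
    have : Fintype ↥(Fx σ) := Fintype.ofFinite _
    have hn3 : ¬ 3 ∣ orderOf σ := fun h => by
      have := (Nat.prime_dvd_prime_iff_eq Nat.prime_three (hσ ▸ hr)).1 h
      omega
    have hE : v ^ (f * 3) = Nat.card ↥(Fx σ) ^ orderOf σ := by
      rw [← card_Fx, Nat.card_eq_fintype_card, hF', mul_comm]
    obtain ⟨a₀, h0, h1, h2⟩ := exists_exp_three hv (by omega) hn3 hE
    refine exists_fixed_of_dvd (stab_d4 _) σ (G₀ := twistedD4 ↥(Fx σ) (v ^ f)) (words_d4 (Fx σ).subtype _) hx ?_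
    have h3 := sh_td4 hf hF hv
    rw [h1]
    refine dvd_trans ?_ (card_dvd_d4 hn3 h2)
    rw [hσ] at h1
    have h4 : Sh v (Nat.card ↥(twistedD4 F (v ^ f))) (a₀ * r) 1 12 Fam.td4.facs := by
      rw [← h1]
      exact h3
    exact dvd_small' hv hr hr5 h4 (sh_td4 (by omega) (by rw [← Nat.card_eq_fintype_card, h2]) hv) hx hxc hd

theorem fldDat_te6 (hv : v.Prime) [CharP F v] (hF : Fintype.card F = (v ^ f) ^ 2) (hf : 1 ≤ f) (hr : r.Prime)
    (hr5 : 5 ≤ r) : F1.FldDat v r ↥(twistedE6 F (v ^ f)) := by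
  have := Fact.mk hv
  have hq : IsPrimePow (v ^ f) := hv.isPrimePow.pow (by omega)
  have hF' : Fintype.card F = v ^ (2 * f) := by rw [hF, ← pow_mul, mul_comm]
  refine fldDat_mat (stab_e6 _) (by omega) hF' hr (c := 2 * Nat.gcd 3 (v ^ f + 1)) (not_dvd_six hr hr5)
    (not_inner_e6 hq hF) ?_ ?_
  · rw [S2130.result v f hF' hf]
    exact ⟨2, by ring⟩
  · intro σ hσ x hx hxc hd
    have : Fintype ↥(Fx σ) := Fintype.ofFinite _
    have hno : Odd (orderOf σ) := by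
      rw [hσ]
      exact hr.odd_of_ne_two (by omega)
    have hE : v ^ (f * 2) = Nat.card ↥(Fx σ) ^ orderOf σ := by
      rw [← card_Fx, Nat.card_eq_fintype_card, hF', mul_comm]
    obtain ⟨a₀, j, h0, h1, h2, h3⟩ := exists_exp_two hv (by omega) hno hE
    have h2' : Nat.card ↥(Fx σ) = v ^ (2 * a₀) := by rw [h2, ← pow_mul, mul_comm]
    refine exists_fixed_of_dvd (stab_e6 _) σ (G₀ := twistedE6 ↥(Fx σ) (v ^ f)) (words_e6 (Fx σ).subtype _) hx ?_
    rw [twistedE6_congr (E := ↥(Fx σ)) (e := v ^ f) (pow_eq h2' h3)]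
    have h5 := sh_te6 hf hF hv
    rw [hσ] at h1
    have h4 : Sh v (Nat.card ↥(twistedE6 F (v ^ f))) (a₀ * r) (Nat.gcd 3 (v ^ f + 1)) 36 Fam.te6.facs := by
      rw [← h1]
      exact h5
    exact dvd_small' hv hr hr5 h4 (sh_te6 (by omega) (by rw [← Nat.card_eq_fintype_card, h2]) hv) hx hxc hd

theorem fldDat_tf4 {m : ℕ} (hm : 1 ≤ m) (hF : Fintype.card F = 2 ^ (2 * m + 1)) (hr : r.Prime)
    (hr5 : 5 ≤ r) : F1.FldDat 2 r ↥(twistedF4 F (2 ^ m)) := by
  have := two_prime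
  have hc : CharP F 2 := charP_of_card Nat.prime_two hF
  have h : ∀ ψ : MulAut ↥(twistedF4 F (2 ^ m)), ∃ (g : ↥(twistedF4 F (2 ^ m))) (σ : F ≃+* F),
      ψ = MulAut.conj g * fieldAut (stab_f4 _) σ := fun ψ => by
    obtain ⟨g, σ, h⟩ := Cfsg.Agent.H71.FldAut.twF4_aut hm hF ψ
    exact ⟨g, σ, h⟩
  refine fldDat_mat (stab_f4 _) (by omega) hF hr (c := 1) (not_dvd_of_lt hr5 one_pos (by norm_num))
    (not_inner_of_conj_field (stab_f4 _) (by omega) hF (S2128.result hm hF) h) ?_ ?_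
  · rw [S2128.result hm hF, one_mul]
  · intro σ hσ x hx hxc hd
    have : Fintype ↥(Fx σ) := Fintype.ofFinite _
    have hE : 2 ^ (2 * m + 1) = Nat.card ↥(Fx σ) ^ orderOf σ := by
      rw [← card_Fx, Nat.card_eq_fintype_card, hF]
    obtain ⟨m₀, j, h1, h2⟩ := exists_odd_exp Nat.prime_two hE
    refine exists_fixed_of_dvd (stab_f4 _) σ (G₀ := twistedF4 ↥(Fx σ) (2 ^ m)) (words_f4 (Fx σ).subtype _) hx ?_
    rw [twistedF4_congr (E := ↥(Fx σ)) (e := 2 ^ m) (pow_eq h1 h2)]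
    have h4 : Fintype.card ↥(Fx σ) = 2 ^ (2 * m₀ + 1) := by rw [← Nat.card_eq_fintype_card, h1]
    have h6 : 2 * m + 1 = (2 * m₀ + 1) * r := by
      rw [h1, hσ, ← pow_mul] at hE
      exact Nat.pow_right_injective le_rfl hE
    have h5 := sh_tf4 hF
    have h7 : Sh 2 (Nat.card ↥(twistedF4 F (2 ^ m))) ((2 * m₀ + 1) * r) 1 12 Fam.tf4.facs := by
      rw [← h6]
      exact h5
    exact dvd_small' Nat.prime_two hr hr5 h7 (sh_tf4 h4) hx hxc hd

end fam

/-- the six families -/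
def Exc6 : Fam → Prop
  | .g2 => True
  | .f4 => True
  | .e6 => True
  | .te6 => True
  | .td4 => True
  | .tf4 => True
  | _ => False

theorem f_pos_of_card {F : Type*} [Field F] [Fintype F] {v f n : ℕ} (hF : Fintype.card F = (v ^ f) ^ n) :
    1 ≤ f := by
  rcases Nat.eq_zero_or_pos f with h0 | h0
  · exfalso
    rw [h0, pow_zero, one_pow] at hF
    have := Fintype.one_lt_card (α := F)
    omega
  · exact h0

/-- **Field automorphisms of the exceptional groups.** -/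
theorem fldDat_exc {t : Fam} (ht : Exc6 t) {v f : ℕ} {S : Type u} [Group S] (hv : v.Prime)
    (h : Fam.Is v f S t) {r : ℕ} (hr : r.Prime) (hr5 : 5 ≤ r) : F1.FldDat v r S := by
  cases t with
  | g2 =>
    obtain ⟨h3, F, _, _, _, hF, ⟨e⟩⟩ := h
    exact F1.FldDat.congr e.symm (fldDat_g2 hv hF h3 hr hr5)
  | f4 =>
    obtain ⟨F, _, _, _, hF, ⟨e⟩⟩ := h
    exact F1.FldDat.congr e.symm (fldDat_f4 hv hF (f_pos_of_card (n := 1) (by rw [hF, pow_one])) hr hr5)
  | e6 =>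
    obtain ⟨F, _, _, _, hF, ⟨e⟩⟩ := h
    exact F1.FldDat.congr e.symm (fldDat_e6 hv hF (f_pos_of_card (n := 1) (by rw [hF, pow_one])) hr hr5)
  | te6 =>
    obtain ⟨F, _, _, _, hF, ⟨e⟩⟩ := h
    exact F1.FldDat.congr e.symm (fldDat_te6 hv hF (f_pos_of_card hF) hr hr5)
  | td4 =>
    obtain ⟨F, _, _, _, hF, ⟨e⟩⟩ := h
    exact F1.FldDat.congr e.symm (fldDat_td4 hv hF (f_pos_of_card hF) hr hr5)
  | tf4 =>
    obtain ⟨rfl, m, hm, rfl, F, _, _, hF, ⟨e⟩⟩ := h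
    exact F1.FldDat.congr e.symm (fldDat_tf4 hm hF hr hr5)
  | psl n => exact ht.elim
  | psp n => exact ht.elim
  | psu n => exact ht.elim
  | oodd n => exact ht.elim
  | oplus n => exact ht.elim
  | ominus n => exact ht.elim
  | e7 => exact ht.elim
  | e8 => exact ht.elim
  | sz => exact ht.elim
  | ree => exact ht.elim

end Cfsg.Agent.R2.Spec.X4.H18
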