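import Cfsg.Agent.R2.Spec.X4.H18.Gen
import Cfsg.Agent.R2.Spec.X4.H18.Fld
import Cfsg.Agent.H161.G2Main
import Cfsg.Agent.H332.Cyc.G2Three

/-!
# Box X4 of S3435 : row `G₂(u)` (helper18)
-/

set_option autoImplicit false
set_option linter.unusedVariables false

namespace Cfsg.Agent.R2.Spec.X4.H18

open Cfsg Cfsg.Agent.H426.LieFam

universe u

/-- the facts about `ω(G₂(u))` -/
structure G2Dat (v u : ℕ) (S : Type*) [Group S] : Prop where
  vp : v.Prime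
  pw : ∃ f, 1 ≤ f ∧ u = v ^ f
  u3 : 3 ≤ u
  up : ∀ x : S, orderOf x ∣ v * (u + 1) ∨ orderOf x ∣ v * (u - 1) ∨ orderOf x ∣ u ^ 2 - 1 ∨
    orderOf x ∣ u ^ 2 + u + 1 ∨ orderOf x ∣ u ^ 2 - u + 1 ∨ (v = 2 ∧ orderOf x ∣ 24) ∨
    ((v = 3 ∨ v = 5) ∧ orderOf x ∣ v ^ 2)
  exP : ∃ x : S, orderOf x = v * (u + 1)
  exM : ∃ x : S, orderOf x = v * (u - 1)
  ex1 : ∃ x : S, orderOf x = u ^ 2 - 1
  ex3 : ∃ x : S, orderOf x = u ^ 2 + u + 1
  ex6 : ∃ x : S, orderOf x = u ^ 2 - u + 1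
  card : u ^ 6 ∣ Nat.card S

theorem g2Dat {v f : ℕ} (hv : v.Prime) {F : Type*} [Field F] [Fintype F] (hF : Fintype.card F = v ^ f)
    (h3 : 3 ≤ v ^ f) : G2Dat v (v ^ f) ↥(Lie.chevG2.group F) := by
  have := Fact.mk hv
  have hf : f ≠ 0 := by
    rintro rfl
    norm_num at h3
  have hsq : v ^ (2 * f) = (v ^ f) ^ 2 := by rw [← pow_mul, mul_comm]
  have low : ∀ {N : ℕ}, _ → N ∈ Set.range (orderOf : ↥(Cfsg.Lie.chevG2.group F) → ℕ) := fun {N} =>
    Cfsg.Agent.H161.G2Main.lower (p := v) (n := f) (N := N) hf hF h3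
  rw [hsq] at low
  refine ⟨hv, ⟨f, by omega, rfl⟩, h3, ?_, ?_, ?_, ?_, ?_, ?_, ?_⟩
  · intro x
    obtain ⟨N, h1, h2⟩ := Cfsg.Agent.H161.G2Main.upper (p := v) (n := f) hF h3 ⟨x, rfl⟩
    rw [hsq] at h2
    rcases h2 with rfl | rfl | rfl | rfl | rfl | ⟨h2, h4⟩ | ⟨h2, rfl⟩
    · exact Or.inl h1
    · exact Or.inr (Or.inl h1)
    · exact Or.inr (Or.inr (Or.inl h1))
    · exact Or.inr (Or.inr (Or.inr (Or.inl h1)))
    · exact Or.inr (Or.inr (Or.inr (Or.inr (Or.inl h1))))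
    · refine Or.inr (Or.inr (Or.inr (Or.inr (Or.inr (Or.inl ⟨h2, ?_⟩)))))
      rcases h4 with rfl | rfl
      · exact h1.trans (by norm_num)
      · exact h1.trans (by norm_num)
    · exact Or.inr (Or.inr (Or.inr (Or.inr (Or.inr (Or.inr ⟨h2, h1⟩)))))
  · exact low (Or.inl rfl)
  · exact low (Or.inr (Or.inl rfl))
  · exact low (Or.inr (Or.inr (Or.inl rfl)))
  · exact low (Or.inr (Or.inr (Or.inr (Or.inl rfl))))
  · exact low (Or.inr (Or.inr (Or.inr (Or.inr (Or.inl rfl)))))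
  · rw [Cfsg.Agent.S1059.result hF]
    exact (dvd_mul_right _ _).mul_right _

theorem G2Dat.congr {v u : ℕ} {S X : Type*} [Group S] [Group X] (e : S ≃* X) (h : G2Dat v u X) : G2Dat v u S := by
  have key : ∀ {n : ℕ}, (∃ x : X, orderOf x = n) → ∃ x : S, orderOf x = n := by
    rintro n ⟨x, rfl⟩
    exact ⟨e.symm x, MulEquiv.orderOf_eq e.symm x⟩
  refine ⟨h.vp, h.pw, h.u3, ?_, key h.exP, key h.exM, key h.ex1, key h.ex3, key h.ex6, ?_⟩
  · intro x
    have := h.up (e x)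
    rwa [MulEquiv.orderOf_eq] at this
  · rw [Nat.card_congr e.toEquiv]
    exact h.card

section

variable {p q k A k' B m i : ℕ} {W : ℕ → Prop} {S : Type u} [Group S] {v u : ℕ}

theorem sq_sub_one {u : ℕ} (hu : 1 ≤ u) : u ^ 2 - 1 = (u - 1) * (u + 1) := by
  obtain ⟨t, rfl⟩ : ∃ t, u = t + 1 := ⟨u - 1, by omega⟩
  rw [Nat.add_sub_cancel]
  have : (t + 1) ^ 2 = t * (t + 1 + 1) + 1 := by ring
  omega

theorem le_sq {u : ℕ} : u ≤ u ^ 2 := Nat.le_self_pow two_ne_zero _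

theorem two_dvd_P (hv : v.Prime) (hpw : ∃ f, 1 ≤ f ∧ u = v ^ f) : 2 ∣ v * (u + 1) ∧ 2 ∣ v * (u - 1) := by
  obtain ⟨f, hf, rfl⟩ := hpw
  rcases hv.eq_two_or_odd with h | h
  · rw [h]
    exact ⟨dvd_mul_right _ _, dvd_mul_right _ _⟩
  · have h1 : v ^ f % 2 = 1 := by rw [Nat.pow_mod, h]; simp
    constructor
    · exact (show 2 ∣ v ^ f + 1 by omega).mul_left _
    · exact (show 2 ∣ v ^ f - 1 by omega).mul_left _

/-- primes of `k k'` -/
theorem SX.prime (h : SX p q k A k' B m i W S) {r : ℕ} (hr : r.Prime) (hk : r ∣ k ∨ r ∣ k') : 7 ≤ r :=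
  (h.lw.side.prime h.lw.q2 hr hk).1

/-- a number with a prime `r` of `k` is not divisible by `2 r` -/
theorem SX.no_two (h : SX p q k A k' B m i W S) {r n : ℕ} (hr : r.Prime) (hk : r ∣ k) (hn : ∃ x : S, orderOf x = n)
    (h2 : 2 ∣ n) : ¬ r ∣ n := by
  intro hrn
  obtain ⟨x, rfl⟩ := hn
  have h1 := h.uk hr hk x hrn
  have := h.lw.side.A_odd
  have := h2.trans h1
  omega

theorem g2_kT (h : SX p q k A k' B m i W S) (hg : Good W m i) (D : G2Dat v u S) :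
    k ∣ u ^ 2 + u + 1 ∨ k ∣ u ^ 2 - u + 1 := by
  obtain ⟨r, hr, hrk⟩ := Nat.exists_prime_and_dvd h.lw.k_pos.1.ne'
  have hr7 := SX.prime h hr (Or.inl hrk)
  obtain ⟨x, hx⟩ := h.kS hg
  obtain ⟨e1, e2⟩ := two_dvd_P D.vp D.pw
  have hP := SX.no_two h hr hrk D.exP e1
  have hM := SX.no_two h hr hrk D.exM e2
  have h0 := D.up x
  rw [hx] at h0
  rcases h0 with h0 | h0 | h0 | h0 | h0 | ⟨-, h0⟩ | ⟨h1, h0⟩
  · exact absurd (hrk.trans h0) hP
  · exact absurd (hrk.trans h0) hM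
  · exfalso
    have := D.u3
    rw [sq_sub_one (by omega)] at h0
    rcases hr.dvd_mul.1 (hrk.trans h0) with h2 | h2
    · exact hM (h2.mul_left _)
    · exact hP (h2.mul_left _)
  · exact Or.inl h0
  · exact Or.inr h0
  · exfalso
    have h2 : r ∣ 2 ^ 3 * 3 := by norm_num; exact hrk.trans h0
    rcases hr.dvd_mul.1 h2 with h3 | h3
    · have := Nat.le_of_dvd (by norm_num) (hr.dvd_of_dvd_pow h3)
      omega
    · have := Nat.le_of_dvd (by norm_num) h3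
      omega
  · exfalso
    have h2 := Nat.le_of_dvd D.vp.pos (hr.dvd_of_dvd_pow (hrk.trans h0))
    omega

/-- `u ≠ q` -/
theorem u_ne_q (h : LW p q k A k' B W) (hv : v.Prime) (hpw : ∃ f, 1 ≤ f ∧ u = v ^ f) (hvp : v ≠ p) : u ≠ q := by
  rintro rfl
  obtain ⟨f, hf, hu⟩ := hpw
  obtain ⟨e, he⟩ := h.qp
  have h1 : v ∣ p ^ e := by rw [← he, hu]; exact dvd_pow_self v (by omega)
  exact hvp ((Nat.prime_dvd_prime_iff_eq hv h.pp).1 (hv.dvd_of_dvd_pow h1))

/-- the two large tori -/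
structure G2T (δ : ℤ) (u T T' : ℕ) : Prop where
  hδ : δ = 1 ∨ δ = -1
  hT : (T : ℤ) = (u : ℤ) ^ 2 + δ * u + 1
  hT' : (T' : ℤ) = (u : ℤ) ^ 2 - δ * u + 1

theorem cast6 : ((u ^ 2 - u + 1 : ℕ) : ℤ) = (u : ℤ) ^ 2 - u + 1 := by
  push_cast [le_sq (u := u)]
  ring

theorem g2_T (h : SX p q k A k' B m i W S) (hg : Good W m i) (D : G2Dat v u S) :
    ∃ (δ : ℤ) (T T' : ℕ), G2T δ u T T' ∧ k ∣ T ∧ (∃ x : S, orderOf x = T) ∧ (∃ x : S, orderOf x = T') ∧
      ∀ n : ℕ, (n ∣ u ^ 2 + u + 1 ∨ n ∣ u ^ 2 - u + 1) → n ∣ T ∨ n ∣ T' := by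
  rcases g2_kT h hg D with hk | hk
  · exact ⟨1, u ^ 2 + u + 1, u ^ 2 - u + 1, ⟨Or.inl rfl, by push_cast; ring, by rw [cast6]; ring⟩, hk, D.ex3, D.ex6,
      fun n hn => hn⟩
  · exact ⟨-1, u ^ 2 - u + 1, u ^ 2 + u + 1, ⟨Or.inr rfl, by rw [cast6]; ring, by push_cast; ring⟩, hk, D.ex6, D.ex3,
      fun n hn => hn.symm⟩

theorem G2T.bounds {δ : ℤ} {u T T' : ℕ} (t : G2T δ u T T') :
    T ≤ u ^ 2 + u + 1 ∧ T' ≤ u ^ 2 + u + 1 ∧ u ^ 2 + 1 ≤ T + u ∧ u ^ 2 + 1 ≤ T' + u := by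
  obtain ⟨h1, h2, h3⟩ := t
  rcases h1 with rfl | rfl
  · zify
    refine ⟨by linarith, by linarith, by linarith, by linarith⟩
  · zify
    refine ⟨by linarith, by linarith, by linarith, by linarith⟩

/-- the bound for `c` -/
theorem g2_c (h : LW p q k A k' B W) {T c M : ℕ} (hc : A = c * T) (hk : k ≤ T) (hk' : k' ≤ M) (hu : 1 ≤ u)
    (hM : M ^ 3 < 3 * u ^ 4 * T) : 2 * c < 3 * u := by
  by_contra hcon
  have h1 := h_bound h hc hk hk'
  have h2 : (3 * u) ^ 4 ≤ (2 * c) ^ 4 := Nat.pow_le_pow_left (not_lt.1 hcon) 4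
  have h3 : 81 * u ^ 4 * T ≤ 16 * c ^ 4 * T := by
    have : 81 * u ^ 4 ≤ 16 * c ^ 4 := by
      have e1 : (3 * u) ^ 4 = 81 * u ^ 4 := by ring
      have e2 : (2 * c) ^ 4 = 16 * c ^ 4 := by ring
      omega
    exact Nat.mul_le_mul_right T this
  have h4 : 81 * u ^ 4 * T = 27 * (3 * u ^ 4 * T) := by ring
  omega

theorem g2_num1 {u T M : ℕ} (hu : 5 ≤ u) (hT : u ^ 2 + 1 ≤ T + u) (hM : M ≤ u ^ 2 + u + 1) :
    M ^ 3 < 3 * u ^ 4 * T := by
  have h1 : M ^ 3 ≤ (u ^ 2 + u + 1) ^ 3 := Nat.pow_le_pow_left hM 3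
  have h2 : 3 * u ^ 4 * (u ^ 2 - u + 1) ≤ 3 * u ^ 4 * T := Nat.mul_le_mul_left _ (by
    have := le_sq (u := u)
    omega)
  refine lt_of_le_of_lt h1 (lt_of_lt_of_le ?_ h2)
  zify [le_sq (u := u)]
  obtain ⟨t, rfl⟩ : ∃ t, u = t + 5 := ⟨u - 5, by omega⟩
  push_cast
  apply pos_lt
  ring_nf
  positivity

/-- the two tori in state I -/
theorem g2_Ia (h : SX p q k A k' B m i W S) (D : G2Dat v u S) (hvp : v ≠ p) (hu : 5 ≤ u) {δ : ℤ}
    {T T' : ℕ} (t : G2T δ u T T') (hkT : k ∣ T) (hTA : T ∣ A) (hTB : T' ∣ B) (hk' : k' ≤ T') : False := by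
  obtain ⟨b1, b2, b3, b4⟩ := t.bounds
  have hT0 : 0 < T := by have := le_sq (u := u); nlinarith
  obtain ⟨c, hc⟩ := hTA
  rw [mul_comm] at hc
  have hc2 := g2_c h.lw hc (Nat.le_of_dvd hT0 hkT) hk' (by omega) (g2_num1 hu b3 b2)
  obtain ⟨hδ, hT, hT'⟩ := t
  have hu5 : (5 : ℤ) ≤ u := by exact_mod_cast hu
  have hne := u_ne_q h.lw D.vp D.pw hvp
  have hdvd : (T' : ℤ) ∣ (1 - δ * u) * T - 2 := by
    refine ⟨-δ * (u + δ), ?_⟩
    rw [hT, hT']
    rcases hδ with rfl | rfl <;> ring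
  have habs : |1 - δ * (u : ℤ)| ≤ u + 1 := by
    rcases hδ with rfl | rfl
    · rw [abs_le]; constructor <;> linarith
    · rw [abs_le]; constructor <;> linarith
  have hcz : 2 * (c : ℤ) < 3 * u := by exact_mod_cast hc2
  have hAz : (A : ℤ) = c * T := by exact_mod_cast hc
  have cube : ∀ a b : ℕ, a ^ 3 = b ^ 3 → a = b := fun a b hab => Nat.pow_left_injective (by norm_num) hab
  rcases kill_eq h.lw hc hTB (κ := 2) (by norm_num) hdvd (by
      have : (u : ℤ) ^ 2 + 1 ≤ T' + u := by exact_mod_cast b4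
      nlinarith) with ⟨h1, h2⟩ | ⟨h1, h2⟩
  · rcases hδ with rfl | rfl
    · have : (0 : ℤ) ≤ c := by positivity
      linarith
    · apply hne
      apply cube
      rcases h.lw.side.two_mul with ⟨-, -, -, h3⟩ | ⟨-, h3, -, -⟩
      · omega
      · have h4 : 2 * (A : ℤ) = (q : ℤ) ^ 3 + 1 := by exact_mod_cast h3
        have : (u : ℤ) ^ 3 = (q : ℤ) ^ 3 := by
          linear_combination h4 - 2 * hAz - 2 * (c : ℤ) * hT - ((u : ℤ) ^ 2 - u + 1) * h2
        exact_mod_cast this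
  · rcases hδ with rfl | rfl
    · apply hne
      apply cube
      rcases h.lw.side.two_mul with ⟨-, h3, -, -⟩ | ⟨-, -, -, h3⟩
      · have h4 : 2 * (A : ℤ) + 1 = (q : ℤ) ^ 3 := by exact_mod_cast h3
        have : (u : ℤ) ^ 3 = (q : ℤ) ^ 3 := by
          linear_combination h4 - 2 * hAz - 2 * (c : ℤ) * hT - ((u : ℤ) ^ 2 + u + 1) * h2
        exact_mod_cast this
      · omega
    · have : (0 : ℤ) ≤ c := by positivity
      linarith

/-- `u² - 1 ∣ B`, `v ∣ B` -/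
theorem g2_Ib (h : SX p q k A k' B m i W S) (D : G2Dat v u S) (hu : 7 ≤ u) {δ : ℤ}
    {T T' : ℕ} (t : G2T δ u T T') (hkT : k ∣ T) (hTA : T ∣ A) (h1B : u ^ 2 - 1 ∣ B) (hvB : v ∣ B)
    (hk' : k' ≤ u ^ 2 + u + 1) : False := by
  obtain ⟨b1, b2, b3, b4⟩ := t.bounds
  have hT0 : 0 < T := by have := le_sq (u := u); nlinarith
  obtain ⟨c, hc⟩ := hTA
  rw [mul_comm] at hc
  have hc2 := g2_c h.lw hc (Nat.le_of_dvd hT0 hkT) hk' (by omega) (g2_num1 (by omega) b3 le_rfl)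
  obtain ⟨hδ, hT, hT'⟩ := t
  have hu5 : (7 : ℤ) ≤ u := by exact_mod_cast hu
  have hD : ((u ^ 2 - 1 : ℕ) : ℤ) = (u : ℤ) ^ 2 - 1 := by
    have : 1 ≤ u ^ 2 := Nat.one_le_pow _ _ (by omega)
    push_cast [this]
    ring
  have hdvd : ((u ^ 2 - 1 : ℕ) : ℤ) ∣ (2 - δ * u) * T - 3 := by
    refine ⟨1 - δ * u, ?_⟩
    rw [hT, hD]
    rcases hδ with rfl | rfl <;> ring
  have habs : |2 - δ * (u : ℤ)| ≤ u + 2 := by
    rcases hδ with rfl | rfl
    · rw [abs_le]; constructor <;> linarith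
    · rw [abs_le]; constructor <;> linarith
  have hcz : 2 * (c : ℤ) < 3 * u := by exact_mod_cast hc2
  have hAz : (A : ℤ) = c * T := by exact_mod_cast hc
  have hvu : (v : ℤ) ∣ u := by
    obtain ⟨f, hf, hu'⟩ := D.pw
    have : v ∣ u := by rw [hu']; exact dvd_pow_self v (by omega)
    exact_mod_cast this
  have hvB' : (v : ℤ) ∣ B := by exact_mod_cast hvB
  have fin : ∀ e : ℤ, (e = 1 ∨ e = -1) → (v : ℤ) ∣ e → False := by
    intro e he hd
    have h1 : (v : ℤ) ∣ 1 := by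
      rcases he with rfl | rfl
      · exact hd
      · exact (dvd_neg.2 hd)
    have h2 : v ∣ 1 := by exact_mod_cast h1
    exact D.vp.one_lt.ne' (Nat.dvd_one.1 h2)
  rcases kill_eq h.lw hc h1B (κ := 3) (by norm_num) hdvd (by rw [hD]; nlinarith) with ⟨h1, h2⟩ | ⟨h1, h2⟩
  · rcases hδ with rfl | rfl
    · have : (0 : ℤ) ≤ c := by positivity
      linarith
    · have h1' : (A : ℤ) = B + 1 := by exact_mod_cast h1
      refine fin (-1) (Or.inr rfl) ?_
      have e : (-1 : ℤ) = 3 * B - u * (u ^ 2 + u - 1) := by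
        linear_combination 3 * h1' - 3 * hAz - 3 * (c : ℤ) * hT - ((u : ℤ) ^ 2 - u + 1) * h2
      rw [e]
      exact dvd_sub (hvB'.mul_left 3) (hvu.mul_right _)
  · rcases hδ with rfl | rfl
    · have h1' : (B : ℤ) = A + 1 := by exact_mod_cast h1
      refine fin 1 (Or.inl rfl) ?_
      have e : (1 : ℤ) = 3 * B - u * (u ^ 2 - u - 1) := by
        linear_combination -3 * h1' - 3 * hAz - 3 * (c : ℤ) * hT - ((u : ℤ) ^ 2 + u + 1) * h2
      rw [e]
      exact dvd_sub (hvB'.mul_left 3) (hvu.mul_right _)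
    · have : (0 : ℤ) ≤ c := by positivity
      linarith

/-- state I, the remaining case `k' = v` -/
theorem g2_Ic (h : SX p q k A k' B m i W S) (D : G2Dat v u S) (hu : 25 ≤ u) (hv2 : v ≠ 2) {δ : ℤ}
    {T T' : ℕ} (t : G2T δ u T T') (hkT : k ∣ T) (hTA : T ∣ A) (h1B : v * (u + 1) ∣ B) (h2B : v * (u - 1) ∣ B)
    (hk' : k' ≤ u) : False := by
  obtain ⟨b1, b2, b3, b4⟩ := t.bounds
  have hT0 : 0 < T := by have := le_sq (u := u); nlinarith
  obtain ⟨hδ, hT, hT'⟩ := t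
  have hu5 : (25 : ℤ) ≤ u := by exact_mod_cast hu
  -- `u` is odd
  have huo : u % 2 = 1 := by
    obtain ⟨f, hf, hu'⟩ := D.pw
    have := D.vp.eq_two_or_odd.resolve_left hv2
    rw [hu', Nat.pow_mod, this]
    simp
  obtain ⟨w, hw⟩ : ∃ w, u = 2 * w + 1 := ⟨u / 2, by omega⟩
  have hDB : 2 * (w * (w + 1)) ∣ B := by
    have e1 : 2 * (w + 1) ∣ B := by
      have := (dvd_mul_left (u + 1) v).trans h1B
      rwa [show u + 1 = 2 * (w + 1) by omega] at this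
    have e2 : 2 * w ∣ B := by
      have := (dvd_mul_left (u - 1) v).trans h2B
      rwa [show u - 1 = 2 * w by omega] at this
    obtain ⟨b, hb⟩ := (dvd_mul_right 2 w).trans e2
    rw [hb] at e1 e2 ⊢
    have e3 := Nat.dvd_of_mul_dvd_mul_left two_pos e1
    have e4 := Nat.dvd_of_mul_dvd_mul_left two_pos e2
    exact Nat.mul_dvd_mul_left 2 (Nat.Coprime.mul_dvd_of_dvd_of_dvd
      (by rw [Nat.coprime_self_add_right]; exact Nat.coprime_one_right _) e4 e3)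
  have hD : 2 * ((2 * (w * (w + 1)) : ℕ) : ℤ) = (u : ℤ) ^ 2 - 1 := by
    rw [hw]
    push_cast
    ring
  have hdvd : ((2 * (w * (w + 1)) : ℕ) : ℤ) ∣ (2 - δ * u) * T - 3 := by
    refine ⟨2 * (1 - δ * u), ?_⟩
    rw [hT, show ((2 * (w * (w + 1)) : ℕ) : ℤ) * (2 * (1 - δ * u)) = (1 - δ * u) * (2 * ((2 * (w * (w + 1)) : ℕ) : ℤ)) by ring,
      hD]
    rcases hδ with rfl | rfl <;> ring
  refine kill h.lw hTA (Nat.le_of_dvd hT0 hkT) hk' hDB (κ := 3) (by norm_num) hdvd ?_ ?_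
  · rw [hT]
    obtain ⟨t, ht⟩ : ∃ t : ℕ, u = t + 25 := ⟨u - 25, by omega⟩
    rw [ht]
    push_cast
    apply pos_lt
    rcases hδ with rfl | rfl
    · ring_nf
      positivity
    · ring_nf
      positivity
  · have habs : |2 - δ * (u : ℤ)| ≤ u + 2 := by
      rcases hδ with rfl | rfl
      · rw [abs_le]; constructor <;> linarith
      · rw [abs_le]; constructor <;> linarith
    nlinarith

theorem g2_I (h : SX p q k A k' B m i W S) (hg : Good W m i) (D : G2Dat v u S) (hvp : v ≠ p) (hu : 5 ≤ u)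
    (h1 : ∀ r : ℕ, r.Prime → r ∣ k' → ¬ r ∣ m ∧ ¬ r ∣ i) : False := by
  obtain ⟨δ, T, T', t, hkT, exT, exT', hTT⟩ := g2_T h hg D
  obtain ⟨b1, b2, b3, b4⟩ := t.bounds
  have hT0 : 0 < T := by have := le_sq (u := u); nlinarith
  have hT'0 : 0 < T' := by have := le_sq (u := u); nlinarith
  have hTA := SX.dvdA h exT hkT
  obtain ⟨x, hx⟩ := SX.k'S h h1
  have hk25 := (k_ge h.lw).2
  have hk'0 : k' ≠ 1 := by omega
  obtain ⟨r, hr, hrk⟩ := Nat.exists_prime_and_dvd hk'0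
  have hp7 : ∀ w : ℕ, w.Prime → w ∣ k' → 7 ≤ w := fun w hw hwk => SX.prime h hw (Or.inr hwk)
  -- a prime of `k'` dividing `u ^ 2 - 1`
  have key : ∀ w : ℕ, w.Prime → w ∣ k' → w ∣ u ^ 2 - 1 → 7 ≤ u → k' ≤ u ^ 2 + u + 1 → False := by
    intro w hw hwk hwu hu7 hle
    have e1 := SX.dvdB h D.ex1 hw hwk hwu
    refine g2_Ib h D hu7 t hkT hTA e1 ?_ hle
    rw [sq_sub_one (by omega)] at hwu
    rcases hw.dvd_mul.1 hwu with h2 | h2
    · exact (dvd_mul_right _ _).trans (SX.dvdB h D.exM hw hwk (h2.mul_left _))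
    · exact (dvd_mul_right _ _).trans (SX.dvdB h D.exP hw hwk (h2.mul_left _))
  have hvu : v ≤ u := by
    obtain ⟨f, hf, hu'⟩ := D.pw
    rw [hu']
    exact Nat.le_self_pow (by omega) v
  have hcase : (∃ e : ℕ, (e = u + 1 ∨ e = u - 1) ∧ k' ∣ v * e) ∨ k' ∣ u ^ 2 - 1 ∨ (k' ∣ T ∨ k' ∣ T') := by
    have h0 := D.up x
    rw [hx] at h0
    rcases h0 with h0 | h0 | h0 | h0 | h0 | ⟨-, h0⟩ | ⟨h1, h0⟩
    · exact Or.inl ⟨_, Or.inl rfl, h0⟩
    · exact Or.inl ⟨_, Or.inr rfl, h0⟩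
    · exact Or.inr (Or.inl h0)
    · exact Or.inr (Or.inr (hTT _ (Or.inl h0)))
    · exact Or.inr (Or.inr (hTT _ (Or.inr h0)))
    · exfalso
      have hr7 := hp7 r hr hrk
      have h2 : r ∣ 2 ^ 3 * 3 := by norm_num; exact hrk.trans h0
      rcases hr.dvd_mul.1 h2 with h3 | h3
      · have := Nat.le_of_dvd (by norm_num) (hr.dvd_of_dvd_pow h3)
        omega
      · have := Nat.le_of_dvd (by norm_num) h3
        omega
    · exfalso
      have hr7 := hp7 r hr hrk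
      have h2 := Nat.le_of_dvd D.vp.pos (hr.dvd_of_dvd_pow (hrk.trans h0))
      omega
  have hsq : u ^ 2 - 1 = (u - 1) * (u + 1) := sq_sub_one (by omega)
  rcases hcase with ⟨e, he, h0⟩ | h0 | h0 | h0
  · have he0 : 0 < e := by omega
    have heu : e ∣ u ^ 2 - 1 := by
      rw [hsq]
      rcases he with rfl | rfl
      · exact dvd_mul_left _ _
      · exact dvd_mul_right _ _
    have hle : k' ≤ u ^ 2 + u := by
      have h2 := Nat.le_of_dvd (Nat.mul_pos D.vp.pos he0) h0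
      have h3 : v * e ≤ u * (u + 1) := Nat.mul_le_mul hvu (by omega)
      have : u * (u + 1) = u ^ 2 + u := by ring
      omega
    by_cases hall : ∃ w : ℕ, w.Prime ∧ w ∣ k' ∧ w ≠ v
    · obtain ⟨w, hw, hwk, hwv⟩ := hall
      have hwe : w ∣ e := by
        rcases hw.dvd_mul.1 (hwk.trans h0) with h2 | h2
        · exact absurd ((Nat.prime_dvd_prime_iff_eq hw D.vp).1 h2) hwv
        · exact h2
      have hw7 := hp7 w hw hwk
      have hwe' := Nat.le_of_dvd he0 hwe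
      by_cases hu7 : 7 ≤ u
      · exact key w hw hwk (hwe.trans heu) hu7 (by omega)
      · -- `u = 6`, not a prime power
        have hu6 : u = 6 := by omega
        obtain ⟨f, hf, hu'⟩ := D.pw
        have h2 : 2 ∣ v ^ f := by rw [← hu', hu6]; norm_num
        have h3 : 3 ∣ v ^ f := by rw [← hu', hu6]; norm_num
        have h4 := (Nat.prime_dvd_prime_iff_eq Nat.prime_two D.vp).1 (Nat.prime_two.dvd_of_dvd_pow h2)
        have h5 := (Nat.prime_dvd_prime_iff_eq Nat.prime_three D.vp).1 (Nat.prime_three.dvd_of_dvd_pow h3)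
        omega
    · push Not at hall
      have hrv := hall r hr hrk
      have hcop : k'.Coprime e := by
        refine Nat.Coprime.symm ?_
        refine Nat.coprime_of_dvd fun w hw hwe hwk => ?_
        have h2 := hall w hw hwk
        rw [h2] at hwe
        obtain ⟨f, hf, hu'⟩ := D.pw
        have h3 : v ∣ u := by rw [hu']; exact dvd_pow_self v (by omega)
        rcases he with rfl | rfl
        · have := (Nat.dvd_add_right h3).1 hwe
          exact D.vp.one_lt.ne' (Nat.dvd_one.1 this)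
        · have h4 : v ∣ u - 1 + 1 := by rwa [Nat.sub_add_cancel (by omega)]
          have := (Nat.dvd_add_right hwe).1 h4
          exact D.vp.one_lt.ne' (Nat.dvd_one.1 this)
      have hkv : k' ∣ v := hcop.dvd_of_dvd_mul_right h0
      have hkv' := Nat.le_of_dvd D.vp.pos hkv
      have e1 := SX.dvdB h D.exP hr hrk (by rw [hrv]; exact dvd_mul_right _ _)
      have e2 := SX.dvdB h D.exM hr hrk (by rw [hrv]; exact dvd_mul_right _ _)
      exact g2_Ic h D (by omega) (by omega) t hkT hTA e1 e2 (by omega)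
  · have h2 := Nat.le_of_dvd (by
      have : 5 ^ 2 ≤ u ^ 2 := Nat.pow_le_pow_left hu 2
      omega) h0
    have hu7 : 7 ≤ u := by
      by_contra hcon
      have h5 : u = 5 ∨ u = 6 := by omega
      rcases h5 with h5 | h5
      · subst h5
        norm_num at h2
        omega
      · subst h5
        have h6 := hrk.trans h0
        norm_num at h6
        have hr7 := hp7 r hr hrk
        have h7 : r ∣ 5 * 7 := by norm_num; exact h6
        obtain ⟨f, hf, hu'⟩ := D.pw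
        have h2 : 2 ∣ v ^ f := by rw [← hu']; norm_num
        have h3 : 3 ∣ v ^ f := by rw [← hu']; norm_num
        have h4 := (Nat.prime_dvd_prime_iff_eq Nat.prime_two D.vp).1 (Nat.prime_two.dvd_of_dvd_pow h2)
        have h5 := (Nat.prime_dvd_prime_iff_eq Nat.prime_three D.vp).1 (Nat.prime_three.dvd_of_dvd_pow h3)
        omega
    exact key r hr hrk (hrk.trans h0) hu7 (by omega)
  · -- `T` is divisible by primes of `k` and `k'`
    obtain ⟨y, hy⟩ := exT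
    obtain ⟨s, hs, hsk⟩ := Nat.exists_prime_and_dvd h.lw.k_pos.1.ne'
    have hWT := h.WS y
    rw [hy] at hWT
    exact h.lw.na hs hsk hr hrk hWT (hsk.trans hkT) (hrk.trans h0)
  · exact g2_Ia h D hvp hu t hkT hTA (SX.dvdB h exT' hr hrk (hrk.trans h0)) (Nat.le_of_dvd hT'0 h0)

/-- the orders are small -/
theorem G2Dat.le (D : G2Dat v u S) (hu : 5 ≤ u) (x : S) : orderOf x ≤ u ^ 2 + u + 1 := by
  have hvu : v ≤ u := by
    obtain ⟨f, hf, hu'⟩ := D.pw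
    rw [hu']
    exact Nat.le_self_pow (by omega) v
  have hv0 := D.vp.pos
  have h25 : 25 ≤ u ^ 2 := by
    calc 25 = 5 ^ 2 := by norm_num
      _ ≤ u ^ 2 := Nat.pow_le_pow_left hu 2
  have e : u * (u + 1) = u ^ 2 + u := by ring
  rcases D.up x with h0 | h0 | h0 | h0 | h0 | ⟨-, h0⟩ | ⟨h1, h0⟩
  · have h2 := Nat.le_of_dvd (Nat.mul_pos hv0 (by omega)) h0
    have h3 : v * (u + 1) ≤ u * (u + 1) := Nat.mul_le_mul_right _ hvu
    omega
  · have h2 := Nat.le_of_dvd (Nat.mul_pos hv0 (by omega)) h0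
    have h3 : v * (u - 1) ≤ u * (u + 1) := Nat.mul_le_mul hvu (by omega)
    omega
  · have h2 := Nat.le_of_dvd (by omega) h0
    omega
  · exact Nat.le_of_dvd (by omega) h0
  · have h2 := Nat.le_of_dvd (by omega) h0
    omega
  · have h2 := Nat.le_of_dvd (by norm_num) h0
    omega
  · have h2 := Nat.le_of_dvd (pow_pos hv0 2) h0
    rcases h1 with rfl | rfl
    · norm_num at h2
      omega
    · norm_num at h2
      omega

theorem G2Dat.not_syl (D : G2Dat v u S) (hu : 5 ≤ u) [Finite S] (x : S) :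
    ¬ v ^ (Nat.card S).factorization v ∣ orderOf x := by
  intro hd
  obtain ⟨f, hf, hu'⟩ := D.pw
  have h1 : v ^ (f * 6) ∣ Nat.card S := by rw [pow_mul, ← hu']; exact D.card
  have h2 := (D.vp.pow_dvd_iff_le_factorization Nat.card_pos.ne').1 h1
  have h3 : u ^ 6 ∣ orderOf x := by
    rw [hu', ← pow_mul]
    exact (pow_dvd_pow v h2).trans hd
  have h4 := Nat.le_of_dvd (orderOf_pos x) h3
  have h5 := D.le hu x
  have h6 : u ^ 2 + u + 1 < u ^ 6 := by
    obtain ⟨t, rfl⟩ : ∃ t, u = t + 5 := ⟨u - 5, by omega⟩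
    zify
    apply pos_lt
    ring_nf
    positivity
  omega

theorem g2_q_lt {p q X u : ℤ} {κ' : ℕ} (hκ : κ' = 1 ∨ κ' = 2) (hX : 2 * X = κ' * (p * (q ^ 2 + 1)))
    (hp : 3 ≤ p) (hu : 2 * X < 3 * u ^ 2) : 0 ≤ u → q < u := by
  intro hu0
  have h1 : 1 ≤ (κ' : ℤ) := by rcases hκ with rfl | rfl <;> norm_num
  have h2 : 3 * (q ^ 2 + 1) ≤ 2 * X := by
    rw [hX]
    have h3 : 0 < q ^ 2 + 1 := by positivity
    have h4 : 3 * (q ^ 2 + 1) ≤ p * (q ^ 2 + 1) := mul_le_mul_of_nonneg_right hp h3.le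
    have h5 : p * (q ^ 2 + 1) ≤ κ' * (p * (q ^ 2 + 1)) := le_mul_of_one_le_left (by linarith) h1
    linarith
  by_contra hcon
  push Not at hcon
  nlinarith

theorem g2_II (h : SX p q k A k' B m i W S) (hg : Good W m i) (D : G2Dat v u S) (hvp : v ≠ p) (hu : 5 ≤ u)
    (hF : ∀ w : ℕ, w.Prime → 5 ≤ w → F1.FldDat v w S) (hw : ∃ w : ℕ, w.Prime ∧ w ∣ k' ∧ w ∣ m * i)
    (h2 : ∀ r : ℕ, r.Prime → (r ∣ (q ^ 2 + 1) / 2 ∨ r = p) → ¬ r ∣ m ∧ ¬ r ∣ i) : False := by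
  have := h.fin
  obtain ⟨w, hwp, hwk, hwmi⟩ := hw
  have hw7 := SX.prime h hwp (Or.inr hwk)
  have hwm : w ∣ m := by
    rcases hwp.dvd_mul.1 hwmi with h3 | h3
    · exact h3
    · exact (SX.noFld h hwp hwk h3 h2 (hF w hwp (by omega))).elim
  have hz25 := z_ge h.lw
  have hp3 := h.lw.p3
  have hvz : ¬ v ∣ (q ^ 2 + 1) / 2 := by
    intro hd
    obtain ⟨x, hx⟩ := SX.cyc h hwp hwk hwm D.vp (Or.inl hd)
    exact D.not_syl hu x hx
  have hvpz : ¬ v ∣ p * ((q ^ 2 + 1) / 2) := by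
    intro hd
    rcases D.vp.dvd_mul.1 hd with h3 | h3
    · exact hvp ((Nat.prime_dvd_prime_iff_eq D.vp h.lw.pp).1 h3)
    · exact hvz h3
  have hcop : (p * ((q ^ 2 + 1) / 2)).Coprime v := (D.vp.coprime_iff_not_dvd.2 hvpz).symm
  have h75 : 75 ≤ p * ((q ^ 2 + 1) / 2) := by nlinarith
  obtain ⟨δ, T, T', t, hkT, exT, exT', hTT⟩ := g2_T h hg D
  obtain ⟨b1, b2, b3, b4⟩ := t.bounds
  have hT0 : 0 < T := by have := le_sq (u := u); nlinarith
  have hTA := SX.dvdA h exT hkT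
  obtain ⟨x, hx⟩ := SX.pzS h h2
  have hcase : p * ((q ^ 2 + 1) / 2) ∣ u ^ 2 - 1 ∨ p * ((q ^ 2 + 1) / 2) ∣ T ∨ p * ((q ^ 2 + 1) / 2) ∣ T' := by
    have hsq : u ^ 2 - 1 = (u - 1) * (u + 1) := sq_sub_one (by omega)
    have h0 := D.up x
    rw [hx] at h0
    rcases h0 with h0 | h0 | h0 | h0 | h0 | ⟨-, h0⟩ | ⟨h1, h0⟩
    · left
      rw [hsq]
      exact (hcop.dvd_of_dvd_mul_left h0).mul_left _
    · left
      rw [hsq]
      exact (hcop.dvd_of_dvd_mul_left h0).mul_right _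
    · exact Or.inl h0
    · exact Or.inr (hTT _ (Or.inl h0))
    · exact Or.inr (hTT _ (Or.inr h0))
    · exfalso
      have := Nat.le_of_dvd (by norm_num) h0
      omega
    · exfalso
      have h3 := hcop.pow_right 2
      have h4 := Nat.Coprime.eq_one_of_dvd h3 h0
      omega
  obtain ⟨hδ, hT, hT'⟩ := t
  have hTz : (u : ℤ) ^ 2 + 1 ≤ T + u := by exact_mod_cast b3
  have hqz : (7 : ℤ) ≤ q := by exact_mod_cast h.lw.q7
  have hpz : (3 : ℤ) ≤ p := by exact_mod_cast hp3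
  have huz : (5 : ℤ) ≤ u := by exact_mod_cast hu
  rcases hcase with h0 | h0 | h0
  · obtain ⟨κ, hκ, -, hX⟩ := SX.pzD h D.ex1 h0
    have h1u : 1 ≤ u ^ 2 := Nat.one_le_pow _ _ (by omega)
    have hXz : 2 * ((u : ℤ) ^ 2 - 1) = κ * (p * ((q : ℤ) ^ 2 + 1)) := by
      have : ((2 * (u ^ 2 - 1) : ℕ) : ℤ) = ((κ * (p * (q ^ 2 + 1)) : ℕ) : ℤ) := by rw [hX]
      push_cast [h1u] at this
      linarith
    have hXu : ((u ^ 2 - 1 : ℕ) : ℤ) = (u : ℤ) ^ 2 - 1 := by push_cast [h1u]; ring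
    have hqu : (q : ℤ) < u := g2_q_lt hκ hXz hpz (by nlinarith) (by linarith)
    have hκ' : κ = 1 ∨ κ = 2 ∨ κ = 4 := by tauto
    rcases hδ with rfl | rfl
    · refine pz_kill' h.lw hTA hκ' hX (Y := u + 2) ?_ ?_ ?_
      · rw [hT, hXu, abs_of_nonneg (by linarith)]
        ring
      · rw [hT, hXu]
        nlinarith
      · linarith
    · refine pz_kill' h.lw hTA hκ' hX (Y := u - 2) ?_ ?_ ?_
      · rw [hT, hXu, abs_of_nonpos (by linarith)]
        ring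
      · rw [hT, hXu]
        nlinarith
      · linarith
  · obtain ⟨y, hy⟩ := exT
    obtain ⟨s, hs, hsk⟩ := Nat.exists_prime_and_dvd h.lw.k_pos.1.ne'
    have hWT := h.WS y
    rw [hy] at hWT
    exact h.lw.naz hs (Or.inl hsk) h.lw.pp (Or.inr rfl) hWT (hsk.trans hkT) ((dvd_mul_right _ _).trans h0)
  · obtain ⟨κ, hκ, -, hX⟩ := SX.pzD h exT' h0
    have hκ' : κ = 1 ∨ κ = 2 ∨ κ = 4 := by tauto
    have hXz : 2 * (T' : ℤ) = κ * (p * ((q : ℤ) ^ 2 + 1)) := by exact_mod_cast hX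
    have hT'z : (T' : ℤ) ≤ (u : ℤ) ^ 2 + u + 1 := by exact_mod_cast b2
    have hqu : (q : ℤ) < u := g2_q_lt hκ hXz hpz (by nlinarith) (by linarith)
    refine pz_kill' h.lw hTA hκ' hX (Y := 2 * u) ?_ ?_ ?_
    · rw [hT, hT']
      rcases hδ with rfl | rfl
      · rw [abs_of_nonneg (by linarith)]
        ring
      · rw [abs_of_nonpos (by linarith)]
        ring
    · rw [hT, hT']
      rcases hδ with rfl | rfl
      · nlinarith
      · nlinarith
    · linarith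

/-- **Row `G₂(u)`.** -/
theorem row_g2 {v f : ℕ} (h : SX p q k A k' B m i W S) (hg : Good W m i) (hI : Fam.Is v f S Fam.g2) (hv : v.Prime)
    (hvp : v ≠ p) : False := by
  have hF : ∀ w : ℕ, w.Prime → 5 ≤ w → F1.FldDat v w S := fun w hw hw5 =>
    fldDat_exc (t := Fam.g2) trivial hv hI hw hw5
  obtain ⟨h3, F, _, _, _, hcard, ⟨e⟩⟩ := hI
  have D : G2Dat v (v ^ f) S := (g2Dat hv hcard h3).congr e
  have hk19 := (k_ge h.lw).1
  have hu : 5 ≤ v ^ f := by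
    by_contra hcon
    have h34 : v ^ f = 3 ∨ v ^ f = 4 := by omega
    rcases h34 with h5 | h5
    · obtain ⟨x, hx⟩ := h.kS hg
      have := Cfsg.Agent.H332.Cyc.order_le_three (F := F) (by rw [hcard, h5]) (e x)
      rw [MulEquiv.orderOf_eq, hx] at this
      omega
    · have h6 := g2_kT h hg D
      rw [h5] at h6
      norm_num at h6
      rcases h6 with h6 | h6
      · have h7 := Nat.le_of_dvd (by norm_num) h6
        interval_cases k
        all_goals revert h6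
        all_goals try decide
        intro _
        have := SX.prime h Nat.prime_three (Or.inl (by norm_num : 3 ∣ 21))
        omega
      · have h7 := Nat.le_of_dvd (by norm_num) h6
        omega
  rcases h.dich with h1 | ⟨hw, h2⟩
  · exact g2_I h hg D hvp hu h1
  · exact g2_II h hg D hvp hu hF hw h2

end

end Cfsg.Agent.R2.Spec.X4.H18
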