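import Cfsg.Agent.R2.Spec.X4.H18.Cof
import Cfsg.Agent.R2.Spec.X4.H18.G2
import Cfsg.Agent.R2.Spec.X4.H18.TabF4
import Cfsg.Agent.H378.OmF4

/-!
# Box X4 of S3435 : row `F₄(u)` (helper18)
-/

set_option autoImplicit false
set_option linter.unusedVariables false

namespace Cfsg.Agent.R2.Spec.X4.H18

open Cfsg Cfsg.Agent.H426.LieFam

universe u

/-- the facts about `ω(F₄(u))` -/
structure F4Dat (v u : ℕ) (S : Type*) [Group S] : Prop where
  vp : v.Prime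
  pw : ∃ f, 1 ≤ f ∧ u = v ^ f
  up : ∀ x : S, ∃ b m : ℕ, H378.OmF4.Om v u (orderOf x) b m
  near : ∀ r : ℕ, r.Prime → r ≠ 2 → r ∣ Nat.card S → (¬ ∃ x : S, orderOf x = 2 * r) →
    (r : ℤ) ∣ (u : ℤ) ^ 4 + 1 ∨ (r : ℤ) ∣ (u : ℤ) ^ 4 - u ^ 2 + 1
  ex12 : ∃ x : S, orderOf x = u ^ 4 - u ^ 2 + 1
  ex8 : ∃ x : S, orderOf x = u ^ 4 + 1
  exA : ∃ x : S, orderOf x = (u ^ 3 - 1) * (u + 1)
  exB : ∃ x : S, orderOf x = (u ^ 3 + 1) * (u - 1)
  exC : ∃ x : S, orderOf x = (u ^ 2 + 1) * (u - 1)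
  card : Nat.card S = u ^ 24 * (u ^ 2 - 1) * (u ^ 6 - 1) * (u ^ 8 - 1) * (u ^ 12 - 1)

theorem f4Dat {v f : ℕ} (hv : v.Prime) {F : Type u} [Field F] [Fintype F] [CharP F v]
    (hF : Fintype.card F = v ^ f) (hf : 1 ≤ f) : F4Dat v (v ^ f) ↥(Lie.chevF4.group F) := by
  have := Fact.mk hv
  have hN : Nat.card F = v ^ f := by rw [Nat.card_eq_fintype_card, hF]
  refine ⟨hv, ⟨f, hf, rfl⟩, fun x => H378.OmF4.om_F4 hN x, ?_, ?_, ?_, ?_, ?_, ?_, ?_⟩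
  · intro r hr h2 hd hn
    have := f4_near hr h2 hd hn
    rwa [hN] at this
  · have := H437.Iso.f4_order12 (F := F)
    rwa [hN] at this
  · have := H437.Iso.f4_order8 (F := F)
    rwa [hN] at this
  · have := H437.Iso.f4_orderA (F := F)
    rwa [hN] at this
  · have := H437.Iso.f4_orderB (F := F)
    rwa [hN] at this
  · have := f4_orderC (F := F)
    rwa [hN] at this
  · exact Cfsg.Agent.S1062.result hF

theorem F4Dat.congr {v u : ℕ} {S X : Type*} [Group S] [Group X] (e : S ≃* X) (h : F4Dat v u X) : F4Dat v u S := by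
  have key : ∀ {n : ℕ}, (∃ x : X, orderOf x = n) → ∃ x : S, orderOf x = n := by
    rintro n ⟨x, rfl⟩
    exact ⟨e.symm x, MulEquiv.orderOf_eq e.symm x⟩
  have key' : ∀ {n : ℕ}, (∃ x : S, orderOf x = n) → ∃ x : X, orderOf x = n := by
    rintro n ⟨x, rfl⟩
    exact ⟨e x, MulEquiv.orderOf_eq e x⟩
  refine ⟨h.vp, h.pw, ?_, ?_, key h.ex12, key h.ex8, key h.exA, key h.exB, key h.exC, ?_⟩
  · intro x
    have := h.up (e x)
    rwa [MulEquiv.orderOf_eq] at this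
  · intro r hr h2 hd hn
    rw [Nat.card_congr e.toEquiv] at hd
    exact h.near r hr h2 hd fun h1 => hn (key h1)
  · rw [Nat.card_congr e.toEquiv]
    exact h.card

/-! ### numbers -/

section num

variable {u : ℕ}

theorem f4c12 : ((u ^ 4 - u ^ 2 + 1 : ℕ) : ℤ) = (u : ℤ) ^ 4 - u ^ 2 + 1 := H437.Iso.f4_cast12 u

theorem f4cA (hu : 1 ≤ u) : (((u ^ 3 - 1) * (u + 1) : ℕ) : ℤ) = ((u : ℤ) ^ 3 - 1) * (u + 1) := by
  have : 1 ≤ u ^ 3 := Nat.one_le_pow _ _ hu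
  push_cast [this]
  ring

theorem f4cB (hu : 1 ≤ u) : (((u ^ 3 + 1) * (u - 1) : ℕ) : ℤ) = ((u : ℤ) ^ 3 + 1) * (u - 1) := by
  push_cast [hu]
  ring

theorem f4cC (hu : 1 ≤ u) : (((u ^ 2 + 1) * (u - 1) : ℕ) : ℤ) = ((u : ℤ) ^ 2 + 1) * (u - 1) := by
  push_cast [hu]
  ring

/-- no common prime -/
theorem no_common {r : ℕ} (hr : 5 ≤ r) {T D α β κ : ℤ} (hT : (r : ℤ) ∣ T) (hD : (r : ℤ) ∣ D)
    (h : α * T + β * D = κ) (hκ : 0 < κ) (hκ' : κ < 5) : False := by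
  have h1 : (r : ℤ) ∣ κ := by
    rw [← h]
    exact dvd_add (hT.mul_left _) (hD.mul_left _)
  have := Int.le_of_dvd hκ h1
  omega

/-- the class of a prime -/
theorem f4_cls (hu : 1 ≤ u) {w m : ℕ} (hw : w.Prime)
    (h : m ∣ u ^ 3 - 1 ∨ m ∣ u ^ 3 + 1 ∨ m ∣ (u ^ 2 + 1) * (u - 1) ∨ m ∣ (u ^ 2 + 1) * (u + 1) ∨ m ∣ u ^ 2 - 1)
    (hm : w ∣ m) : w ∣ (u ^ 3 - 1) * (u + 1) ∨ w ∣ (u ^ 3 + 1) * (u - 1) ∨ w ∣ (u ^ 2 + 1) * (u - 1) := by
  rcases h with h | h | h | h | h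
  · exact Or.inl ((hm.trans h).mul_right _)
  · exact Or.inr (Or.inl ((hm.trans h).mul_right _))
  · exact Or.inr (Or.inr (hm.trans h))
  · rcases hw.dvd_mul.1 (hm.trans h) with h1 | h1
    · exact Or.inr (Or.inr (h1.mul_right _))
    · exact Or.inl (h1.mul_left _)
  · rw [sq_sub_one hu] at h
    rcases hw.dvd_mul.1 (hm.trans h) with h1 | h1
    · exact Or.inr (Or.inl (h1.mul_left _))
    · exact Or.inl (h1.mul_left _)

theorem f4_cls4 (hu : 1 ≤ u) {w m : ℕ} (hw : w.Prime) (h : m ∣ u ^ 4 - 1)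
    (hm : w ∣ m) : w ∣ (u ^ 3 - 1) * (u + 1) ∨ w ∣ (u ^ 3 + 1) * (u - 1) ∨ w ∣ (u ^ 2 + 1) * (u - 1) := by
  have e : u ^ 4 - 1 = (u ^ 2 + 1) * (u ^ 2 - 1) := by
    obtain ⟨t, ht⟩ : ∃ t, u ^ 2 = t + 1 := ⟨u ^ 2 - 1, by have := Nat.one_le_pow 2 u hu; omega⟩
    rw [show u ^ 4 = (u ^ 2) ^ 2 by ring, ht, Nat.add_sub_cancel]
    have : (t + 1) ^ 2 = (t + 1 + 1) * t + 1 := by ring
    omega
  rw [e] at h
  rcases hw.dvd_mul.1 (hm.trans h) with h1 | h1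
  · exact Or.inr (Or.inr (h1.mul_right _))
  · exact f4_cls hu hw (m := u ^ 2 - 1) (Or.inr (Or.inr (Or.inr (Or.inr dvd_rfl)))) h1

end num

section

variable {p q k A k' B m i : ℕ} {W : ℕ → Prop} {S : Type u} [Group S] {v u : ℕ}

theorem F4Dat.u2 (D : F4Dat v u S) : 2 ≤ u := by
  obtain ⟨f, hf, rfl⟩ := D.pw
  exact D.vp.two_le.trans (Nat.le_self_pow (by omega) v)

theorem F4Dat.vu (D : F4Dat v u S) : v ∣ u := by
  obtain ⟨f, hf, rfl⟩ := D.pw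
  exact dvd_pow_self v (by omega)

/-- primes of the tori of type `8`, `12` -/
theorem f4_cop12 (hu : 1 ≤ u) {r : ℕ} (hr : 5 ≤ r) (h : (r : ℤ) ∣ (u : ℤ) ^ 4 - u ^ 2 + 1) :
    ¬ r ∣ (u ^ 3 - 1) * (u + 1) ∧ ¬ r ∣ (u ^ 3 + 1) * (u - 1) ∧ ¬ r ∣ (u ^ 2 + 1) * (u - 1) ∧ ¬ r ∣ u ^ 4 + 1 := by
  refine ⟨fun h1 => ?_, fun h1 => ?_, fun h1 => ?_, fun h1 => ?_⟩
  · have h2 : (r : ℤ) ∣ (((u ^ 3 - 1) * (u + 1) : ℕ) : ℤ) := by exact_mod_cast h1
    rw [f4cA hu] at h2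
    exact no_common hr h h2 (α := (u : ℤ) ^ 2 + 1) (β := -(u : ℤ) ^ 2 + u - 1) (κ := 2) (by ring) (by norm_num)
      (by norm_num)
  · have h2 : (r : ℤ) ∣ (((u ^ 3 + 1) * (u - 1) : ℕ) : ℤ) := by exact_mod_cast h1
    rw [f4cB hu] at h2
    exact no_common hr h h2 (α := (u : ℤ) ^ 2 + 1) (β := -(u : ℤ) ^ 2 - u - 1) (κ := 2) (by ring) (by norm_num)
      (by norm_num)
  · have h2 : (r : ℤ) ∣ (((u ^ 2 + 1) * (u - 1) : ℕ) : ℤ) := by exact_mod_cast h1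
    rw [f4cC hu] at h2
    exact no_common hr h h2 (α := (u : ℤ) ^ 2 + 2) (β := (-(u : ℤ) ^ 2 - 1) * (u + 1)) (κ := 3) (by ring)
      (by norm_num) (by norm_num)
  · have h2 : (r : ℤ) ∣ (u : ℤ) ^ 4 + 1 := by exact_mod_cast h1
    exact no_common hr h h2 (α := (u : ℤ) ^ 2) (β := 1 - (u : ℤ) ^ 2) (κ := 1) (by ring) (by norm_num) (by norm_num)

theorem f4_cop8 (hu : 1 ≤ u) {r : ℕ} (hr : 5 ≤ r) (h : (r : ℤ) ∣ (u : ℤ) ^ 4 + 1) :
    ¬ r ∣ (u ^ 3 - 1) * (u + 1) ∧ ¬ r ∣ (u ^ 3 + 1) * (u - 1) ∧ ¬ r ∣ (u ^ 2 + 1) * (u - 1) ∧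
      ¬ r ∣ u ^ 4 - u ^ 2 + 1 := by
  refine ⟨fun h1 => ?_, fun h1 => ?_, fun h1 => ?_, fun h1 => ?_⟩
  · have h2 : (r : ℤ) ∣ (((u ^ 3 - 1) * (u + 1) : ℕ) : ℤ) := by exact_mod_cast h1
    rw [f4cA hu] at h2
    exact no_common hr h h2 (α := (u : ℤ) ^ 3 + u ^ 2 - u) (β := -(u : ℤ) ^ 3 + u - 2) (κ := 2) (by ring)
      (by norm_num) (by norm_num)
  · have h2 : (r : ℤ) ∣ (((u ^ 3 + 1) * (u - 1) : ℕ) : ℤ) := by exact_mod_cast h1
    rw [f4cB hu] at h2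
    exact no_common hr h h2 (α := -(u : ℤ) ^ 3 + u ^ 2 + u) (β := (u : ℤ) ^ 3 - u - 2) (κ := 2) (by ring)
      (by norm_num) (by norm_num)
  · have h2 : (r : ℤ) ∣ (((u ^ 2 + 1) * (u - 1) : ℕ) : ℤ) := by exact_mod_cast h1
    rw [f4cC hu] at h2
    exact no_common hr h h2 (α := 1) (β := -((u : ℤ) + 1)) (κ := 2) (by ring)
      (by norm_num) (by norm_num)
  · have h2 : (r : ℤ) ∣ ((u ^ 4 - u ^ 2 + 1 : ℕ) : ℤ) := by exact_mod_cast h1
    rw [f4c12] at h2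
    exact no_common hr h2 h (α := (u : ℤ) ^ 2) (β := 1 - (u : ℤ) ^ 2) (κ := 1) (by ring) (by norm_num) (by norm_num)

/-- the torus of `k` -/
theorem f4_kT (h : SX p q k A k' B m i W S) (hg : Good W m i) (D : F4Dat v u S) :
    k ∣ u ^ 4 - u ^ 2 + 1 ∨ (k ∣ u ^ 4 + 1 ∧ u % 2 = 0) := by
  obtain ⟨r, hr, hrk⟩ := Nat.exists_prime_and_dvd h.lw.k_pos.1.ne'
  have hr7 := SX.prime h hr (Or.inl hrk)
  have hu2 := D.u2
  have hu1 : 1 ≤ u := by omega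
  obtain ⟨x, hx⟩ := h.kS hg
  have hgk := h.good_k hg hr hrk
  have hdS := h.dvd_card hr (h.W_prime hr (Or.inl hrk)) hgk.1 hgk.2
  obtain ⟨b, n, O⟩ := D.up x
  rw [hx] at O
  have hrv : (r : ℤ) ∣ (u : ℤ) ^ 4 + 1 ∨ (r : ℤ) ∣ (u : ℤ) ^ 4 - u ^ 2 + 1 → ¬ r ∣ v := by
    intro h1 hrv
    have h2 : (r : ℤ) ∣ u := by exact_mod_cast hrv.trans D.vu
    have h3 : (r : ℤ) ∣ 1 := by
      rcases h1 with h1 | h1
      · have := dvd_sub h1 (h2.mul_right ((u : ℤ) ^ 3))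
        have e : (u : ℤ) ^ 4 + 1 - u * u ^ 3 = 1 := by ring
        rwa [e] at this
      · have := dvd_sub h1 (h2.mul_right ((u : ℤ) ^ 3 - u))
        have e : (u : ℤ) ^ 4 - u ^ 2 + 1 - u * (u ^ 3 - u) = 1 := by ring
        rwa [e] at this
    have := Int.le_of_dvd (by norm_num) h3
    omega
  have hnear := D.near r hr (by omega) hdS (h.twoS hr hrk)
  have hrn : r ∣ n := by
    have h1 : r ∣ v ^ b * n := by rw [← O.eq]; exact hrk
    rcases hr.dvd_mul.1 h1 with h2 | h2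
    · exact absurd (hr.dvd_of_dvd_pow h2) (hrv hnear)
    · exact h2
  have hcls : ¬ (r ∣ (u ^ 3 - 1) * (u + 1) ∨ r ∣ (u ^ 3 + 1) * (u - 1) ∨ r ∣ (u ^ 2 + 1) * (u - 1)) := by
    rcases hnear with h1 | h1
    · have := f4_cop8 hu1 (by omega) h1
      tauto
    · have := f4_cop12 hu1 (by omega) h1
      tauto
  have hb : b = 0 := by
    by_contra hb
    exact hcls (f4_cls hu1 hr (O.s1 hb) hrn)
  have hkn : k = n := by rw [O.eq, hb, pow_zero, one_mul]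
  have h0 := O.s0
  rw [← hkn] at h0
  rcases h0 with h0 | h0 | h0 | h0 | h0
  · exact Or.inl h0
  · right
    refine ⟨h0, ?_⟩
    by_contra hodd
    have h2 : 2 ∣ u ^ 4 + 1 := by
      have : u % 2 = 1 := by omega
      have h3 : u ^ 4 % 2 = 1 := by rw [Nat.pow_mod, this]
      omega
    exact SX.no_two h hr hrk D.ex8 h2 (hrk.trans h0)
  · exact absurd (f4_cls4 hu1 hr h0 hrk) hcls
  · exact absurd (Or.inl (hrk.trans h0)) hcls
  · exact absurd (Or.inr (Or.inl (hrk.trans h0))) hcls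

/-- the bound for `c` -/
theorem f4_c (h : LW p q k A k' B W) {T c : ℕ} (hc : A = c * T) (hk : k ≤ T)
    (hk' : k' ≤ u ^ 4 + u ^ 3 + u ^ 2 + u) (hu : 4 ≤ u) (hT : u ^ 4 + 1 ≤ T + u ^ 2) : 2 * c < 3 * u ^ 2 := by
  by_contra hcon
  have h1 := h_bound h hc hk hk'
  have h2 : (3 * u ^ 2) ^ 4 ≤ (2 * c) ^ 4 := Nat.pow_le_pow_left (not_lt.1 hcon) 4
  have h3 : 81 * u ^ 8 * T ≤ 16 * c ^ 4 * T := by
    have : 81 * u ^ 8 ≤ 16 * c ^ 4 := by
      have e1 : (3 * u ^ 2) ^ 4 = 81 * u ^ 8 := by ring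
      have e2 : (2 * c) ^ 4 = 16 * c ^ 4 := by ring
      omega
    exact Nat.mul_le_mul_right T this
  have h4 : 81 * u ^ 8 * T = 27 * (3 * u ^ 8 * T) := by ring
  have h5 : (u ^ 4 + u ^ 3 + u ^ 2 + u) ^ 3 < 3 * u ^ 8 * T := by
    have hTz : (u : ℤ) ^ 4 + 1 - u ^ 2 ≤ T := by
      have : (u : ℤ) ^ 4 + 1 ≤ T + u ^ 2 := by exact_mod_cast hT
      linarith
    have h6 : 3 * (u : ℤ) ^ 8 * ((u : ℤ) ^ 4 + 1 - u ^ 2) ≤ 3 * u ^ 8 * T :=
      mul_le_mul_of_nonneg_left hTz (by positivity)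
    zify
    refine lt_of_lt_of_le ?_ h6
    obtain ⟨t, rfl⟩ : ∃ t, u = t + 4 := ⟨u - 4, by omega⟩
    push_cast
    apply pos_lt
    ring_nf
    positivity
  omega

theorem not_pow_q (h : LW p q k A k' B W) (hv : v.Prime) (hpw : ∃ f, 1 ≤ f ∧ u = v ^ f) (hvp : v ≠ p) {e : ℕ}
    (he : e ≠ 0) : q ≠ u ^ e := by
  intro hq
  obtain ⟨f, hf, hu⟩ := hpw
  obtain ⟨a, ha⟩ := h.qp
  have h1 : v ∣ p ^ a := by
    rw [← ha, hq, hu, ← pow_mul]
    exact dvd_pow_self v (Nat.mul_ne_zero (by omega) he)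
  exact hvp ((Nat.prime_dvd_prime_iff_eq hv h.pp).1 (hv.dvd_of_dvd_pow h1))

theorem pow_three_inj {a b : ℤ} (h : a ^ 3 = b ^ 3) : a = b :=
  (Odd.strictMono_pow (by decide : Odd 3)).injective h

theorem f4_hT : u ^ 4 + 1 ≤ (u ^ 4 - u ^ 2 + 1) + u ^ 2 := by omega

/-- type `12`, the torus `(u³ ∓ 1)(u ± 1)` -/
theorem f4_12AB (h : SX p q k A k' B m i W S) (hv : v.Prime) (hpw : ∃ f, 1 ≤ f ∧ u = v ^ f) (hvp : v ≠ p) (hu : 4 ≤ u)
    (hkT : k ∣ u ^ 4 - u ^ 2 + 1) (hTA : u ^ 4 - u ^ 2 + 1 ∣ A) (hk' : k' ≤ u ^ 4 + u ^ 3 + u ^ 2 + u)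
    (hB : (u ^ 3 - 1) * (u + 1) ∣ B ∨ (u ^ 3 + 1) * (u - 1) ∣ B) : False := by
  obtain ⟨c, hc⟩ := hTA
  rw [mul_comm] at hc
  have hc2 := f4_c h.lw hc (Nat.le_of_dvd (by omega) hkT) hk' hu f4_hT
  have huz : (4 : ℤ) ≤ u := by exact_mod_cast hu
  have hcz : 2 * (c : ℤ) < 3 * u ^ 2 := by exact_mod_cast hc2
  have hAz : (A : ℤ) = c * ((u : ℤ) ^ 4 - u ^ 2 + 1) := by
    rw [← f4c12]
    exact_mod_cast hc
  have habs : |(u : ℤ) ^ 2 + 1| = (u : ℤ) ^ 2 + 1 := abs_of_nonneg (by positivity)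
  have fin : (A = B + 1 ∧ c * (2 : ℤ) = (u : ℤ) ^ 2 + 1) ∨ (B = A + 1 ∧ c * (2 : ℤ) = -((u : ℤ) ^ 2 + 1)) → False := by
    rintro (⟨h1, h2⟩ | ⟨h1, h2⟩)
    · apply not_pow_q h.lw hv hpw hvp (e := 2) two_ne_zero
      rcases h.lw.side.two_mul with ⟨-, -, -, h3⟩ | ⟨-, h3, -, -⟩
      · omega
      · have h4 : 2 * (A : ℤ) = (q : ℤ) ^ 3 + 1 := by exact_mod_cast h3
        have : (q : ℤ) ^ 3 = ((u : ℤ) ^ 2) ^ 3 := by
          linear_combination -h4 + 2 * hAz + ((u : ℤ) ^ 4 - u ^ 2 + 1) * h2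
        have := pow_three_inj this
        exact_mod_cast this
    · have : (0 : ℤ) ≤ c := by positivity
      nlinarith
  rcases hB with hB | hB
  · refine fin (kill_eq h.lw hc hB (κ := 2) (α := (u : ℤ) ^ 2 + 1) (by norm_num) ?_ ?_)
    · rw [f4cA (by omega), f4c12]
      exact ⟨(u : ℤ) ^ 2 - u + 1, by ring⟩
    · rw [f4cA (by omega), habs]
      nlinarith [pow_pos (show (0 : ℤ) < u by linarith) 3]
  · refine fin (kill_eq h.lw hc hB (κ := 2) (α := (u : ℤ) ^ 2 + 1) (by norm_num) ?_ ?_)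
    · rw [f4cB (by omega), f4c12]
      exact ⟨(u : ℤ) ^ 2 + u + 1, by ring⟩
    · rw [f4cB (by omega), habs]
      nlinarith [pow_pos (show (0 : ℤ) < u by linarith) 3, mul_pos (show (0 : ℤ) < u by linarith) (show (0 : ℤ) < u by linarith)]

/-- type `12`, the torus `(u² + 1)(u - 1)` -/
theorem f4_12C (h : SX p q k A k' B m i W S) (hu : 7 ≤ u)
    (hkT : k ∣ u ^ 4 - u ^ 2 + 1) (hTA : u ^ 4 - u ^ 2 + 1 ∣ A) (hk' : k' ≤ u ^ 4 + u ^ 3 + u ^ 2 + u)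
    (hB : (u ^ 2 + 1) * (u - 1) ∣ B) : False := by
  obtain ⟨c, hc⟩ := hTA
  rw [mul_comm] at hc
  have hc2 := f4_c h.lw hc (Nat.le_of_dvd (by omega) hkT) hk' (by omega) f4_hT
  have huz : (7 : ℤ) ≤ u := by exact_mod_cast hu
  have hcz : 2 * (c : ℤ) < 3 * u ^ 2 := by exact_mod_cast hc2
  have habs : |(u : ℤ) ^ 2 + 2| = (u : ℤ) ^ 2 + 2 := abs_of_nonneg (by positivity)
  obtain ⟨t, ht⟩ := hkT
  have ht0 : 1 ≤ t := by
    rcases Nat.eq_zero_or_pos t with h0 | h0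
    · rw [h0, mul_zero] at ht
      omega
    · exact h0
  rcases kill_eq h.lw hc hB (κ := 3) (α := (u : ℤ) ^ 2 + 2) (by norm_num) (by
      rw [f4cC (by omega), f4c12]
      exact ⟨((u : ℤ) ^ 2 + 1) * (u + 1), by ring⟩) (by
      rw [f4cC (by omega), habs]
      nlinarith) with ⟨h1, h2⟩ | ⟨h1, h2⟩
  · obtain ⟨g, hg, ⟨h3, -⟩ | ⟨-, h3⟩⟩ := cof_eq h.lw hc ht
    · omega
    · rw [f4c12] at h3
      refine no_e2 (X := (u : ℤ) ^ 2) (c := c) (t := t) hg (by nlinarith) (by exact_mod_cast ht0) (by linarith) ?_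
      rw [← h3]
      ring
  · have : (0 : ℤ) ≤ c := by positivity
    nlinarith

/-- type `12`, the torus `u⁴ + 1` -/
theorem f4_12E (h : SX p q k A k' B m i W S) (hu : 4 ≤ u)
    (hkT : k ∣ u ^ 4 - u ^ 2 + 1) (hTA : u ^ 4 - u ^ 2 + 1 ∣ A) (hk' : k' ≤ u ^ 4 + u ^ 3 + u ^ 2 + u)
    (hB : u ^ 4 + 1 ∣ B) : False := by
  obtain ⟨c, hc⟩ := hTA
  rw [mul_comm] at hc
  have hc2 := f4_c h.lw hc (Nat.le_of_dvd (by omega) hkT) hk' (by omega) f4_hT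
  have huz : (4 : ℤ) ≤ u := by exact_mod_cast hu
  have hcz : 2 * (c : ℤ) < 3 * u ^ 2 := by exact_mod_cast hc2
  have habs : |(u : ℤ) ^ 2| = (u : ℤ) ^ 2 := abs_of_nonneg (by positivity)
  obtain ⟨t, ht⟩ := hkT
  have ht0 : 1 ≤ t := by
    rcases Nat.eq_zero_or_pos t with h0 | h0
    · rw [h0, mul_zero] at ht
      omega
    · exact h0
  rcases kill_eq h.lw hc hB (κ := 1) (α := (u : ℤ) ^ 2) (by norm_num) (by
      rw [f4c12]
      push_cast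
      exact ⟨(u : ℤ) ^ 2 - 1, by ring⟩) (by
      rw [habs]
      push_cast
      nlinarith) with ⟨h1, h2⟩ | ⟨h1, h2⟩
  · obtain ⟨g, hg, ⟨h3, -⟩ | ⟨-, h3⟩⟩ := cof_eq h.lw hc ht
    · omega
    · rw [f4c12] at h3
      refine no_e1 (X := (u : ℤ) ^ 2) (c := c) (t := t) hg (by nlinarith) (by exact_mod_cast ht0) (by linarith) ?_
      rw [← h3]
      ring
  · have : (0 : ℤ) ≤ c := by positivity
    nlinarith

/-- type `8` -/
theorem f4_8 (h : SX p q k A k' B m i W S) (hu : 4 ≤ u)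
    (hkT : k ∣ u ^ 4 + 1) (hTA : u ^ 4 + 1 ∣ A) (hk' : k' ≤ u ^ 4 + u ^ 3 + u ^ 2 + u)
    (hB : (u ^ 3 - 1) * (u + 1) ∣ B ∨ (u ^ 3 + 1) * (u - 1) ∣ B ∨ (u ^ 2 + 1) * (u - 1) ∣ B ∨
      u ^ 4 - u ^ 2 + 1 ∣ B) : False := by
  obtain ⟨c, hc⟩ := hTA
  rw [mul_comm] at hc
  have hc2 := f4_c h.lw hc (Nat.le_of_dvd (by omega) hkT) hk' (by omega) (by omega)
  have huz : (4 : ℤ) ≤ u := by exact_mod_cast hu
  have hcz : 2 * (c : ℤ) < 3 * u ^ 2 := by exact_mod_cast hc2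
  have hc0 : (0 : ℤ) ≤ c := by positivity
  have hAo := h.lw.side.A_odd
  have hco : c % 2 = 1 := by
    by_contra hcon
    have h2 : c % 2 = 0 := by omega
    rw [hc, Nat.mul_mod, h2, zero_mul] at hAo
    simp at hAo
  rcases hB with hB | hB | hB | hB
  · have habs : |(u : ℤ) ^ 3 + u ^ 2 - u| = (u : ℤ) ^ 3 + u ^ 2 - u := abs_of_nonneg (by nlinarith [pow_pos (show (0 : ℤ) < u by linarith) 3])
    rcases kill_eq h.lw hc hB (κ := 2) (α := (u : ℤ) ^ 3 + u ^ 2 - u) (by norm_num) (by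
        rw [f4cA (by omega)]
        push_cast
        exact ⟨(u : ℤ) ^ 3 - u + 2, by ring⟩) (by
        rw [f4cA (by omega), habs]
        nlinarith [mul_pos (show (0 : ℤ) < u by linarith) (show (0 : ℤ) < u by linarith), mul_self_nonneg ((u : ℤ) ^ 2 - 4)]) with ⟨h1, h2⟩ | ⟨h1, h2⟩
    · nlinarith
    · nlinarith
  · have habs : |-(u : ℤ) ^ 3 + u ^ 2 + u| = (u : ℤ) ^ 3 - u ^ 2 - u := by
      rw [abs_of_nonpos (by nlinarith)]
      ring
    rcases kill_eq h.lw hc hB (κ := 2) (α := -(u : ℤ) ^ 3 + u ^ 2 + u) (by norm_num) (by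
        rw [f4cB (by omega)]
        push_cast
        exact ⟨-(u : ℤ) ^ 3 + u + 2, by ring⟩) (by
        rw [f4cB (by omega), habs]
        nlinarith [mul_pos (show (0 : ℤ) < u by linarith) (show (0 : ℤ) < u by linarith), mul_self_nonneg ((u : ℤ) ^ 2 - 4)]) with ⟨h1, h2⟩ | ⟨h1, h2⟩
    · nlinarith
    · by_cases hu4 : u = 4
      · subst hu4
        norm_num at h2
        omega
      · have : (5 : ℤ) ≤ u := by
          have : 5 ≤ u := by omega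
          exact_mod_cast this
        nlinarith
  · rcases kill_eq h.lw hc hB (κ := 2) (α := 1) (by norm_num) (by
        rw [f4cC (by omega)]
        push_cast
        exact ⟨(u : ℤ) + 1, by ring⟩) (by
        rw [f4cC (by omega), abs_one]
        nlinarith) with ⟨h1, h2⟩ | ⟨h1, h2⟩
    · omega
    · omega
  · have habs : |1 - (u : ℤ) ^ 2| = (u : ℤ) ^ 2 - 1 := by
      rw [abs_of_nonpos (by nlinarith)]
      ring
    obtain ⟨t, ht⟩ := hkT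
    have ht0 : 1 ≤ t := by
      rcases Nat.eq_zero_or_pos t with h0 | h0
      · rw [h0, mul_zero] at ht
        omega
      · exact h0
    rcases kill_eq h.lw hc hB (κ := 1) (α := 1 - (u : ℤ) ^ 2) (by norm_num) (by
        rw [f4c12]
        push_cast
        exact ⟨-(u : ℤ) ^ 2, by ring⟩) (by
        rw [f4c12, habs]
        have h16 : (16 : ℤ) ≤ (u : ℤ) ^ 2 := by nlinarith
        nlinarith) with ⟨h1, h2⟩ | ⟨h1, h2⟩
    · nlinarith
    · obtain ⟨g, hg, ⟨-, h3⟩ | ⟨h3, -⟩⟩ := cof_eq h.lw hc ht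
      · refine no_e3 (X := (u : ℤ) ^ 2) (c := c) (t := t) hg (by nlinarith) (by exact_mod_cast ht0) (by linarith) ?_
        rw [← h3]
        push_cast
        ring
      · omega

/-- the case `k' = v ^ b` -/
theorem f4_small (h : LW p q k A k' B W) (hu : 7 ≤ u) {T : ℕ} (hTA : T ∣ A) (hT : u ^ 4 + 1 ≤ T + u ^ 2)
    (hk' : k' ≤ 11 * u) : False := by
  have hA0 : 0 < A := by
    have := h.side.A_odd
    omega
  have h1 := Nat.le_of_dvd hA0 hTA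
  have h2 := (h.side.k_ge h.q2).2
  have h3 : 2 * A ≤ q ^ 3 + 1 := by rcases h.side.two_mul with h3 | h3 <;> omega
  have hqq : q ≤ q ^ 2 := Nat.le_self_pow two_ne_zero q
  have hq7 : (7 : ℤ) ≤ q := by exact_mod_cast h.q7
  have huz : (7 : ℤ) ≤ u := by exact_mod_cast hu
  have e1 : (q : ℤ) ^ 2 - q + 1 ≤ 33 * u := by
    have : q ^ 2 + 1 ≤ 33 * u + q := by omega
    have : (q : ℤ) ^ 2 + 1 ≤ 33 * u + q := by exact_mod_cast this
    linarith
  have e2 : 2 * ((u : ℤ) ^ 4 + 1 - u ^ 2) ≤ (q : ℤ) ^ 3 + 1 := by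
    have h4 : 2 * (u ^ 4 + 1) ≤ q ^ 3 + 1 + 2 * u ^ 2 := by omega
    have : 2 * ((u : ℤ) ^ 4 + 1) ≤ (q : ℤ) ^ 3 + 1 + 2 * u ^ 2 := by exact_mod_cast h4
    linarith
  have e3 : (q : ℤ) ^ 3 + 1 = (q + 1) * (q ^ 2 - q + 1) := by ring
  have e4 : ((q : ℤ) + 1) * (q ^ 2 - q + 1) ≤ (q + 1) * (33 * u) := mul_le_mul_of_nonneg_left e1 (by linarith)
  have e5 : 2 * ((u : ℤ) ^ 4 + 1 - u ^ 2) ≤ (q + 1) * (33 * u) := by linarith
  -- `33 (q + 1) ≥ 96 u`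
  have e6 : 96 * (u : ℤ) ≤ 33 * (q + 1) := by
    have h49 : (49 : ℤ) ≤ (u : ℤ) ^ 2 := by nlinarith
    have h50 : 49 * (u : ℤ) ^ 2 ≤ (u : ℤ) ^ 4 := by
      have e : (u : ℤ) ^ 4 = u ^ 2 * u ^ 2 := by ring
      rw [e]
      exact mul_le_mul_of_nonneg_right h49 (by positivity)
    have h5 : u * (96 * (u : ℤ)) ≤ u * (33 * (q + 1)) := by linarith
    exact le_of_mul_le_mul_left h5 (by linarith)
  nlinarith

theorem f4_I (h : SX p q k A k' B m i W S) (hg : Good W m i) (D : F4Dat v u S) (hvp : v ≠ p) (hu : 4 ≤ u)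
    (h1 : ∀ r : ℕ, r.Prime → r ∣ k' → ¬ r ∣ m ∧ ¬ r ∣ i) : False := by
  obtain ⟨x, hx⟩ := SX.k'S h h1
  have hk25 := (k_ge h.lw).2
  have hp7 : ∀ w : ℕ, w.Prime → w ∣ k' → 7 ≤ w := fun w hw hwk => SX.prime h hw (Or.inr hwk)
  obtain ⟨s, hs, hsk⟩ := Nat.exists_prime_and_dvd h.lw.k_pos.1.ne'
  have hu1 : 1 ≤ u := by omega
  have b0 : u ^ 4 - u ^ 2 + 1 ≤ u ^ 4 + u ^ 3 + u ^ 2 + u := by omega
  have b8 : u ^ 4 + 1 ≤ u ^ 4 + u ^ 3 + u ^ 2 + u := by omega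
  have bA : (u ^ 3 - 1) * (u + 1) ≤ u ^ 4 + u ^ 3 + u ^ 2 + u := by
    zify [Nat.one_le_pow 3 u hu1]
    nlinarith [sq_nonneg (u : ℤ), (by positivity : (0 : ℤ) ≤ u)]
  have bB : (u ^ 3 + 1) * (u - 1) ≤ u ^ 4 + u ^ 3 + u ^ 2 + u := by
    zify [hu1]
    nlinarith [sq_nonneg (u : ℤ), (by positivity : (0 : ℤ) ≤ u), (by positivity : (0 : ℤ) ≤ (u : ℤ) ^ 3)]
  -- common torus
  have hcommon : ∀ T : ℕ, k ∣ T → k' ∣ T → (∃ x : S, orderOf x = T) → False := by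
    rintro T h2 h3 ⟨y, rfl⟩
    obtain ⟨r, hr, hrk⟩ := Nat.exists_prime_and_dvd (show k' ≠ 1 by omega)
    exact h.lw.na hs hsk hr hrk (h.WS y) (hsk.trans h2) (hrk.trans h3)
  obtain ⟨b, n, O⟩ := D.up x
  rw [hx] at O
  -- `k' ≤ M`, a prime of `k'` divides one of the tori `A`, `B`, `C`, `u ≥ 7` for `C`; or `k' ∣ u⁴ + 1`, ...
  have hcase : (k' ≤ u ^ 4 + u ^ 3 + u ^ 2 + u ∧ ((u ^ 3 - 1) * (u + 1) ∣ B ∨ (u ^ 3 + 1) * (u - 1) ∣ B ∨
      (7 ≤ u ∧ (u ^ 2 + 1) * (u - 1) ∣ B))) ∨ k' ∣ u ^ 4 + 1 ∨ k' ∣ u ^ 4 - u ^ 2 + 1 ∨ (7 ≤ u ∧ k' ≤ 11 * u) := by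
    have cls : ∀ w : ℕ, w.Prime → w ∣ k' → (w ∣ (u ^ 3 - 1) * (u + 1) ∨ w ∣ (u ^ 3 + 1) * (u - 1) ∨
        w ∣ (u ^ 2 + 1) * (u - 1)) → 7 ≤ u → ((u ^ 3 - 1) * (u + 1) ∣ B ∨ (u ^ 3 + 1) * (u - 1) ∣ B ∨
        (7 ≤ u ∧ (u ^ 2 + 1) * (u - 1) ∣ B)) := by
      rintro w hw hwk (h2 | h2 | h2) h7
      · exact Or.inl (SX.dvdB h D.exA hw hwk h2)
      · exact Or.inr (Or.inl (SX.dvdB h D.exB hw hwk h2))
      · exact Or.inr (Or.inr ⟨h7, SX.dvdB h D.exC hw hwk h2⟩)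
    obtain ⟨r, hr, hrk⟩ := Nat.exists_prime_and_dvd (show k' ≠ 1 by omega)
    by_cases hb : b = 0
    · have hkn : k' = n := by rw [O.eq, hb, pow_zero, one_mul]
      have h0 := O.s0
      rw [← hkn] at h0
      rcases h0 with h0 | h0 | h0 | h0 | h0
      · exact Or.inr (Or.inr (Or.inl h0))
      · exact Or.inr (Or.inl h0)
      · left
        have hu4 : 1 < u ^ 4 := Nat.one_lt_pow (by norm_num) (by omega)
        have hle := Nat.le_of_dvd (by omega) h0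
        refine ⟨by omega, cls r hr hrk (f4_cls4 hu1 hr h0 hrk) ?_⟩
        by_contra hcon
        have hcop : ∀ y : ℕ, y.Prime → y < 7 → k'.Coprime y := fun y hy hy7 =>
          ((hy.coprime_iff_not_dvd.2 fun hd => by have := hp7 y hy hd; omega)).symm
        have c2 := hcop 2 Nat.prime_two (by norm_num)
        have c3 := hcop 3 Nat.prime_three (by norm_num)
        have c5 := hcop 5 Nat.prime_five (by norm_num)
        rcases (by omega : u = 4 ∨ u = 5 ∨ u = 6) with h4 | h4 | h4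
        · subst h4
          have h5 : k' ∣ 3 * (5 * 17) := by norm_num at h0 ⊢; exact h0
          have h6 := Nat.le_of_dvd (by norm_num) (c5.dvd_of_dvd_mul_left (c3.dvd_of_dvd_mul_left h5))
          omega
        · subst h4
          have h5 : k' ∣ 2 ^ 4 * (3 * 13) := by norm_num at h0 ⊢; exact h0
          have h6 := Nat.le_of_dvd (by norm_num) (c3.dvd_of_dvd_mul_left ((c2.pow_right 4).dvd_of_dvd_mul_left h5))
          omega
        · subst h4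
          have h5 : k' ∣ 5 * (7 * 37) := by norm_num at h0 ⊢; exact h0
          obtain ⟨f, hf, hu'⟩ := D.pw
          have h2 : 2 ∣ v ^ f := by rw [← hu']; norm_num
          have h3 : 3 ∣ v ^ f := by rw [← hu']; norm_num
          have h4 := (Nat.prime_dvd_prime_iff_eq Nat.prime_two D.vp).1 (Nat.prime_two.dvd_of_dvd_pow h2)
          have h5 := (Nat.prime_dvd_prime_iff_eq Nat.prime_three D.vp).1 (Nat.prime_three.dvd_of_dvd_pow h3)
          omega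
      · left
        have hu3 : 1 < u ^ 3 := Nat.one_lt_pow (by norm_num) (by omega)
        have hle := Nat.le_of_dvd (Nat.mul_pos (by omega) (by omega)) h0
        exact ⟨by omega, Or.inl (SX.dvdB h D.exA hr hrk (hrk.trans h0))⟩
      · left
        have hle := Nat.le_of_dvd (Nat.mul_pos (by omega) (by omega)) h0
        exact ⟨by omega, Or.inr (Or.inl (SX.dvdB h D.exB hr hrk (hrk.trans h0)))⟩
    · have hvk : v ∣ k' := by
        rw [O.eq]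
        exact (dvd_pow_self v hb).mul_right _
      have hv7 := hp7 v D.vp hvk
      have hvu : v ≤ u := Nat.le_of_dvd (by omega) D.vu
      have hu7 : 7 ≤ u := by omega
      have hpow : v ^ b = v * v ^ (b - 1) := by
        rw [← pow_succ']
        congr 1
        omega
      by_cases hn : n = 1
      · right; right; right
        refine ⟨hu7, ?_⟩
        rw [O.eq, hn, mul_one, hpow]
        have := O.le hb
        calc v * v ^ (b - 1) ≤ u * 11 := Nat.mul_le_mul hvu this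
          _ = 11 * u := mul_comm _ _
      · left
        obtain ⟨w, hw, hwn⟩ := Nat.exists_prime_and_dvd hn
        have hwk : w ∣ k' := by rw [O.eq]; exact hwn.mul_left _
        have hw7 := hp7 w hw hwk
        have hb1 : b = 1 := by
          by_contra hb1
          have h6 : 6 ≤ v ^ (b - 1) := by
            have : v ≤ v ^ (b - 1) := Nat.le_self_pow (by omega) v
            omega
          have := Nat.le_of_dvd (by norm_num) (hwn.trans (O.s6 hb h6))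
          omega
        refine ⟨?_, cls w hw hwk (f4_cls hu1 hw (O.s1 hb) hwn) hu7⟩
        have hu2 : 1 < u ^ 2 := Nat.one_lt_pow (by norm_num) (by omega)
        have hu3 : 1 < u ^ 3 := Nat.one_lt_pow (by norm_num) (by omega)
        have hn3 : n ≤ u ^ 3 + u ^ 2 + u + 1 := by
          rcases O.s1 hb with h2 | h2 | h2 | h2 | h2
          · have := Nat.le_of_dvd (by omega) h2; omega
          · have := Nat.le_of_dvd (by omega) h2; omega
          · have h3 := Nat.le_of_dvd (Nat.mul_pos (by omega) (by omega)) h2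
            have h4 : (u ^ 2 + 1) * (u - 1) ≤ (u ^ 2 + 1) * (u + 1) := Nat.mul_le_mul_left _ (by omega)
            have h5 : (u ^ 2 + 1) * (u + 1) = u ^ 3 + u ^ 2 + u + 1 := by ring
            omega
          · have h3 := Nat.le_of_dvd (Nat.mul_pos (by omega) (by omega)) h2
            have h5 : (u ^ 2 + 1) * (u + 1) = u ^ 3 + u ^ 2 + u + 1 := by ring
            omega
          · have := Nat.le_of_dvd (by omega) h2; omega
        rw [O.eq, hb1, pow_one]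
        calc v * n ≤ u * (u ^ 3 + u ^ 2 + u + 1) := Nat.mul_le_mul hvu hn3
          _ = _ := by ring
  rcases f4_kT h hg D with hkT | ⟨hkT, hev⟩
  · have hTA := SX.dvdA h D.ex12 hkT
    rcases hcase with ⟨hle, h2 | h2 | ⟨h7, h2⟩⟩ | h2 | h2 | ⟨h7, h2⟩
    · exact f4_12AB h D.vp D.pw hvp hu hkT hTA hle (Or.inl h2)
    · exact f4_12AB h D.vp D.pw hvp hu hkT hTA hle (Or.inr h2)
    · exact f4_12C h h7 hkT hTA hle h2
    · obtain ⟨r, hr, hrk⟩ := Nat.exists_prime_and_dvd (show k' ≠ 1 by omega)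
      exact f4_12E h hu hkT hTA ((Nat.le_of_dvd (by positivity) h2).trans b8) (SX.dvdB h D.ex8 hr hrk (hrk.trans h2))
    · exact hcommon _ hkT h2 D.ex12
    · exact f4_small h.lw h7 hTA (by omega) h2
  · have hTA := SX.dvdA h D.ex8 hkT
    rcases hcase with ⟨hle, h2 | h2 | ⟨h7, h2⟩⟩ | h2 | h2 | ⟨h7, h2⟩
    · exact f4_8 h hu hkT hTA hle (Or.inl h2)
    · exact f4_8 h hu hkT hTA hle (Or.inr (Or.inl h2))
    · exact f4_8 h hu hkT hTA hle (Or.inr (Or.inr (Or.inl h2)))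
    · exact hcommon _ hkT h2 D.ex8
    · obtain ⟨r, hr, hrk⟩ := Nat.exists_prime_and_dvd (show k' ≠ 1 by omega)
      exact f4_8 h hu hkT hTA ((Nat.le_of_dvd (by omega) h2).trans b0)
        (Or.inr (Or.inr (Or.inr (SX.dvdB h D.ex12 hr hrk (hrk.trans h2)))))
    · exact f4_small h.lw h7 hTA (by omega) h2

/-- `y ^ (2 a) ∣ n` -/
theorem fact_lt {y n : ℕ} (hy : y.Prime) (hn : n ≠ 0) (hyn : y ∣ n) {a b : ℕ} (hab : a * b ∣ n)
    (ha : y ^ n.factorization y ∣ a) (hb : y ^ n.factorization y ∣ b) : False := by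
  have h1 : y ^ (n.factorization y + n.factorization y) ∣ n := by
    rw [pow_add]
    exact (mul_dvd_mul ha hb).trans hab
  have h2 := (hy.pow_dvd_iff_le_factorization hn).1 h1
  have h3 := (hy.pow_dvd_iff_le_factorization hn).1 (show y ^ 1 ∣ n by rwa [pow_one])
  omega

theorem F4Dat.not_syl (D : F4Dat v u S) [Finite S] (x : S) : ¬ v ^ (Nat.card S).factorization v ∣ orderOf x := by
  intro hd
  obtain ⟨f, hf, hu'⟩ := D.pw
  have h1 : v ^ (f * 24) ∣ Nat.card S := by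
    rw [pow_mul, ← hu', D.card]
    exact (((dvd_mul_right _ _).mul_right _).mul_right _).mul_right _
  have h2 := (D.vp.pow_dvd_iff_le_factorization Nat.card_pos.ne').1 h1
  obtain ⟨b, n, O⟩ := D.up x
  rw [O.eq] at hd
  have h3 : v ^ (Nat.card S).factorization v ∣ v ^ b :=
    (Nat.Coprime.pow_left _ ((Nat.Prime.coprime_iff_not_dvd D.vp).2 O.nd)).dvd_of_dvd_mul_right hd
  have h4 := (Nat.pow_dvd_pow_iff_le_right D.vp.one_lt).1 h3
  have h5 := O.le (by omega)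
  have h6 : v ^ 4 ≤ v ^ (b - 1) := Nat.pow_le_pow_right D.vp.pos (by omega)
  have h7 : 2 ^ 4 ≤ v ^ 4 := Nat.pow_le_pow_left D.vp.two_le 4
  omega

/-- a cyclic Sylow subgroup -/
theorem F4Dat.cyc (D : F4Dat v u S) [Finite S] {y : ℕ} (hy : y.Prime) (hyS : y ∣ Nat.card S) (hyv : y ≠ v)
    (hx : ∃ x : S, y ^ (Nat.card S).factorization y ∣ orderOf x) :
    y ∣ u ^ 4 - u ^ 2 + 1 ∨ y ∣ u ^ 4 + 1 := by
  obtain ⟨x, hx⟩ := hx
  have hu2 := D.u2
  have hn0 : Nat.card S ≠ 0 := Nat.card_pos.ne'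
  obtain ⟨b, n, O⟩ := D.up x
  have h1 : y ^ (Nat.card S).factorization y ∣ n := by
    rw [O.eq] at hx
    exact (Nat.Coprime.pow_left _ (Nat.Coprime.pow_right _ ((Nat.coprime_primes hy D.vp).2 hyv))).dvd_of_dvd_mul_left hx
  have hya : y ∣ y ^ (Nat.card S).factorization y := by
    have h3 := (hy.pow_dvd_iff_le_factorization hn0).1 (show y ^ 1 ∣ Nat.card S by rwa [pow_one])
    exact dvd_pow_self y (by omega)
  have e4 : u ^ 4 - 1 ∣ u ^ 8 - 1 := Nat.pow_sub_one_dvd_pow_sub_one u (by norm_num : 4 ∣ 8)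
  have e4' : u ^ 4 - 1 ∣ u ^ 12 - 1 := Nat.pow_sub_one_dvd_pow_sub_one u (by norm_num : 4 ∣ 12)
  have e6 : u ^ 6 - 1 ∣ u ^ 12 - 1 := Nat.pow_sub_one_dvd_pow_sub_one u (by norm_num : 6 ∣ 12)
  have d1 : (u ^ 8 - 1) * (u ^ 12 - 1) ∣ Nat.card S := by
    rw [D.card]
    exact ⟨u ^ 24 * (u ^ 2 - 1) * (u ^ 6 - 1), by ring⟩
  have d2 : (u ^ 6 - 1) * (u ^ 12 - 1) ∣ Nat.card S := by
    rw [D.card]
    exact ⟨u ^ 24 * (u ^ 2 - 1) * (u ^ 8 - 1), by ring⟩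
  have k4 : ¬ y ^ (Nat.card S).factorization y ∣ u ^ 4 - 1 := fun hd =>
    fact_lt hy hn0 hyS d1 (hd.trans e4) (hd.trans e4')
  have k6 : ¬ y ^ (Nat.card S).factorization y ∣ u ^ 6 - 1 := fun hd =>
    fact_lt hy hn0 hyS d2 hd (hd.trans e6)
  have f3 : u ^ 6 - 1 = (u ^ 3 - 1) * (u ^ 3 + 1) := by
    have := Nat.one_le_pow 3 u (by omega)
    obtain ⟨t, ht⟩ : ∃ t, u ^ 3 = t + 1 := ⟨u ^ 3 - 1, by omega⟩
    rw [show u ^ 6 = (u ^ 3) ^ 2 by ring, ht, Nat.add_sub_cancel]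
    have : (t + 1) ^ 2 = t * (t + 1 + 1) + 1 := by ring
    omega
  have hA : (u ^ 3 - 1) * (u + 1) ∣ u ^ 6 - 1 := by
    rw [f3]
    have := Odd.nat_add_dvd_pow_add_pow u 1 (n := 3) (by decide)
    rw [one_pow] at this
    exact mul_dvd_mul_left _ this
  have hB : (u ^ 3 + 1) * (u - 1) ∣ u ^ 6 - 1 := by
    rw [f3, mul_comm]
    exact mul_dvd_mul_right (by simpa using Nat.sub_one_dvd_pow_sub_one u 3) _
  have g4 : u ^ 4 - 1 = (u ^ 2 + 1) * ((u - 1) * (u + 1)) := by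
    rw [← sq_sub_one (by omega)]
    obtain ⟨t, ht⟩ : ∃ t, u ^ 2 = t + 1 := ⟨u ^ 2 - 1, by have := Nat.one_le_pow 2 u (by omega); omega⟩
    rw [show u ^ 4 = (u ^ 2) ^ 2 by ring, ht, Nat.add_sub_cancel]
    have : (t + 1) ^ 2 = (t + 1 + 1) * t + 1 := by ring
    omega
  by_cases hb : b = 0
  · rcases O.s0 with h0 | h0 | h0 | h0 | h0
    · exact Or.inl (hya.trans (h1.trans h0))
    · exact Or.inr (hya.trans (h1.trans h0))
    · exact absurd (h1.trans h0) k4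
    · exact absurd (h1.trans (h0.trans hA)) k6
    · exact absurd (h1.trans (h0.trans hB)) k6
  · exfalso
    rcases O.s1 hb with h0 | h0 | h0 | h0 | h0
    · exact k6 (h1.trans (h0.trans (by rw [f3]; exact dvd_mul_right _ _)))
    · exact k6 (h1.trans (h0.trans (by rw [f3]; exact dvd_mul_left _ _)))
    · exact k4 (h1.trans (h0.trans (by rw [g4]; exact mul_dvd_mul_left _ (dvd_mul_right _ _))))
    · exact k4 (h1.trans (h0.trans (by rw [g4]; exact mul_dvd_mul_left _ (dvd_mul_left _ _))))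
    · exact k4 (h1.trans (h0.trans (by rw [g4, ← sq_sub_one (by omega)]; exact dvd_mul_left _ _)))

theorem f4_II (h : SX p q k A k' B m i W S) (hg : Good W m i) (D : F4Dat v u S) (hvp : v ≠ p) (hu : 4 ≤ u)
    (hF : ∀ w : ℕ, w.Prime → 5 ≤ w → F1.FldDat v w S) (hw : ∃ w : ℕ, w.Prime ∧ w ∣ k' ∧ w ∣ m * i)
    (h2 : ∀ r : ℕ, r.Prime → (r ∣ (q ^ 2 + 1) / 2 ∨ r = p) → ¬ r ∣ m ∧ ¬ r ∣ i) : False := by
  have := h.fin
  obtain ⟨w, hwp, hwk, hwmi⟩ := hw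
  have hw7 := SX.prime h hwp (Or.inr hwk)
  have hwm : w ∣ m := by
    rcases hwp.dvd_mul.1 hwmi with h3 | h3
    · exact h3
    · exact (SX.noFld h hwp hwk h3 h2 (hF w hwp (by omega))).elim
  have hz25 := z_ge h.lw
  have hp3 := h.lw.p3
  have hu1 : 1 ≤ u := by omega
  have hvz : ¬ v ∣ (q ^ 2 + 1) / 2 := by
    intro hd
    obtain ⟨x, hx⟩ := SX.cyc h hwp hwk hwm D.vp (Or.inl hd)
    exact D.not_syl x hx
  have hvpz : ¬ v ∣ p * ((q ^ 2 + 1) / 2) := by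
    intro hd
    rcases D.vp.dvd_mul.1 hd with h3 | h3
    · exact hvp ((Nat.prime_dvd_prime_iff_eq D.vp h.lw.pp).1 h3)
    · exact hvz h3
  obtain ⟨x, hx⟩ := SX.pzS h h2
  -- a prime of `z`
  obtain ⟨y, hy, hyz⟩ := Nat.exists_prime_and_dvd (show (q ^ 2 + 1) / 2 ≠ 1 by omega)
  have hy5 := (h.lw.side.z_prime h.lw.q2 hy hyz).1
  have hyS : y ∣ Nat.card S := h.dvd_card hy (h.W_prime hy (Or.inr (Or.inr (Or.inl hyz)))) (h2 y hy (Or.inl hyz)).1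
    (h2 y hy (Or.inl hyz)).2
  have hyv : y ≠ v := by
    rintro rfl
    exact hvz hyz
  have hyT := D.cyc hy hyS hyv (SX.cyc h hwp hwk hwm hy (Or.inl hyz))
  have hypz : y ∣ p * ((q ^ 2 + 1) / 2) := hyz.mul_left _
  obtain ⟨b, n, O⟩ := D.up x
  rw [hx] at O
  have hb : b = 0 := by
    by_contra hb
    exact hvpz (by rw [O.eq]; exact (dvd_pow_self v hb).mul_right _)
  have hn : p * ((q ^ 2 + 1) / 2) = n := by rw [O.eq, hb, pow_zero, one_mul]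
  have h0 := O.s0
  rw [← hn] at h0
  have hcls : ¬ (y ∣ (u ^ 3 - 1) * (u + 1) ∨ y ∣ (u ^ 3 + 1) * (u - 1) ∨ y ∣ (u ^ 2 + 1) * (u - 1)) := by
    rcases hyT with h1 | h1
    · have h1' : (y : ℤ) ∣ (u : ℤ) ^ 4 - u ^ 2 + 1 := by
        rw [← f4c12]
        exact_mod_cast h1
      have := f4_cop12 hu1 hy5 h1'
      tauto
    · have h1' : (y : ℤ) ∣ (u : ℤ) ^ 4 + 1 := by exact_mod_cast h1
      have := f4_cop8 hu1 hy5 h1'
      tauto
  have h0' : p * ((q ^ 2 + 1) / 2) ∣ u ^ 4 - u ^ 2 + 1 ∨ p * ((q ^ 2 + 1) / 2) ∣ u ^ 4 + 1 := by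
    rcases h0 with h0 | h0 | h0 | h0 | h0
    · exact Or.inl h0
    · exact Or.inr h0
    · exact absurd (f4_cls4 hu1 hy h0 hypz) hcls
    · exact absurd (Or.inl (hypz.trans h0)) hcls
    · exact absurd (Or.inr (Or.inl (hypz.trans h0))) hcls
  -- no torus for `k` and `p z`
  have hcommon : ∀ T : ℕ, k ∣ T → p * ((q ^ 2 + 1) / 2) ∣ T → (∃ x : S, orderOf x = T) → False := by
    rintro T h3 h4 ⟨g, rfl⟩
    obtain ⟨s, hs, hsk⟩ := Nat.exists_prime_and_dvd h.lw.k_pos.1.ne'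
    exact h.lw.naz hs (Or.inl hsk) h.lw.pp (Or.inr rfl) (h.WS g) (hsk.trans h3) ((dvd_mul_right _ _).trans h4)
  have hqz : (7 : ℤ) ≤ q := by exact_mod_cast h.lw.q7
  have hpz : (3 : ℤ) ≤ p := by exact_mod_cast hp3
  have huz : (4 : ℤ) ≤ u := by exact_mod_cast hu
  have h16 : (16 : ℤ) ≤ (u : ℤ) ^ 2 := by nlinarith
  have e42 : (u : ℤ) ^ 4 = (u : ℤ) ^ 2 * (u : ℤ) ^ 2 := by ring
  rcases f4_kT h hg D with hkT | ⟨hkT, hev⟩
  · have hTA := SX.dvdA h D.ex12 hkT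
    rcases h0' with h0 | h0
    · exact hcommon _ hkT h0 D.ex12
    · obtain ⟨κ, hκ, -, hX⟩ := SX.pzD h D.ex8 h0
      have hκ' : κ = 1 ∨ κ = 2 ∨ κ = 4 := by tauto
      have hXz : 2 * ((u : ℤ) ^ 4 + 1) = κ * (p * ((q : ℤ) ^ 2 + 1)) := by exact_mod_cast hX
      have hqu : (q : ℤ) < (u : ℤ) ^ 2 := g2_q_lt hκ hXz hpz (by nlinarith) (by positivity)
      refine pz_kill' h.lw hTA hκ' hX (Y := (u : ℤ) ^ 2) ?_ ?_ ?_
      · rw [f4c12]
        push_cast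
        rw [show (u : ℤ) ^ 4 - u ^ 2 + 1 - (u ^ 4 + 1) = -(u : ℤ) ^ 2 by ring, abs_neg, abs_of_nonneg (by positivity)]
      · rw [f4c12]
        push_cast
        nlinarith
      · nlinarith
  · have hTA := SX.dvdA h D.ex8 hkT
    rcases h0' with h0 | h0
    · obtain ⟨κ, hκ, -, hX⟩ := SX.pzD h D.ex12 h0
      have hκ' : κ = 1 ∨ κ = 2 ∨ κ = 4 := by tauto
      have hXz : 2 * ((u : ℤ) ^ 4 - u ^ 2 + 1) = κ * (p * ((q : ℤ) ^ 2 + 1)) := by
        rw [← f4c12]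
        exact_mod_cast hX
      have hqu : (q : ℤ) < (u : ℤ) ^ 2 := g2_q_lt hκ hXz hpz (by nlinarith) (by positivity)
      refine pz_kill' h.lw hTA hκ' hX (Y := (u : ℤ) ^ 2) ?_ ?_ ?_
      · rw [f4c12]
        push_cast
        rw [show (u : ℤ) ^ 4 + 1 - (u ^ 4 - u ^ 2 + 1) = (u : ℤ) ^ 2 by ring, abs_of_nonneg (by positivity)]
      · rw [f4c12]
        push_cast
        nlinarith
      · nlinarith
    · exact hcommon _ hkT h0 D.ex8

/-- `k = 73` -/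
theorem k73 (h : LW p q k A k' B W) (h6 : k ∣ 73) (hv : v.Prime) (hv3 : v ∣ 3) (hvp : v ≠ p) : False := by
  have hk19 := (k_ge h).1
  have hq7 := h.q7
  have h7 : Nat.Prime 73 := by norm_num
  have hk : k = 73 := by
    rcases (Nat.dvd_prime h7).1 h6 with h8 | h8
    · omega
    · exact h8
  have hv3 : v = 3 := (Nat.prime_dvd_prime_iff_eq hv Nat.prime_three).1 hv3
  have hqo := h.q_odd
  have hq9 : q = 9 := by
    rcases h.side.cof h.q2 with ⟨-, h2, -⟩ | ⟨-, -, h2⟩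
    · rcases h2 with h2 | ⟨h2, -⟩
      · rw [hk] at h2
        exfalso
        have : q < 9 := by nlinarith
        interval_cases q <;> omega
      · rw [hk] at h2
        exfalso
        have : q < 15 := by nlinarith
        interval_cases q <;> omega
    · have hqq : q ≤ q ^ 2 := Nat.le_self_pow two_ne_zero q
      rcases h2 with h2 | ⟨h2, -⟩
      · rw [hk] at h2
        have h3 : q ^ 2 + 1 = 73 + q := by omega
        have : q < 10 := by nlinarith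
        have h7 : 7 ≤ q := hq7
        clear h2 hqq
        interval_cases q
        · norm_num at h3
        · norm_num at h3
        · rfl
      · rw [hk] at h2
        exfalso
        have h3 : q ^ 2 + 1 = 219 + q := by omega
        have : q < 16 := by nlinarith
        interval_cases q <;> omega
  apply hvp
  have h8 := h.p_dvd
  rw [hq9] at h8
  rw [hv3]
  exact ((Nat.prime_dvd_prime_iff_eq h.pp Nat.prime_three).1
    (h.pp.dvd_of_dvd_pow (show p ∣ 3 ^ 2 by norm_num; exact h8))).symm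

/-- **Row `F₄(u)`.** -/
theorem row_f4 {v f : ℕ} (h : SX p q k A k' B m i W S) (hg : Good W m i) (hI : Fam.Is v f S Fam.f4) (hv : v.Prime)
    (hvp : v ≠ p) : False := by
  have hF : ∀ w : ℕ, w.Prime → 5 ≤ w → F1.FldDat v w S := fun w hw hw5 =>
    fldDat_exc (t := Fam.f4) trivial hv hI hw hw5
  obtain ⟨F, _, _, _, hcard, ⟨e⟩⟩ := hI
  have hf := f_pos_of_card (n := 1) (by rw [hcard, pow_one])
  have D : F4Dat v (v ^ f) S := (f4Dat hv hcard hf).congr e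
  have hk19 := (k_ge h.lw).1
  have hu2 := D.u2
  have hq7 := h.lw.q7
  have hu : 4 ≤ v ^ f := by
    by_contra hcon
    have h34 : v ^ f = 2 ∨ v ^ f = 3 := by omega
    have h6 := f4_kT h hg D
    rcases h34 with h5 | h5
    · rw [h5] at h6
      norm_num at h6
      rcases h6 with h6 | h6
      · have h7 := Nat.le_of_dvd (by norm_num) h6
        omega
      · have h7 := Nat.le_of_dvd (by norm_num) h6
        omega
    · rw [h5] at h6
      norm_num at h6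
      exact k73 h.lw h6 hv (by rw [← h5]; exact dvd_pow_self v (by omega)) hvp
  rcases h.dich with h1 | ⟨hw, h2⟩
  · exact f4_I h hg D hvp hu h1
  · exact f4_II h hg D hvp hu hF hw h2

end

end Cfsg.Agent.R2.Spec.X4.H18
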