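import Cfsg.Agent.R2.Spec.X4.H18.TabE6
import Cfsg.Agent.R2.Spec.X4.H18.F4
import Cfsg.Agent.H378.OmE6
import Cfsg.Agent.H378.OmTE6
import Cfsg.Agent.S1063

/-!
# `E₆(u)`, `²E₆(u)` together, `X = u` or `X = -u` : the facts (helper18)
-/

set_option autoImplicit false
set_option linter.unusedVariables false

namespace Cfsg.Agent.R2.Spec.X4.H18

open Cfsg Cfsg.Agent.H426.LieFam

universe u

/-- the element orders of `E₆(u)` (`X = u`), `²E₆(u)` (`X = -u`) -/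
structure OmX (v : ℕ) (X : ℤ) (n b m : ℕ) : Prop where
  eq : n = v ^ b * m
  nd : ¬ v ∣ m
  s0 : (m : ℤ) ∣ (X ^ 4 + 1) * (X ^ 2 - 1) ∨ (m : ℤ) ∣ (X ^ 5 - 1) * (X + 1) ∨
    (m : ℤ) ∣ (X ^ 4 - 1) * (X ^ 2 - X + 1) ∨ (m : ℤ) ∣ X ^ 6 - 1 ∨
    (m : ℤ) ∣ (X ^ 4 - X ^ 2 + 1) * (X ^ 2 + X + 1) ∨ (m : ℤ) ∣ X ^ 6 + X ^ 3 + 1
  s1 : b ≠ 0 → (m : ℤ) ∣ (X ^ 3 - 1) * (X + 1) ∨ (m : ℤ) ∣ X ^ 4 - 1 ∨ (m : ℤ) ∣ X ^ 5 - 1 ∨
    (m : ℤ) ∣ (X ^ 3 + 1) * (X ^ 2 + X + 1) ∨ (m : ℤ) ∣ (X ^ 3 + 1) * (X - 1)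
  s6 : b ≠ 0 → 6 ≤ v ^ (b - 1) → (m : ℤ) ∣ X - 1
  le : b ≠ 0 → v ^ (b - 1) ≤ 11

theorem omX_E6 {v u n b m : ℕ} (hu : 1 ≤ u) (h : H378.OmE6.Om v u n b m) : OmX v (u : ℤ) n b m := by
  have h2 : 1 ≤ u ^ 2 := Nat.one_le_pow _ _ hu
  have h3 : 1 ≤ u ^ 3 := Nat.one_le_pow _ _ hu
  have h4 : 1 ≤ u ^ 4 := Nat.one_le_pow _ _ hu
  have h5 : 1 ≤ u ^ 5 := Nat.one_le_pow _ _ hu
  have h6 : 1 ≤ u ^ 6 := Nat.one_le_pow _ _ hu
  have h7 : u ≤ u ^ 2 := Nat.le_self_pow two_ne_zero u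
  have h8 : u ^ 2 ≤ u ^ 4 := Nat.pow_le_pow_right hu (by norm_num)
  have key : ∀ {P : ℕ}, m ∣ P → (m : ℤ) ∣ ((P : ℕ) : ℤ) := fun {P} h => Int.natCast_dvd_natCast.2 h
  refine ⟨h.eq, h.nd, ?_, ?_, ?_, h.le⟩
  · rcases h.s0 with h0 | h0 | h0 | h0 | h0 | h0 <;> have h1 := key h0 <;>
      push_cast [hu, h2, h3, h4, h5, h6, h7, h8] at h1 <;> tauto
  · intro hb
    rcases h.s1 hb with h0 | h0 | h0 | h0 | h0 <;> have h1 := key h0 <;>
      push_cast [hu, h2, h3, h4, h5, h6, h7, h8] at h1 <;> tauto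
  · intro hb h6'
    have h1 := key (h.s6 hb h6')
    push_cast [hu] at h1
    exact h1

theorem omX_TE6 {v u n b m : ℕ} (hu : 1 ≤ u) (h : H378.OmTE6.Om v u n b m) : OmX v (-(u : ℤ)) n b m := by
  have h2 : 1 ≤ u ^ 2 := Nat.one_le_pow _ _ hu
  have h3 : 1 ≤ u ^ 3 := Nat.one_le_pow _ _ hu
  have h4 : 1 ≤ u ^ 4 := Nat.one_le_pow _ _ hu
  have h5 : 1 ≤ u ^ 5 := Nat.one_le_pow _ _ hu
  have h6 : 1 ≤ u ^ 6 := Nat.one_le_pow _ _ hu
  have h7 : u ≤ u ^ 2 := Nat.le_self_pow two_ne_zero u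
  have h8 : u ^ 2 ≤ u ^ 4 := Nat.pow_le_pow_right hu (by norm_num)
  have h9 : u ^ 3 ≤ u ^ 6 := Nat.pow_le_pow_right hu (by norm_num)
  have key : ∀ {P : ℕ} {A B : ℤ}, m ∣ P → ((P : ℕ) : ℤ) = A → (A = B ∨ A = -B) → (m : ℤ) ∣ B := by
    rintro P A B h e1 (rfl | rfl)
    · rw [← e1]
      exact Int.natCast_dvd_natCast.2 h
    · rw [← dvd_neg, ← e1]
      exact Int.natCast_dvd_natCast.2 h
  refine ⟨h.eq, h.nd, ?_, ?_, ?_, h.le⟩
  · rcases h.s0 with h0 | h0 | h0 | h0 | h0 | h0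
    · left
      exact key h0 (by push_cast [h2]; rfl) (Or.inl (by ring))
    · right; left
      exact key h0 (by push_cast [hu]; rfl) (Or.inl (by ring))
    · right; right; left
      exact key h0 (by push_cast [h4]; rfl) (Or.inl (by ring))
    · right; right; right; left
      exact key h0 (by push_cast [h6]; rfl) (Or.inl (by ring))
    · right; right; right; right; left
      exact key h0 (by push_cast [h7, h8]; rfl) (Or.inl (by ring))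
    · right; right; right; right; right
      exact key h0 (by push_cast [h9]; rfl) (Or.inl (by ring))
  · intro hb
    rcases h.s1 hb with h0 | h0 | h0 | h0 | h0
    · left
      exact key h0 (by push_cast [hu]; rfl) (Or.inl (by ring))
    · right; left
      exact key h0 (by push_cast [h4]; rfl) (Or.inl (by ring))
    · right; right; left
      exact key h0 (by push_cast; rfl) (Or.inr (by ring))
    · right; right; right; left
      exact key h0 (by push_cast [h3, h7]; rfl) (Or.inr (by ring))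
    · right; right; right; right
      exact key h0 (by push_cast [h3]; rfl) (Or.inl (by ring))
  · intro hb h6'
    exact key (h.s6 hb h6') (by push_cast; rfl) (Or.inr (by ring))

/-- the facts about `E₆(u)` (`X = u`), `²E₆(u)` (`X = -u`); `g = |Z|` -/
structure E6Dat (v u g : ℕ) (X : ℤ) (S : Type*) [Group S] : Prop where
  vp : v.Prime
  pw : ∃ f, 1 ≤ f ∧ u = v ^ f
  hX : X = u ∨ X = -u
  hg : (g = 1 ∧ ¬ (3 : ℤ) ∣ X - 1) ∨ g = 3 ∧ (3 : ℤ) ∣ X - 1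
  up : ∀ x : S, ∃ b m : ℕ, OmX v X (orderOf x) b m
  near : ∀ r : ℕ, r.Prime → r ≠ 2 → r ∣ Nat.card S → (¬ ∃ x : S, orderOf x = 2 * r) →
    (r : ℤ) ∣ X ^ 4 + 1 ∨ (r : ℤ) ∣ X ^ 4 - X ^ 2 + 1 ∨ (r : ℤ) ∣ X ^ 6 + X ^ 3 + 1
  ex9 : ∃ x : S, (g : ℤ) * (orderOf x : ℕ) = X ^ 6 + X ^ 3 + 1
  ex12 : ∃ x : S, (g : ℤ) * (orderOf x : ℕ) = (X ^ 4 - X ^ 2 + 1) * (X ^ 2 + X + 1)
  ex8 : ∃ x : S, (g : ℤ) * (orderOf x : ℕ) = (X ^ 4 + 1) * (X ^ 2 - 1)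
  ex5 : ∃ x : S, (g : ℤ) * (orderOf x : ℕ) = (X ^ 5 - 1) * (X + 1)
  ex4 : ∃ x : S, (g : ℤ) * (orderOf x : ℕ) = (X ^ 4 - 1) * (X ^ 2 - X + 1)
  card : (g : ℤ) * (Nat.card S : ℕ) = u ^ 36 * ((X ^ 2 - 1) * (X ^ 5 - 1) * (X ^ 6 - 1) * (X ^ 8 - 1) *
    (X ^ 9 - 1) * (X ^ 12 - 1))

theorem E6Dat.congr {v u g : ℕ} {X : ℤ} {S Y : Type*} [Group S] [Group Y] (e : S ≃* Y) (h : E6Dat v u g X Y) :
    E6Dat v u g X S := by
  have key : ∀ {n : ℤ}, (∃ x : Y, (g : ℤ) * (orderOf x : ℕ) = n) → ∃ x : S, (g : ℤ) * (orderOf x : ℕ) = n := by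
    rintro n ⟨x, hx⟩
    exact ⟨e.symm x, by rw [MulEquiv.orderOf_eq]; exact hx⟩
  refine ⟨h.vp, h.pw, h.hX, h.hg, ?_, ?_, key h.ex9, key h.ex12, key h.ex8, key h.ex5, key h.ex4, ?_⟩
  · intro x
    have := h.up (e x)
    rwa [MulEquiv.orderOf_eq] at this
  · intro r hr h2 hd hn
    rw [Nat.card_congr e.toEquiv] at hd
    refine h.near r hr h2 hd fun ⟨x, hx⟩ => hn ⟨e.symm x, by rw [MulEquiv.orderOf_eq]; exact hx⟩
  · rw [Nat.card_congr e.toEquiv]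
    exact h.card

section

open Cfsg.Agent.H378.AdjTab Cfsg.Agent.H378.CycTab Cfsg.Agent.H366.Iso

theorem e6Dat {v f : ℕ} (hv : v.Prime) {F : Type u} [Field F] [Fintype F] [CharP F v]
    (hF : Fintype.card F = v ^ f) (hf : 1 ≤ f) :
    E6Dat v (v ^ f) (Nat.gcd 3 (v ^ f - 1)) ((v ^ f : ℕ) : ℤ) ↥(Lie.chevE6.group F) := by
  have := Fact.mk hv
  have hN : Nat.card F = v ^ f := by rw [Nat.card_eq_fintype_card, hF]
  have hu2 : 2 ≤ v ^ f := hv.two_le.trans (Nat.le_self_pow (by omega) v)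
  have hu1 : 1 ≤ v ^ f := by omega
  have hgc : Nat.gcd 3 (v ^ f - 1) = 1 ∨ Nat.gcd 3 (v ^ f - 1) = 3 :=
    (Nat.dvd_prime Nat.prime_three).1 (Nat.gcd_dvd_left _ _)
  have hgd : Nat.gcd 3 (v ^ f - 1) ∣ v ^ f - 1 := Nat.gcd_dvd_right _ _
  have hg9 := g3_dvd9 (v ^ f) hu1
  have hg3 := g3_dvd (v ^ f) hu1
  have e9 := fun h h' => e6_ord (F := F) (c := c9) H378.AdjE6.chain9 H378.AdjE6.tor9_9
    (m := (v ^ f) ^ 6 + (v ^ f) ^ 3 + 1) h h'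
  have e12 := fun h h' => e6_ord (F := F) H378.AdjE6.chain12 eigE6c
    (m := ((v ^ f) ^ 4 - (v ^ f) ^ 2 + 1) * ((v ^ f) ^ 2 + v ^ f + 1)) h h'
  have e8 := fun h h' => e6_ord (F := F) chainE6d eigE6d
    (m := ((v ^ f) ^ 4 + 1) * ((v ^ f) ^ 2 - 1)) h h'
  have e5 := fun h h' => e6_ord (F := F) chainE6a eigE6a
    (m := ((v ^ f) ^ 5 - 1) * (v ^ f + 1)) h h'
  have e4 := fun h h' => e6_ord (F := F) chainE6b eigE6b
    (m := ((v ^ f) ^ 4 - 1) * ((v ^ f) ^ 2 - v ^ f + 1)) h h'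
  rw [hN] at e9 e12 e8 e5 e4
  have hup : ∀ x : ↥(Lie.chevE6.group F), ∃ b m : ℕ, OmX v ((v ^ f : ℕ) : ℤ) (orderOf x) b m := by
    intro x
    obtain ⟨b, m, O⟩ := H378.OmE6.om_E6 (p := v) hN x
    exact ⟨b, m, omX_E6 hu1 O⟩
  have hnear := fun r hr h2 hd hn => e6_near (F := F) (r := r) hr h2 hd hn
  rw [hN] at hnear
  have hcard := Cfsg.Agent.S1063.result (F := F) hF
  have hpw : ∃ a, 1 ≤ a ∧ v ^ f = v ^ a := ⟨f, hf, rfl⟩
  clear hN hF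
  generalize v ^ f = u at *
  have h2 : 1 < u ^ 2 := Nat.one_lt_pow (by norm_num) (by omega)
  have h4 : 1 < u ^ 4 := Nat.one_lt_pow (by norm_num) (by omega)
  have h5 : 1 < u ^ 5 := Nat.one_lt_pow (by norm_num) (by omega)
  have h6 : 1 < u ^ 6 := Nat.one_lt_pow (by norm_num) (by omega)
  have h8 : 1 < u ^ 8 := Nat.one_lt_pow (by norm_num) (by omega)
  have h9 : 1 < u ^ 9 := Nat.one_lt_pow (by norm_num) (by omega)
  have h12 : 1 < u ^ 12 := Nat.one_lt_pow (by norm_num) (by omega)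
  have h7 : u ≤ u ^ 2 := Nat.le_self_pow two_ne_zero u
  have h24 : u ^ 2 ≤ u ^ 4 := Nat.pow_le_pow_right hu1 (by norm_num)
  have d2 : u - 1 ∣ u ^ 2 - 1 := by simpa using Nat.sub_one_dvd_pow_sub_one u 2
  have d4 : u - 1 ∣ u ^ 4 - 1 := by simpa using Nat.sub_one_dvd_pow_sub_one u 4
  have d5 : u - 1 ∣ u ^ 5 - 1 := by simpa using Nat.sub_one_dvd_pow_sub_one u 5
  have key : ∀ {m : ℕ} {n : ℤ}, (∃ x : ↥(Lie.chevE6.group F), Nat.gcd 3 (u - 1) * orderOf x = m) → (m : ℤ) = n →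
      ∃ x : ↥(Lie.chevE6.group F), ((Nat.gcd 3 (u - 1) : ℕ) : ℤ) * (orderOf x : ℕ) = n := by
    rintro m n ⟨x, hx⟩ rfl
    exact ⟨x, by exact_mod_cast hx⟩
  refine ⟨hv, hpw, Or.inl rfl, ?_, hup, hnear, ?_, ?_, ?_, ?_, ?_, ?_⟩
  · rcases hgc with h | h
    · left
      refine ⟨h, fun h3 => ?_⟩
      have h4 : ((3 : ℕ) : ℤ) ∣ ((u - 1 : ℕ) : ℤ) := by
        push_cast [hu1]
        exact h3
      have h5 := Nat.dvd_gcd dvd_rfl (Int.natCast_dvd_natCast.1 h4)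
      rw [h] at h5
      norm_num at h5
    · right
      refine ⟨h, ?_⟩
      rw [h] at hgd
      have h3 : ((3 : ℕ) : ℤ) ∣ ((u - 1 : ℕ) : ℤ) := Int.natCast_dvd_natCast.2 hgd
      push_cast [hu1] at h3
      exact h3
  · exact key (e9 (by positivity) hg9 (by rw [pv9]; push_cast; exact dvd_rfl)) (by push_cast; ring)
  · exact key (e12 (Nat.mul_pos (by omega) (by positivity)) (hg3.mul_left _) (by
      rw [pvE6c]; push_cast [h24]; exact dvd_of_eq (by ring))) (by push_cast [h24]; ring)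
  · exact key (e8 (Nat.mul_pos (by omega) (by omega)) ((hgd.trans d2).mul_left _) (by
      rw [pvE6d]; push_cast [h2.le]; exact dvd_of_eq (by ring))) (by push_cast [h2.le]; ring)
  · exact key (e5 (Nat.mul_pos (by omega) (by omega)) ((hgd.trans d5).mul_right _) (by
      rw [pvE6a]; push_cast [h5.le]; exact dvd_of_eq (by ring))) (by push_cast [h5.le]; ring)
  · exact key (e4 (Nat.mul_pos (by omega) (by omega)) ((hgd.trans d4).mul_right _) (by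
      rw [pvE6b]; push_cast [h4.le, h7]; exact dvd_of_eq (by ring))) (by push_cast [h4.le, h7]; ring)
  · have h : ((Nat.gcd 3 (u - 1) * Nat.card ↥(Lie.chevE6.group F) : ℕ) : ℤ) =
        ((u ^ 36 * (u ^ 2 - 1) * (u ^ 5 - 1) * (u ^ 6 - 1) * (u ^ 8 - 1) * (u ^ 9 - 1) * (u ^ 12 - 1) : ℕ) : ℤ) := by
      rw [hcard]
    rw [Nat.cast_mul] at h
    rw [h]
    push_cast [h2.le, h5.le, h6.le, h8.le, h9.le, h12.le]
    ring

theorem te6Dat {v f : ℕ} (hv : v.Prime) {F : Type u} [Field F] [Fintype F] [CharP F v]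
    (hF : Fintype.card F = (v ^ f) ^ 2) (hf : 1 ≤ f) :
    E6Dat v (v ^ f) (Nat.gcd 3 (v ^ f + 1)) (-((v ^ f : ℕ) : ℤ)) ↥(Lie.twistedE6 F (v ^ f)) := by
  have := Fact.mk hv
  have hN : Nat.card F = (v ^ f) ^ 2 := by rw [Nat.card_eq_fintype_card, hF]
  have hu2 : 2 ≤ v ^ f := hv.two_le.trans (Nat.le_self_pow (by omega) v)
  have hu1 : 1 ≤ v ^ f := by omega
  have hq : IsPrimePow (v ^ f) := hv.isPrimePow.pow (by omega)
  have hgc : Nat.gcd 3 (v ^ f + 1) = 1 ∨ Nat.gcd 3 (v ^ f + 1) = 3 :=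
    (Nat.dvd_prime Nat.prime_three).1 (Nat.gcd_dvd_left _ _)
  have hgd : Nat.gcd 3 (v ^ f + 1) ∣ v ^ f + 1 := Nat.gcd_dvd_right _ _
  have hg9 := gt3_dvd18 (v ^ f)
  have hg3 := gt3_dvd6 (v ^ f)
  have hg5 := gt3_dvd5 (v ^ f)
  have e9 := fun h h' => te6_ord hq hF chainE6tB hThE6tB eigE6tB (by decide)
    (m := (v ^ f) ^ 6 - (v ^ f) ^ 3 + 1) h h'
  have e12 := fun h h' => te6_ord hq hF chainE6tC hThE6tC eigE6tC (by decide)
    (m := ((v ^ f) ^ 4 - (v ^ f) ^ 2 + 1) * ((v ^ f) ^ 2 - v ^ f + 1)) h h'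
  have e8 := fun h h' => te6_ord hq hF chainE6td hThE6td eigE6td (by decide)
    (m := ((v ^ f) ^ 4 + 1) * ((v ^ f) ^ 2 - 1)) h h'
  have e5 := fun h h' => te6_ord hq hF chainE6tA hThE6tA eigE6tA (by decide)
    (m := ((v ^ f) ^ 5 + 1) * (v ^ f - 1)) h h'
  have e4 := fun h h' => te6_ord hq hF chainE6tb hThE6tb eigE6tb (by decide)
    (m := ((v ^ f) ^ 4 - 1) * ((v ^ f) ^ 2 + v ^ f + 1)) h h'
  have hup : ∀ x : ↥(Lie.twistedE6 F (v ^ f)), ∃ b m : ℕ, OmX v (-((v ^ f : ℕ) : ℤ)) (orderOf x) b m := by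
    intro x
    obtain ⟨b, m, O⟩ := H378.OmTE6.om_2E6 (p := v) hq hN x
    exact ⟨b, m, omX_TE6 hu1 O⟩
  have hnear := fun r hr h2 hd hn => te6_near (r := r) hq hF hr h2 hd hn
  have hcard := Cfsg.Agent.S1066.result hq hF
  have hpw : ∃ a, 1 ≤ a ∧ v ^ f = v ^ a := ⟨f, hf, rfl⟩
  clear hN hF hq
  generalize v ^ f = u at *
  have h2 : 1 < u ^ 2 := Nat.one_lt_pow (by norm_num) (by omega)
  have h4 : 1 < u ^ 4 := Nat.one_lt_pow (by norm_num) (by omega)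
  have h6 : 1 < u ^ 6 := Nat.one_lt_pow (by norm_num) (by omega)
  have h8 : 1 < u ^ 8 := Nat.one_lt_pow (by norm_num) (by omega)
  have h12 : 1 < u ^ 12 := Nat.one_lt_pow (by norm_num) (by omega)
  have h7 : u ≤ u ^ 2 := Nat.le_self_pow two_ne_zero u
  have h24 : u ^ 2 ≤ u ^ 4 := Nat.pow_le_pow_right hu1 (by norm_num)
  have h36 : u ^ 3 ≤ u ^ 6 := Nat.pow_le_pow_right hu1 (by norm_num)
  have d2 : u + 1 ∣ u ^ 2 - 1 := by
    rw [sq_sub_one hu1]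
    exact dvd_mul_left _ _
  have d4 : u + 1 ∣ u ^ 4 - 1 := by
    have : u ^ 4 - 1 = (u ^ 2 + 1) * (u ^ 2 - 1) := by
      zify [h4.le, h2.le]
      ring
    rw [this]
    exact d2.mul_left _
  have key : ∀ {m : ℕ} {n : ℤ}, (∃ x : ↥(Lie.twistedE6 F u), Nat.gcd 3 (u + 1) * orderOf x = m) → (m : ℤ) = n →
      ∃ x : ↥(Lie.twistedE6 F u), ((Nat.gcd 3 (u + 1) : ℕ) : ℤ) * (orderOf x : ℕ) = n := by
    rintro m n ⟨x, hx⟩ rfl
    exact ⟨x, by exact_mod_cast hx⟩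
  refine ⟨hv, hpw, Or.inr rfl, ?_, hup, ?_, ?_, ?_, ?_, ?_, ?_, ?_⟩
  · rcases hgc with h | h
    · left
      refine ⟨h, fun h3 => ?_⟩
      have h4 : ((3 : ℕ) : ℤ) ∣ ((u + 1 : ℕ) : ℤ) := by
        push_cast
        rw [← dvd_neg] at h3
        have e : -(-(u : ℤ) - 1) = u + 1 := by ring
        rwa [e] at h3
      have h5 := Nat.dvd_gcd dvd_rfl (Int.natCast_dvd_natCast.1 h4)
      rw [h] at h5
      norm_num at h5
    · right
      refine ⟨h, ?_⟩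
      rw [h] at hgd
      have h3 : ((3 : ℕ) : ℤ) ∣ ((u + 1 : ℕ) : ℤ) := Int.natCast_dvd_natCast.2 hgd
      push_cast at h3
      rw [← dvd_neg]
      have e : -(-(u : ℤ) - 1) = u + 1 := by ring
      rw [e]
      exact h3
  · intro r hr h2 hd hn
    have := hnear r hr h2 hd hn
    have a1 : (-(u : ℤ)) ^ 4 = (u : ℤ) ^ 4 := by ring
    have a2 : (-(u : ℤ)) ^ 2 = (u : ℤ) ^ 2 := by ring
    have a3 : (-(u : ℤ)) ^ 6 + (-(u : ℤ)) ^ 3 + 1 = (u : ℤ) ^ 6 - (u : ℤ) ^ 3 + 1 := by ring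
    rw [a1, a2, a3]
    exact this
  · exact key (e9 (by omega) hg9 (by rw [pvE6tB]; push_cast [h36]; exact dvd_rfl)) (by push_cast [h36]; ring)
  · exact key (e12 (Nat.mul_pos (by omega) (by omega)) (hg3.mul_left _) (by
      rw [pvE6tC]; push_cast [h24, h7]; exact dvd_of_eq (by ring))) (by push_cast [h24, h7]; ring)
  · exact key (e8 (Nat.mul_pos (by omega) (by omega)) ((hgd.trans d2).mul_left _) (by
      rw [pvE6td]; push_cast [h2.le]; exact dvd_of_eq (by ring))) (by push_cast [h2.le]; ring)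
  · exact key (e5 (Nat.mul_pos (by omega) (by omega)) (hg5.mul_right _) (by
      rw [pvE6tA]; push_cast [hu1]; exact dvd_of_eq (by ring))) (by push_cast [hu1]; ring)
  · exact key (e4 (Nat.mul_pos (by omega) (by positivity)) ((hgd.trans d4).mul_right _) (by
      rw [pvE6tb]; push_cast [h4.le]; exact dvd_of_eq (by ring))) (by push_cast [h4.le]; ring)
  · have h : ((Nat.gcd 3 (u + 1) * Nat.card ↥(Lie.twistedE6 F u) : ℕ) : ℤ) =
        ((u ^ 36 * (u ^ 2 - 1) * (u ^ 5 + 1) * (u ^ 6 - 1) * (u ^ 8 - 1) * (u ^ 9 + 1) * (u ^ 12 - 1) : ℕ) : ℤ) := by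
      rw [hcard]
    rw [Nat.cast_mul] at h
    rw [h]
    push_cast [h2.le, h6.le, h8.le, h12.le]
    ring

end

end Cfsg.Agent.R2.Spec.X4.H18
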