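import Cfsg.Agent.R2.Spec.X4.H18.ReeNum
import Cfsg.Agent.H426.LieFam
import Cfsg.Agent.H372.SzSpec
import Cfsg.Agent.OddCyclic.ClaimC.SzIso
import Cfsg.Agent.S1159

/-!
# Box X4 of S3435 : rows `Sz(u)`, `Ree(u)` (helper18)
-/

set_option autoImplicit false
set_option linter.unusedVariables false

namespace Cfsg.Agent.R2.Spec.X4.H18

open Cfsg Cfsg.Agent.H426.LieFam

universe u v

/-- element orders and isomorphisms -/
theorem ord_iff {S X : Type*} [Group S] [Group X] (e : S ≃* X) (n : ℕ) :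
    (∃ x : S, orderOf x = n) ↔ ∃ x : X, orderOf x = n := by
  constructor
  · rintro ⟨x, rfl⟩
    exact ⟨e x, MulEquiv.orderOf_eq e x⟩
  · rintro ⟨x, rfl⟩
    exact ⟨e.symm x, MulEquiv.orderOf_eq e.symm x⟩

section

variable {p q k A k' B m i : ℕ} {W : ℕ → Prop} {S : Type u} [Group S]

/-- **Row `Sz(u)`.** -/
theorem row_sz {v f : ℕ} (h : SX p q k A k' B m i W S) (hg : Good W m i) (hI : Fam.Is v f S Fam.sz) : False := by
  obtain ⟨-, m, hm, -, F, _, _, hF, ⟨e⟩⟩ := hI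
  obtain ⟨e'⟩ := Cfsg.Agent.OddCyclic.ClaimC.SzIso.iso hm hF
  have e1 := e.trans e'.symm
  obtain ⟨h1, h2, h3, h4⟩ := Cfsg.Agent.H372.SzSpec.spec (F := F) hm hF
  have E1 : 2 ^ (2 * m + 1) = 2 * (2 ^ m) ^ 2 := by ring
  have E2 : 2 ^ (m + 1) = 2 * 2 ^ m := by ring
  rw [E1] at h1 h2 h3 h4
  rw [E2] at h1 h3 h4
  refine sz_kill h hg (s := 2 ^ m) ⟨⟨m, hm, rfl⟩, fun x hx => ?_, (ord_iff e1 _).2 h2, (ord_iff e1 _).2 h3,
    (ord_iff e1 _).2 h4⟩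
  have := h1 (e1 x) (by rwa [MulEquiv.orderOf_eq])
  rwa [MulEquiv.orderOf_eq] at this

/-- **Row `Ree(u)`.** -/
theorem row_ree {v f : ℕ} (h : SX p q k A k' B m i W S) (hg : Good W m i) (hI : Fam.Is v f S Fam.ree)
    (hvp : v ≠ p) : False := by
  obtain ⟨hv, m, hm, -, K, _, _, hK, ⟨e⟩⟩ := hI
  have hsp := Cfsg.Agent.S1159.result (K := K) hm hK
  have E1 : 3 ^ (2 * m + 1) = 3 * (3 ^ m) ^ 2 := by ring
  have E2 : 3 ^ (m + 1) = 3 * 3 ^ m := by ring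
  rw [E1, E2] at hsp
  refine ree_kill h hg (t := 3 ^ m) ⟨⟨m, hm, rfl⟩, fun d => ?_⟩ (fun h3 => hvp (by rw [hv, h3]))
  rw [ord_iff e]
  exact hsp d

end

end Cfsg.Agent.R2.Spec.X4.H18
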