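import Cfsg.Agent.R2.Spec.X4.H18.Cof

/-!
# `E₆(u)`, `²E₆(u)` : the classes `8` and `12`, numbers (helper18)

* `kt_one` : `k ∣ Φ`, `g T = Φ P`, `T ∣ A` imply `k = Φ` and an equation;
* `no12`, `no8` : the equations have no solutions.
-/

set_option autoImplicit false
set_option linter.unusedVariables false
set_option linter.unusedSimpArgs false
set_option maxRecDepth 10000

namespace Cfsg.Agent.R2.Spec.X4.H18

variable {p q k A k' B : ℕ} {W : ℕ → Prop}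

theorem kt_one (h : LW p q k A k' B W) {g T : ℕ} {Φ P : ℤ} (hg : g = 1 ∨ g = 3) (hT : (g : ℤ) * T = Φ * P)
    (hTA : T ∣ A) (hk : (k : ℤ) ∣ Φ) (h2 : Φ % 2 = 1) (h3 : Φ % 3 ≠ 0) (h5 : Φ % 5 ≠ 0)
    (hΦ : 0 < Φ) (hP : 3 ≤ P) (h7 : 243 * Φ < 1372 * P ^ 2 - 2646 * P + 1701) :
    ∃ c γ s : ℤ, 1 ≤ c ∧ (γ = 1 ∨ γ = 3) ∧ (s = 1 ∨ s = -1) ∧
      (g * γ) ^ 2 * γ * Φ = (2 * c * P) ^ 2 + s * 3 * (g * γ) * (2 * c * P) + 3 * (g * γ) ^ 2 ∧
      2 * c * P = g * γ * (q - s) := by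
  have hk0 : 0 < k := by have := (k_ge h).1; omega
  have hk3 : k.Coprime g := by
    rcases hg with rfl | rfl
    · exact Nat.coprime_one_right _
    · refine ((Nat.Prime.coprime_iff_not_dvd Nat.prime_three).2 fun hd => ?_).symm
      have := h.side.prime h.q2 Nat.prime_three (Or.inl hd)
      omega
  have hkT : k ∣ T := by
    refine hk3.dvd_of_dvd_mul_left ?_
    have : (k : ℤ) ∣ ((g * T : ℕ) : ℤ) := by
      push_cast
      rw [hT]
      exact hk.mul_right _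
    exact_mod_cast this
  obtain ⟨t', ht'⟩ := hkT
  obtain ⟨c, hc⟩ := hTA
  rw [mul_comm] at hc
  obtain ⟨t, ht⟩ := hk
  have hkz : (0 : ℤ) < k := by exact_mod_cast hk0
  have hgt : (g : ℤ) * t' = t * P := by
    apply mul_left_cancel₀ hkz.ne'
    have e : (T : ℤ) = k * t' := by exact_mod_cast ht'
    rw [e, ht] at hT
    linear_combination hT
  have ht0 : 1 ≤ t := by
    by_contra hcon
    have : t ≤ 0 := by omega
    nlinarith
  have hA0 : 0 < A := by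
    have := h.side.A_odd
    omega
  have hc0 : 1 ≤ c := by
    rcases Nat.eq_zero_or_pos c with h0 | h0
    · rw [h0, zero_mul] at hc
      omega
    · exact h0
  have hcz : (1 : ℤ) ≤ c := by exact_mod_cast hc0
  -- the equations
  obtain ⟨γ, s, hγ, hs, e1, e2⟩ : ∃ γ s : ℤ, (γ = 1 ∨ γ = 3) ∧ (s = 1 ∨ s = -1) ∧
      2 * (c * t' : ℤ) = γ * (q - s) ∧ γ * k = (q : ℤ) ^ 2 + s * q + 1 := by
    obtain ⟨γ, hγ, ⟨-, e1, e2⟩ | ⟨-, e1, e2⟩⟩ := cof_k' h hc ht'
    · refine ⟨γ, 1, by rcases hγ with rfl | rfl <;> simp, Or.inl rfl, ?_, ?_⟩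
      · have : 2 * ((c : ℤ) * t') + γ = γ * q := by exact_mod_cast e1
        linarith
      · have : (γ : ℤ) * k = (q : ℤ) ^ 2 + q + 1 := by exact_mod_cast e2
        linarith
    · refine ⟨γ, -1, by rcases hγ with rfl | rfl <;> simp, Or.inr rfl, ?_, ?_⟩
      · have : 2 * ((c : ℤ) * t') = γ * (q + 1) := by exact_mod_cast e1
        linarith
      · have : (γ : ℤ) * k + q = (q : ℤ) ^ 2 + 1 := by exact_mod_cast e2
        linarith
  have hss : s ^ 2 = 1 := by rcases hs with rfl | rfl <;> norm_num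
  have e3 : 2 * c * t * P = g * γ * (q - s) := by
    have : (g : ℤ) * (2 * (c * t')) = g * (γ * (q - s)) := by rw [e1]
    linear_combination this - 2 * (c : ℤ) * hgt
  have e4 : (g * γ : ℤ) ^ 2 * γ * Φ = t * ((2 * c * t * P) ^ 2 + s * 3 * (g * γ) * (2 * c * t * P) +
      3 * (g * γ) ^ 2) := by
    rw [e3, ht]
    linear_combination (t * (g * γ : ℤ) ^ 2) * e2 + (t * (g * γ : ℤ) ^ 2) * (2 : ℤ) * hss
  have hG1 : (1 : ℤ) ≤ g * γ ∧ (g * γ : ℤ) ≤ 9 ∧ (g * γ : ℤ) ^ 2 * γ ≤ 243 := by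
    rcases hg with rfl | rfl <;> rcases hγ with rfl | rfl <;> norm_num
  -- `t = 1`
  have ht1 : t = 1 := by
    by_contra hne
    have ho : t % 2 = 1 := by
      by_contra hcon
      have h0 : t % 2 = 0 := by omega
      rw [ht, Int.mul_emod, h0, mul_zero] at h2
      simp at h2
    have ho3 : t % 3 ≠ 0 := by
      intro h0
      rw [ht, Int.mul_emod, h0, mul_zero] at h3
      simp at h3
    have ho5 : t % 5 ≠ 0 := by
      intro h0
      rw [ht, Int.mul_emod, h0, mul_zero] at h5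
      simp at h5
    have ht7 : 7 ≤ t := by
      by_contra hlt
      have h6 : t < 7 := by omega
      interval_cases t <;> omega
    have hct : 7 ≤ (c : ℤ) * t := by nlinarith
    have hZ : 14 * P ≤ 2 * c * t * P := by nlinarith
    have e5 : t * ((2 * c * t * P) ^ 2 + s * 3 * (g * γ) * (2 * c * t * P) + 3 * (g * γ) ^ 2) ≤ 243 * Φ := by
      rw [← e4]
      exact mul_le_mul_of_nonneg_right hG1.2.2 hΦ.le
    generalize (g * γ : ℤ) = G at *
    generalize 2 * c * t * P = Z at *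
    have hZ0 : 0 ≤ G * Z := mul_nonneg (by linarith) (by linarith)
    have e6 : Z ^ 2 - 3 * G * Z + 3 * G ^ 2 ≤ Z ^ 2 + s * 3 * G * Z + 3 * G ^ 2 := by
      rcases hs with rfl | rfl
      · nlinarith
      · linarith
    have e7 : 196 * P ^ 2 - 378 * P + 243 ≤ Z ^ 2 - 3 * G * Z + 3 * G ^ 2 := by
      have a1 : (14 * P) ^ 2 - 27 * (14 * P) + 243 ≤ Z ^ 2 - 27 * Z + 243 := by nlinarith
      have a2 : Z ^ 2 - 27 * Z + 243 ≤ Z ^ 2 - 3 * G * Z + 3 * G ^ 2 := by nlinarith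
      linarith
    have e8 : 0 ≤ 196 * P ^ 2 - 378 * P + 243 := by nlinarith
    have e9 : 7 * (196 * P ^ 2 - 378 * P + 243) ≤ t * (Z ^ 2 + s * 3 * G * Z + 3 * G ^ 2) := by
      calc 7 * (196 * P ^ 2 - 378 * P + 243) ≤ t * (196 * P ^ 2 - 378 * P + 243) :=
            mul_le_mul_of_nonneg_right ht7 e8
        _ ≤ t * (Z ^ 2 + s * 3 * G * Z + 3 * G ^ 2) := mul_le_mul_of_nonneg_left (e7.trans e6) (by linarith)
    linarith
  rw [ht1, mul_one] at e3
  rw [ht1, mul_one, one_mul] at e4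
  exact ⟨c, γ, s, hcz, hγ, hs, e4, e3⟩

/-- no solution between `c₀` and `c₀ + 1` -/
theorem no_between {G R P c₀ c s : ℤ} (hG : 0 < G) (hP : 0 < P) (hs : s = 1 ∨ s = -1) (hc : 0 ≤ c) (hc₀ : 0 ≤ c₀)
    (h3 : 3 * G ≤ 4 * (c₀ + 1) * P)
    (h1 : (2 * c₀ * P) ^ 2 + 3 * G * (2 * c₀ * P) + 3 * G ^ 2 < R)
    (h2 : R < (2 * (c₀ + 1) * P) ^ 2 - 3 * G * (2 * (c₀ + 1) * P) + 3 * G ^ 2) :
    R ≠ (2 * c * P) ^ 2 + s * 3 * G * (2 * c * P) + 3 * G ^ 2 := by
  intro e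
  rcases (lt_or_ge c₀ c).symm with h4 | h4
  · have a1 : 2 * c * P ≤ 2 * c₀ * P := by nlinarith
    have a0 : 0 ≤ 2 * c * P := by positivity
    have a2 : (2 * c * P) ^ 2 ≤ (2 * c₀ * P) ^ 2 := pow_le_pow_left₀ a0 a1 2
    have a3 : s * 3 * G * (2 * c * P) ≤ 3 * G * (2 * c₀ * P) := by
      rcases hs with rfl | rfl
      · nlinarith
      · have : 0 ≤ 3 * G * (2 * c * P) := by positivity
        have : 0 ≤ 3 * G * (2 * c₀ * P) := by positivity
        linarith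
    linarith
  · have a1 : 2 * (c₀ + 1) * P ≤ 2 * c * P := by nlinarith
    have a0 : 0 ≤ 2 * (c₀ + 1) * P := by positivity
    have hY : 3 * G ≤ 2 * (2 * (c₀ + 1) * P) := by linarith
    have a3 : -(3 * G * (2 * c * P)) ≤ s * 3 * G * (2 * c * P) := by
      rcases hs with rfl | rfl
      · have : 0 ≤ 3 * G * (2 * c * P) := by positivity
        linarith
      · linarith
    generalize 2 * (c₀ + 1) * P = Y at *
    generalize 2 * c * P = Z at *
    nlinarith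

/-- small `u`, class `12` -/
theorem small12 : ∀ u ∈ List.range 40, ∀ c ∈ List.range 12, ∀ X ∈ [(u : ℤ), -(u : ℤ)], ∀ g ∈ [(1 : ℤ), 3],
    ∀ γ ∈ [(1 : ℤ), 3], ∀ s ∈ [(1 : ℤ), -1], 2 ≤ u →
    (g * γ) ^ 2 * γ * (X ^ 4 - X ^ 2 + 1) = (2 * c * (X ^ 2 + X + 1)) ^ 2 +
      s * 3 * (g * γ) * (2 * c * (X ^ 2 + X + 1)) + 3 * (g * γ) ^ 2 →
    2 * c * (X ^ 2 + X + 1) = g * γ * (15 - s) ∨ 2 * c * (X ^ 2 + X + 1) = g * γ * (3 - s) := by
  decide +kernel

/-- small `u`, class `8` -/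
theorem small8 : ∀ u ∈ List.range 40, ∀ c ∈ List.range 12, ∀ g ∈ [(1 : ℤ), 3],
    ∀ γ ∈ [(1 : ℤ), 3], ∀ s ∈ [(1 : ℤ), -1], 2 ≤ u →
    (g * γ) ^ 2 * γ * ((u : ℤ) ^ 4 + 1) = (2 * c * ((u : ℤ) ^ 2 - 1)) ^ 2 +
      s * 3 * (g * γ) * (2 * c * ((u : ℤ) ^ 2 - 1)) + 3 * (g * γ) ^ 2 → False := by
  decide +kernel

/-- `c ≤ 11` -/
theorem c_le {g γ Φ P c s : ℤ} (hg : g = 1 ∨ g = 3) (hγ : γ = 1 ∨ γ = 3) (hs : s = 1 ∨ s = -1) (hΦ : 0 < Φ) (hP : 3 ≤ P)
    (h : 243 * Φ < 576 * P ^ 2 - 648 * P + 243)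
    (e : (g * γ) ^ 2 * γ * Φ = (2 * c * P) ^ 2 + s * 3 * (g * γ) * (2 * c * P) + 3 * (g * γ) ^ 2) : c < 12 := by
  by_contra hcon
  have hG1 : (1 : ℤ) ≤ g * γ ∧ (g * γ : ℤ) ≤ 9 ∧ (g * γ : ℤ) ^ 2 * γ ≤ 243 := by
    rcases hg with rfl | rfl <;> rcases hγ with rfl | rfl <;> norm_num
  have hZ : 24 * P ≤ 2 * c * P := by nlinarith
  have e5 : (g * γ) ^ 2 * γ * Φ ≤ 243 * Φ := mul_le_mul_of_nonneg_right hG1.2.2 hΦ.le
  rw [e] at e5
  generalize (g * γ : ℤ) = G at *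
  generalize 2 * c * P = Z at *
  have hZ0 : 0 ≤ G * Z := mul_nonneg (by linarith) (by linarith)
  have e6 : Z ^ 2 - 3 * G * Z + 3 * G ^ 2 ≤ Z ^ 2 + s * 3 * G * Z + 3 * G ^ 2 := by
    rcases hs with rfl | rfl
    · nlinarith
    · linarith
  have e7 : 576 * P ^ 2 - 648 * P + 243 ≤ Z ^ 2 - 3 * G * Z + 3 * G ^ 2 := by
    have a1 : (24 * P) ^ 2 - 27 * (24 * P) + 243 ≤ Z ^ 2 - 27 * Z + 243 := by nlinarith
    have a2 : Z ^ 2 - 27 * Z + 243 ≤ Z ^ 2 - 3 * G * Z + 3 * G ^ 2 := by nlinarith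
    linarith
  linarith

/-- **Class `12`.** -/
theorem no12 (h : LW p q k A k' B W) {g T u : ℕ} {X : ℤ} (hX : X = u ∨ X = -u) (hu : 2 ≤ u) (hg : g = 1 ∨ g = 3)
    (hT : (g : ℤ) * T = (X ^ 4 - X ^ 2 + 1) * (X ^ 2 + X + 1))
    (hTA : T ∣ A) (hk : (k : ℤ) ∣ X ^ 4 - X ^ 2 + 1) : False := by
  have hq7 := h.q7
  have m2 : (X ^ 4 - X ^ 2 + 1) % 2 = 1 := by
    have : X % 2 = 0 ∨ X % 2 = 1 := by omega
    rcases this with h | h <;> simp [pow_succ, Int.add_emod, Int.sub_emod, Int.mul_emod, h]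
  have m3 : (X ^ 4 - X ^ 2 + 1) % 3 ≠ 0 := by
    have : X % 3 = 0 ∨ X % 3 = 1 ∨ X % 3 = 2 := by omega
    rcases this with h | h | h <;> simp [pow_succ, Int.add_emod, Int.sub_emod, Int.mul_emod, h]
  have m5 : (X ^ 4 - X ^ 2 + 1) % 5 ≠ 0 := by
    have : X % 5 = 0 ∨ X % 5 = 1 ∨ X % 5 = 2 ∨ X % 5 = 3 ∨ X % 5 = 4 := by omega
    rcases this with h | h | h | h | h <;> simp [pow_succ, Int.add_emod, Int.sub_emod, Int.mul_emod, h]
  have b1 : 0 < X ^ 4 - X ^ 2 + 1 := by nlinarith [sq_nonneg (X ^ 2)]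
  have b2 : 3 ≤ X ^ 2 + X + 1 := by
    rcases hX with rfl | rfl
    · nlinarith
    · have : (2 : ℤ) ≤ u := by exact_mod_cast hu
      nlinarith
  have b3 : 243 * (X ^ 4 - X ^ 2 + 1) < 1372 * (X ^ 2 + X + 1) ^ 2 - 2646 * (X ^ 2 + X + 1) + 1701 := by
    obtain ⟨t, rfl⟩ : ∃ t, u = t + 2 := ⟨u - 2, by omega⟩
    rcases hX with rfl | rfl <;> push_cast <;> apply pos_lt <;> clear * - <;> ring_nf <;> positivity
  have b4 : 243 * (X ^ 4 - X ^ 2 + 1) < 576 * (X ^ 2 + X + 1) ^ 2 - 648 * (X ^ 2 + X + 1) + 243 := by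
    obtain ⟨t, rfl⟩ : ∃ t, u = t + 2 := ⟨u - 2, by omega⟩
    rcases hX with rfl | rfl <;> push_cast <;> apply pos_lt <;> clear * - <;> ring_nf <;> positivity
  obtain ⟨c, γ, s, hc, hγ, hs, e1, e2⟩ := kt_one h hg hT hTA hk m2 m3 m5 b1 b2 b3
  have hgz : (g : ℤ) = 1 ∨ (g : ℤ) = 3 := by
    rcases hg with rfl | rfl
    · left; rfl
    · right; rfl
  have hc12 := c_le hgz hγ hs b1 b2 b4 e1
  rcases Nat.lt_or_ge u 40 with hu40 | hu40
  · obtain ⟨c', rfl⟩ : ∃ c' : ℕ, c = c' := ⟨c.toNat, by omega⟩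
    have h1 := small12 u (List.mem_range.2 hu40) c' (List.mem_range.2 (by omega)) X
      (by rcases hX with h | h <;> simp [h]) g (by rcases hgz with h | h <;> simp [h]) γ
      (by rcases hγ with h | h <;> simp [h]) s (by rcases hs with h | h <;> simp [h]) hu e1
    have hG : (0 : ℤ) < g * γ := by
      rcases hgz with h | h <;> rcases hγ with h' | h' <;> rw [h, h'] <;> norm_num
    rw [e2] at h1
    rcases h1 with h1 | h1
    · have h2 := mul_left_cancel₀ hG.ne' h1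
      have h3 : q = 15 := by omega
      obtain ⟨e, he⟩ := h.qp
      rw [h3] at he
      have d3 : 3 ∣ p ^ e := by rw [← he]; norm_num
      have d5 : 5 ∣ p ^ e := by rw [← he]; norm_num
      have h4 := (Nat.prime_dvd_prime_iff_eq Nat.prime_three h.pp).1 (Nat.prime_three.dvd_of_dvd_pow d3)
      have h5 := (Nat.prime_dvd_prime_iff_eq Nat.prime_five h.pp).1 (Nat.prime_five.dvd_of_dvd_pow d5)
      omega
    · have h2 := mul_left_cancel₀ hG.ne' h1
      omega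
  · have hX' : ∃ t : ℕ, X = t + 40 ∨ X = -(t + 40 : ℤ) := ⟨u - 40, by
      rcases hX with h | h
      · left; rw [h]; push_cast [hu40]; ring
      · right; rw [h]; push_cast [hu40]; ring⟩
    obtain ⟨t, ht⟩ := hX'
    rcases hgz with hg' | hg' <;> rcases hγ with rfl | rfl <;> rw [hg'] at e1
    · refine no_between (G := 1 * 1) (c₀ := 0) (by norm_num) (by linarith) hs (by linarith) (by norm_num) (by linarith)
        ?_ ?_ e1 <;> rcases ht with rfl | rfl <;> apply pos_lt <;> clear * - <;> ring_nf <;> positivity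
    · refine no_between (G := 1 * 3) (c₀ := 2) (by norm_num) (by linarith) hs (by linarith) (by norm_num) (by linarith)
        ?_ ?_ e1 <;> rcases ht with rfl | rfl <;> apply pos_lt <;> clear * - <;> ring_nf <;> positivity
    · refine no_between (G := 3 * 1) (c₀ := 1) (by norm_num) (by linarith) hs (by linarith) (by norm_num) (by linarith)
        ?_ ?_ e1 <;> rcases ht with rfl | rfl <;> apply pos_lt <;> clear * - <;> ring_nf <;> positivity
    · refine no_between (G := 3 * 3) (c₀ := 7) (by norm_num) (by linarith) hs (by linarith) (by norm_num) (by linarith)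
        ?_ ?_ e1 <;> rcases ht with rfl | rfl <;> apply pos_lt <;> clear * - <;> ring_nf <;> positivity

/-- **Class `8`.** -/
theorem no8 (h : LW p q k A k' B W) {g T u : ℕ} {X : ℤ} (hX : X = u ∨ X = -u) (hu : 2 ≤ u) (hev : u % 2 = 0)
    (hg : g = 1 ∨ g = 3) (hT : (g : ℤ) * T = (X ^ 4 + 1) * (X ^ 2 - 1))
    (hTA : T ∣ A) (hk : (k : ℤ) ∣ X ^ 4 + 1) : False := by
  have e4 : X ^ 4 = (u : ℤ) ^ 4 := by rcases hX with rfl | rfl <;> ring
  have e2 : X ^ 2 = (u : ℤ) ^ 2 := by rcases hX with rfl | rfl <;> ring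
  rw [e4, e2] at hT
  rw [e4] at hk
  clear e4 e2 hX
  have m2 : ((u : ℤ) ^ 4 + 1) % 2 = 1 := by
    have : (u : ℤ) % 2 = 0 := by omega
    simp [pow_succ, Int.add_emod, Int.sub_emod, Int.mul_emod, this]
  have m3 : ((u : ℤ) ^ 4 + 1) % 3 ≠ 0 := by
    have : (u : ℤ) % 3 = 0 ∨ (u : ℤ) % 3 = 1 ∨ (u : ℤ) % 3 = 2 := by omega
    rcases this with h | h | h <;> simp [pow_succ, Int.add_emod, Int.sub_emod, Int.mul_emod, h]
  have m5 : ((u : ℤ) ^ 4 + 1) % 5 ≠ 0 := by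
    have : (u : ℤ) % 5 = 0 ∨ (u : ℤ) % 5 = 1 ∨ (u : ℤ) % 5 = 2 ∨ (u : ℤ) % 5 = 3 ∨ (u : ℤ) % 5 = 4 := by omega
    rcases this with h | h | h | h | h <;> simp [pow_succ, Int.add_emod, Int.sub_emod, Int.mul_emod, h]
  have b1 : 0 < (u : ℤ) ^ 4 + 1 := by positivity
  have b2 : 3 ≤ (u : ℤ) ^ 2 - 1 := by
    have : (2 : ℤ) ≤ u := by exact_mod_cast hu
    nlinarith
  have b3 : 243 * ((u : ℤ) ^ 4 + 1) < 1372 * ((u : ℤ) ^ 2 - 1) ^ 2 - 2646 * ((u : ℤ) ^ 2 - 1) + 1701 := by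
    obtain ⟨t, rfl⟩ : ∃ t, u = t + 2 := ⟨u - 2, by omega⟩
    push_cast
    apply pos_lt
    clear * -
    ring_nf
    positivity
  obtain ⟨c, γ, s, hc, hγ, hs, e1, e2⟩ := kt_one h hg hT hTA hk m2 m3 m5 b1 b2 b3
  have hgz : (g : ℤ) = 1 ∨ (g : ℤ) = 3 := by
    rcases hg with rfl | rfl
    · left; rfl
    · right; rfl
  rcases Nat.lt_or_ge u 40 with hu40 | hu40
  · have hc12 : c < 12 ∨ u = 2 := by
      rcases Nat.lt_or_ge u 3 with h3 | h3
      · right; omega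
      · left
        refine c_le hgz hγ hs b1 b2 ?_ e1
        obtain ⟨t, rfl⟩ : ∃ t, u = t + 3 := ⟨u - 3, by omega⟩
        push_cast
        apply pos_lt
        clear * -
        ring_nf
        positivity
    have hc12' : c < 12 := by
      rcases hc12 with hc12 | rfl
      · exact hc12
      · by_contra hcon
        have hk17 := Int.le_of_dvd (by norm_num) hk
        have := (k_ge h).1
        norm_num at hk17
        omega
    obtain ⟨c', rfl⟩ : ∃ c' : ℕ, c = c' := ⟨c.toNat, by omega⟩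
    exact small8 u (List.mem_range.2 hu40) c' (List.mem_range.2 (by omega)) g
      (by rcases hgz with h | h <;> simp [h]) γ
      (by rcases hγ with h | h <;> simp [h]) s (by rcases hs with h | h <;> simp [h]) hu e1
  · obtain ⟨t, rfl⟩ : ∃ t, u = t + 40 := ⟨u - 40, by omega⟩
    rcases hgz with hg' | hg' <;> rcases hγ with rfl | rfl <;> rw [hg'] at e1
    · refine no_between (G := 1 * 1) (c₀ := 0) (by norm_num) (by linarith) hs (by linarith) (by norm_num) (by linarith)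
        ?_ ?_ e1 <;> push_cast <;> apply pos_lt <;> clear * - <;> ring_nf <;> positivity
    · refine no_between (G := 1 * 3) (c₀ := 2) (by norm_num) (by linarith) hs (by linarith) (by norm_num) (by linarith)
        ?_ ?_ e1 <;> push_cast <;> apply pos_lt <;> clear * - <;> ring_nf <;> positivity
    · refine no_between (G := 3 * 1) (c₀ := 1) (by norm_num) (by linarith) hs (by linarith) (by norm_num) (by linarith)
        ?_ ?_ e1 <;> push_cast <;> apply pos_lt <;> clear * - <;> ring_nf <;> positivity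
    · refine no_between (G := 3 * 3) (c₀ := 7) (by norm_num) (by linarith) hs (by linarith) (by norm_num) (by linarith)
        ?_ ?_ e1 <;> push_cast <;> apply pos_lt <;> clear * - <;> ring_nf <;> positivity

end Cfsg.Agent.R2.Spec.X4.H18
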