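import Cfsg.Agent.R2.Spec.X4.H18.E6Dat
import Cfsg.Agent.R2.Spec.X4.H18.E6Num

/-!
# Box X4 of S3435 : rows `E₆(u)`, `²E₆(u)` (helper18)
-/

set_option autoImplicit false
set_option linter.unusedVariables false
set_option linter.unusedSimpArgs false

namespace Cfsg.Agent.R2.Spec.X4.H18

open Cfsg Cfsg.Agent.H426.LieFam

universe u

/-! ### numbers -/

/-- no common prime -/
theorem nc {r : ℕ} (hr : r.Prime) (hr5 : 5 ≤ r) {T D : ℤ} (α β κ : ℤ) (hκ : κ = 1 ∨ κ = 2 ∨ κ = 3 ∨ κ = 6)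
    (h : α * T + β * D = κ) (hT : (r : ℤ) ∣ T) : ¬ (r : ℤ) ∣ D := by
  intro hD
  have h1 : (r : ℤ) ∣ κ := by
    rw [← h]
    exact dvd_add (hT.mul_left _) (hD.mul_left _)
  have h2 : (r : ℤ) ∣ 6 := by
    rcases hκ with rfl | rfl | rfl | rfl
    · exact h1.trans (by norm_num)
    · exact h1.trans (by norm_num)
    · exact h1.trans (by norm_num)
    · exact h1
  have h3 : r ∣ 6 := by exact_mod_cast h2
  have h4 := Nat.le_of_dvd (by norm_num) h3
  have h5 : r = 5 ∨ r = 6 := by omega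
  rcases h5 with rfl | rfl
  · omega
  · norm_num at hr

theorem cop_int {n : ℕ} {Y : ℤ} (h : ∀ r : ℕ, r.Prime → r ∣ n → ¬ (r : ℤ) ∣ Y) : IsCoprime (n : ℤ) Y := by
  rw [Int.isCoprime_iff_gcd_eq_one]
  by_contra hne
  obtain ⟨r, hr, hd⟩ := Nat.exists_prime_and_dvd hne
  have h1 : (r : ℤ) ∣ ((Int.gcd (n : ℤ) Y : ℕ) : ℤ) := Int.natCast_dvd_natCast.2 hd
  have h2 : (r : ℤ) ∣ (n : ℤ) := h1.trans (Int.gcd_dvd_left _ _)
  exact h r hr (by exact_mod_cast h2) (h1.trans (Int.gcd_dvd_right _ _))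

theorem liftN {n g N : ℕ} {P : ℤ} (hng : n.Coprime g) (hN : (g : ℤ) * N = P) (h : (n : ℤ) ∣ P) : n ∣ N := by
  refine hng.dvd_of_dvd_mul_left ?_
  have : (n : ℤ) ∣ ((g * N : ℕ) : ℤ) := by
    push_cast
    rw [hN]
    exact h
  exact_mod_cast this

/-- the classes `8`, `12`, `9` -/
def Cl (r : ℕ) (X : ℤ) : Prop := (r : ℤ) ∣ X ^ 4 + 1 ∨ (r : ℤ) ∣ X ^ 4 - X ^ 2 + 1 ∨ (r : ℤ) ∣ X ^ 6 + X ^ 3 + 1

section cl

variable {r : ℕ} {X : ℤ} (hr : r.Prime) (hr5 : 5 ≤ r)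

include hr hr5

theorem Cl.n6 (h : Cl r X) : ¬ (r : ℤ) ∣ X ^ 6 - 1 := by
  rcases h with h | h | h
  · exact nc hr hr5 (-X ^ 4 + X ^ 2 + 1) (X ^ 2 - 1) 2 (by norm_num) (by ring) h
  · exact nc hr hr5 (X ^ 2 + 1) (-1) 2 (by norm_num) (by ring) h
  · exact nc hr hr5 (-X ^ 3 + 2) (X ^ 3 - 1) 3 (by norm_num) (by ring) h

theorem Cl.n4 (h : Cl r X) : ¬ (r : ℤ) ∣ (X ^ 4 - 1) * (X ^ 2 - X + 1) := by
  rcases h with h | h | h
  · exact nc hr hr5 (-X ^ 5 + X + 1) (X ^ 3 + X ^ 2 - 1) 2 (by norm_num) (by ring) h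
  · exact nc hr hr5 (-X ^ 5 + X ^ 4 + 2 * X ^ 2 + X + 3) (X ^ 3 - 2 * X - 3) 6 (by norm_num) (by ring) h
  · exact nc hr hr5 (X ^ 5 - 2 * X ^ 3 + X ^ 2 + 1) (-X ^ 5 - X ^ 4 + 2 * X ^ 3 + X ^ 2 - 2 * X - 2) 3 (by norm_num)
      (by ring) h

theorem Cl.n5 (h : Cl r X) : ¬ (r : ℤ) ∣ (X ^ 5 - 1) * (X + 1) := by
  rcases h with h | h | h
  · exact nc hr hr5 (-2 * X ^ 5 - X ^ 4 + X ^ 3 - X ^ 2 + X + 3) (2 * X ^ 3 - X ^ 2 + 1) 2 (by norm_num) (by ring) h
  · exact nc hr hr5 (X ^ 5 + X ^ 4 - X ^ 3 + X ^ 2 - 1) (-X ^ 3 + 2 * X - 2) 1 (by norm_num) (by ring) h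
  · exact nc hr hr5 (X ^ 5 + 2 * X ^ 4 - X ^ 3 - X ^ 2 - X + 1) (-X ^ 5 - X ^ 4 + 2 * X ^ 3 - 2 * X ^ 2 + X - 2) 3
      (by norm_num) (by ring) h

end cl

theorem d2_6 (X : ℤ) : X ^ 2 - 1 ∣ X ^ 6 - 1 := ⟨X ^ 4 + X ^ 2 + 1, by ring⟩

theorem d3_6 (X : ℤ) : X ^ 2 + X + 1 ∣ X ^ 6 - 1 := ⟨(X ^ 3 + 1) * (X - 1), by ring⟩

/-- `X ^ 6 + X ^ 3 + 1` and `g`, small `u` -/
def tab9 : List (ℕ × ℕ) := [(73, 1), (57, 3), (757, 1), (703, 1), (4161, 3), (4033, 1), (15751, 1), (15501, 3),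
  (117993, 3), (117307, 1)]

set_option synthInstance.maxHeartbeats 200000 in
set_option synthInstance.maxSize 2000 in
/-- small `u` -/
theorem small9a : ∀ q < 600, q % 4 = 3 → 7 ≤ q → ∀ N ∈ tab9, (q ^ 2 + q + 1) ∣ 3 * N.1 →
    N.1 / N.2 ∣ (q ^ 3 - 1) / 2 →
    q = 63 ∨ q = 7 ∧ N.1 = 57 ∨ q = 27 ∧ N.1 = 757 ∨ q = 343 ∧ N.1 = 117993 := by
  decide +kernel

set_option synthInstance.maxHeartbeats 200000 in
set_option synthInstance.maxSize 2000 in
/-- small `u` -/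
theorem small9b : ∀ q < 600, q % 4 = 1 → 7 ≤ q → ∀ N ∈ tab9, (q ^ 2 - q + 1) ∣ 3 * N.1 →
    N.1 / N.2 ∣ (q ^ 3 + 1) / 2 →
    q = 65 ∨ q = 9 ∧ N.1 = 73 ∨ q = 125 ∧ N.1 = 15501 := by
  decide +kernel

section

variable {p q k A k' B m i : ℕ} {W : ℕ → Prop} {S : Type u} [Group S] {v u g : ℕ} {X : ℤ}

theorem E6Dat.u2 (D : E6Dat v u g X S) : 2 ≤ u := by
  obtain ⟨f, hf, rfl⟩ := D.pw
  exact D.vp.two_le.trans (Nat.le_self_pow (by omega) v)

theorem E6Dat.vu (D : E6Dat v u g X S) : v ∣ u := by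
  obtain ⟨f, hf, rfl⟩ := D.pw
  exact dvd_pow_self v (by omega)

theorem E6Dat.g13 (D : E6Dat v u g X S) : g = 1 ∨ g = 3 := by
  rcases D.hg with ⟨h, -⟩ | ⟨h, -⟩
  · exact Or.inl h
  · exact Or.inr h

theorem E6Dat.gX (D : E6Dat v u g X S) : (g : ℤ) ∣ X - 1 := by
  rcases D.hg with ⟨h, -⟩ | ⟨h, h'⟩
  · rw [h]; exact one_dvd _
  · rw [h]; exact h'

theorem E6Dat.cop (D : E6Dat v u g X S) {n : ℕ} (hn : ∀ r : ℕ, r.Prime → r ∣ n → 5 ≤ r) : n.Coprime g := by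
  rcases D.g13 with h | h
  · rw [h]; exact Nat.coprime_one_right _
  · rw [h]
    exact ((Nat.Prime.coprime_iff_not_dvd Nat.prime_three).2 fun hd => by
      have := hn 3 Nat.prime_three hd; omega).symm

/-- the class of `k` -/
theorem e6_kT (h : SX p q k A k' B m i W S) (hg : Good W m i) (D : E6Dat v u g X S) :
    (k : ℤ) ∣ X ^ 6 + X ^ 3 + 1 ∨ (k : ℤ) ∣ X ^ 4 - X ^ 2 + 1 ∨ ((k : ℤ) ∣ X ^ 4 + 1 ∧ u % 2 = 0) := by
  have hk7 : ∀ r : ℕ, r.Prime → r ∣ k → 7 ≤ r := fun r hr hrk => SX.prime h hr (Or.inl hrk)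
  have hcl : ∀ r : ℕ, r.Prime → r ∣ k → Cl r X := by
    intro r hr hrk
    have hr7 := hk7 r hr hrk
    have hgk := h.good_k hg hr hrk
    have hdS := h.dvd_card hr (h.W_prime hr (Or.inl hrk)) hgk.1 hgk.2
    exact D.near r hr (by omega) hdS (h.twoS hr hrk)
  obtain ⟨r, hr, hrk⟩ := Nat.exists_prime_and_dvd h.lw.k_pos.1.ne'
  have hr7 := hk7 r hr hrk
  obtain ⟨x, hx⟩ := h.kS hg
  obtain ⟨b, n, O⟩ := D.up x
  rw [hx] at O
  have n6 := fun r hr hrk => (hcl r hr hrk).n6 hr (by have := hk7 r hr hrk; omega)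
  have n4 := fun r hr hrk => (hcl r hr hrk).n4 hr (by have := hk7 r hr hrk; omega)
  have n5 := fun r hr hrk => (hcl r hr hrk).n5 hr (by have := hk7 r hr hrk; omega)
  -- `v` does not divide `k`
  have hvk : ¬ v ∣ k := by
    intro hvk
    have h1 := hcl v D.vp hvk
    have h2 : (v : ℤ) ∣ X := by
      have : (v : ℤ) ∣ u := Int.natCast_dvd_natCast.2 D.vu
      rcases D.hX with h | h <;> rw [h]
      · exact this
      · exact this.neg_right
    have h3 : (v : ℤ) ∣ 1 := by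
      rcases h1 with h1 | h1 | h1
      · have := dvd_sub h1 (h2.mul_right (X ^ 3))
        have e : X ^ 4 + 1 - X * X ^ 3 = 1 := by ring
        rwa [e] at this
      · have := dvd_sub h1 (h2.mul_right (X ^ 3 - X))
        have e : X ^ 4 - X ^ 2 + 1 - X * (X ^ 3 - X) = 1 := by ring
        rwa [e] at this
      · have := dvd_sub h1 (h2.mul_right (X ^ 5 + X ^ 2))
        have e : X ^ 6 + X ^ 3 + 1 - X * (X ^ 5 + X ^ 2) = 1 := by ring
        rwa [e] at this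
    have h4 := Int.le_of_dvd (by norm_num) h3
    have := D.vp.two_le
    omega
  have hb : b = 0 := by
    by_contra hb
    exact hvk (by rw [O.eq]; exact (dvd_pow_self v hb).mul_right _)
  have hkn : k = n := by rw [O.eq, hb, pow_zero, one_mul]
  have h0 := O.s0
  rw [← hkn] at h0
  have hrk' : (r : ℤ) ∣ k := Int.natCast_dvd_natCast.2 hrk
  rcases h0 with h0 | h0 | h0 | h0 | h0 | h0
  · right; right
    have hc : IsCoprime (k : ℤ) (X ^ 2 - 1) := cop_int fun r hr hrk hd => n6 r hr hrk (hd.trans (d2_6 X))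
    have h1 : (k : ℤ) ∣ X ^ 4 + 1 := hc.dvd_of_dvd_mul_right h0
    refine ⟨h1, ?_⟩
    by_contra hodd
    obtain ⟨y, hy⟩ := D.ex8
    have hkN : k ∣ orderOf y := liftN (D.cop fun r hr hrk => by have := hk7 r hr hrk; omega) hy h0
    have h2N : 2 ∣ orderOf y := by
      refine liftN (g := g) ?_ hy ?_
      · rcases D.g13 with h | h <;> rw [h] <;> norm_num
      · refine Dvd.dvd.mul_right ?_ _
        have : X % 2 = 1 := by rcases D.hX with h | h <;> omega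
        have h3 : (X ^ 4 + 1) % 2 = 0 := by simp [pow_succ, Int.add_emod, Int.mul_emod, this]
        exact Int.dvd_of_emod_eq_zero h3
    exact SX.no_two h hr hrk ⟨y, rfl⟩ h2N (hrk.trans hkN)
  · exact absurd (hrk'.trans h0) (n5 r hr hrk)
  · exact absurd (hrk'.trans h0) (n4 r hr hrk)
  · exact absurd (hrk'.trans h0) (n6 r hr hrk)
  · right; left
    have hc : IsCoprime (k : ℤ) (X ^ 2 + X + 1) := cop_int fun r hr hrk hd => n6 r hr hrk (hd.trans (d3_6 X))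
    exact hc.dvd_of_dvd_mul_right h0
  · exact Or.inl h0

/-- the class of `k` is `9` -/
theorem e6_k9 (h : SX p q k A k' B m i W S) (hg : Good W m i) (D : E6Dat v u g X S) :
    (k : ℤ) ∣ X ^ 6 + X ^ 3 + 1 := by
  have hk7 : ∀ r : ℕ, r.Prime → r ∣ k → 7 ≤ r := fun r hr hrk => SX.prime h hr (Or.inl hrk)
  have hc : k.Coprime g := D.cop fun r hr hrk => by have := hk7 r hr hrk; omega
  rcases e6_kT h hg D with h1 | h1 | ⟨h1, h2⟩
  · exact h1
  · exfalso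
    obtain ⟨y, hy⟩ := D.ex12
    exact no12 h.lw D.hX D.u2 D.g13 hy (SX.dvdA h ⟨y, rfl⟩ (liftN hc hy (h1.mul_right _))) h1
  · exfalso
    obtain ⟨y, hy⟩ := D.ex8
    exact no8 h.lw D.hX D.u2 h2 D.g13 hy (SX.dvdA h ⟨y, rfl⟩ (liftN hc hy (h1.mul_right _))) h1

/-- **`u ≥ 8`.** -/
theorem e6_u8 (h : SX p q k A k' B m i W S) (hg : Good W m i) (D : E6Dat v u g X S) (hvp : v ≠ p) : 8 ≤ u := by
  by_contra hcon
  have h9 := e6_k9 h hg D
  have hk7 : ∀ r : ℕ, r.Prime → r ∣ k → 7 ≤ r := fun r hr hrk => SX.prime h hr (Or.inl hrk)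
  have hc : k.Coprime g := D.cop fun r hr hrk => by have := hk7 r hr hrk; omega
  obtain ⟨y, hy⟩ := D.ex9
  have hTA := SX.dvdA h ⟨y, rfl⟩ (liftN hc hy h9)
  have hu2 := D.u2
  have hq7 := h.lw.q7
  have hqo := h.lw.q_odd
  have hg0 : 0 < g := by rcases D.g13 with h | h <;> omega
  have hgX := D.hg
  -- `T = N / g`
  obtain ⟨N, hN, hN'⟩ : ∃ N : ℕ, N = g * orderOf y ∧ ((N : ℕ) : ℤ) = X ^ 6 + X ^ 3 + 1 :=
    ⟨_, rfl, by rw [← hy]; push_cast; ring⟩
  have hNT : N / g = orderOf y := by rw [hN, Nat.mul_div_cancel_left _ hg0]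
  have hu6 : u ≠ 6 := by
    rintro h6
    obtain ⟨f, hf, hu'⟩ := D.pw
    have h2 : 2 ∣ v ^ f := by rw [← hu', h6]; norm_num
    have h3 : 3 ∣ v ^ f := by rw [← hu', h6]; norm_num
    have h4 := (Nat.prime_dvd_prime_iff_eq Nat.prime_two D.vp).1 (Nat.prime_two.dvd_of_dvd_pow h2)
    have h5 := (Nat.prime_dvd_prime_iff_eq Nat.prime_three D.vp).1 (Nat.prime_three.dvd_of_dvd_pow h3)
    omega
  have htab : (N, g) ∈ tab9 ∧ (N = 73 → u = 2) ∧ (N = 57 → u = 2) ∧ (N = 757 → u = 3) ∧ (N = 117993 → u = 7) ∧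
      (N = 15501 → u = 5) := by
    rcases D.hX with rfl | rfl
    · have hu7 : u < 8 := by omega
      clear hcon hy
      interval_cases u
      · norm_num at hN' hgX
        have : N = 73 := by omega
        subst this
        rw [hgX]
        decide
      · norm_num at hN' hgX
        have : N = 757 := by omega
        subst this
        rw [hgX]
        decide
      · norm_num at hN' hgX
        have : N = 4161 := by omega
        subst this
        rw [hgX]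
        decide
      · norm_num at hN' hgX
        have : N = 15751 := by omega
        subst this
        rw [hgX]
        decide
      · exact absurd rfl hu6
      · norm_num at hN' hgX
        have : N = 117993 := by omega
        subst this
        rw [hgX]
        decide
    · have hu7 : u < 8 := by omega
      clear hcon hy
      interval_cases u
      · norm_num at hN' hgX
        have : N = 57 := by omega
        subst this
        rw [hgX]
        decide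
      · norm_num at hN' hgX
        have : N = 703 := by omega
        subst this
        rw [hgX]
        decide
      · norm_num at hN' hgX
        have : N = 4033 := by omega
        subst this
        rw [hgX]
        decide
      · norm_num at hN' hgX
        have : N = 15501 := by omega
        subst this
        rw [hgX]
        decide
      · exact absurd rfl hu6
      · norm_num at hN' hgX
        have : N = 117307 := by omega
        subst this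
        rw [hgX]
        decide
  -- `q < 600`
  have hN3 : 3 * N < 359400 := by
    have := htab.1
    simp only [tab9, List.mem_cons, List.not_mem_nil, or_false, Prod.mk.injEq] at this
    omega
  have hkN : k ∣ N := by
    have : (k : ℤ) ∣ N := by rw [hN']; exact h9
    exact_mod_cast this
  have hN0 : 0 < N := by
    rcases Nat.eq_zero_or_pos N with h0 | h0
    · rw [h0] at hN'
      have := htab.1
      rw [h0] at this
      simp [tab9] at this
    · exact h0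
  have hqq : q ≤ q ^ 2 := Nat.le_self_pow two_ne_zero q
  have h17 : u = 2 → (q = 7 ∨ q = 9) → False := by
    rintro rfl hq
    obtain ⟨z, hz⟩ := D.ex8
    have h1 : 17 ∣ orderOf z := by
      refine liftN (g := g) ?_ hz ?_
      · rcases D.g13 with h | h <;> rw [h] <;> norm_num
      · refine Dvd.dvd.mul_right ?_ _
        rcases D.hX with h | h <;> rw [h] <;> norm_num
    have h2 := h1.trans (h.lw.exp _ (h.WS z))
    have hpp := h.lw.pp
    have hpq := h.lw.p_dvd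
    rcases hq with rfl | rfl
    · have hp : p = 7 := (Nat.prime_dvd_prime_iff_eq hpp (by norm_num)).1 hpq
      subst hp
      norm_num at h2
    · have hp : p = 3 := (Nat.prime_dvd_prime_iff_eq hpp Nat.prime_three).1
        (hpp.dvd_of_dvd_pow (show p ∣ 3 ^ 2 by norm_num; exact hpq))
      subst hp
      norm_num at h2
  have hvq : ∀ {a b : ℕ}, u = a → q = a ^ b → b ≠ 0 → False := by
    rintro a b rfl hq hb
    obtain ⟨f, hf, hu'⟩ := D.pw
    obtain ⟨e, he⟩ := h.lw.qp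
    have h1 : v ∣ p ^ e := by
      rw [← he, hq, hu', ← pow_mul]
      exact dvd_pow_self v (Nat.mul_ne_zero (by omega) hb)
    exact hvp ((Nat.prime_dvd_prime_iff_eq D.vp h.lw.pp).1 (D.vp.dvd_of_dvd_pow h1))
  have hpq2 : ∀ a b : ℕ, a.Prime → b.Prime → a ≠ b → a ∣ q → b ∣ q → False := by
    intro a b ha hb hab h1 h2
    obtain ⟨e, he⟩ := h.lw.qp
    rw [he] at h1 h2
    have h3 := (Nat.prime_dvd_prime_iff_eq ha h.lw.pp).1 (ha.dvd_of_dvd_pow h1)
    have h4 := (Nat.prime_dvd_prime_iff_eq hb h.lw.pp).1 (hb.dvd_of_dvd_pow h2)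
    exact hab (h3.trans h4.symm)
  rw [← hNT] at hTA
  rcases h.lw.side with ⟨h1, -, hA, -⟩ | ⟨h1, -, hA, -⟩
  · rcases h.lw.side.cof h.lw.q2 with ⟨-, h2, -⟩ | ⟨h2, -⟩
    · have h3 : q ^ 2 + q + 1 ∣ 3 * N := by
        rcases h2 with h2 | ⟨h2, -⟩
        · rw [← h2]; exact hkN.mul_left 3
        · rw [← h2]; exact mul_dvd_mul_left 3 hkN
      have h4 := Nat.le_of_dvd (by omega) h3
      have hq600 : q < 600 := by nlinarith
      rw [hA] at hTA
      rcases small9a q hq600 h1 hq7 (N, g) htab.1 h3 hTA with h5 | ⟨h5, h6⟩ | ⟨h5, h6⟩ | ⟨h5, h6⟩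
      · exact hpq2 3 7 (by norm_num) (by norm_num) (by norm_num) (by rw [h5]; norm_num) (by rw [h5]; norm_num)
      · exact h17 (htab.2.2.1 h6) (Or.inl h5)
      · exact hvq (b := 3) (htab.2.2.2.1 h6) (by rw [h5]; norm_num) (by norm_num)
      · exact hvq (b := 3) (htab.2.2.2.2.1 h6) (by rw [h5]; norm_num) (by norm_num)
    · omega
  · rcases h.lw.side.cof h.lw.q2 with ⟨h2, -⟩ | ⟨-, -, h2⟩
    · omega
    · have h3 : q ^ 2 - q + 1 ∣ 3 * N := by
        rcases h2 with h2 | ⟨h2, -⟩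
        · rw [← h2]; exact hkN.mul_left 3
        · rw [← h2]; exact mul_dvd_mul_left 3 hkN
      have h4 := Nat.le_of_dvd (by omega) h3
      have hq600 : q < 600 := by
        have : q ^ 2 + 1 ≤ 359400 + q := by omega
        nlinarith
      rw [hA] at hTA
      rcases small9b q hq600 h1 hq7 (N, g) htab.1 h3 hTA with h5 | ⟨h5, h6⟩ | ⟨h5, h6⟩
      · exact hpq2 5 13 (by norm_num) (by norm_num) (by norm_num) (by rw [h5]; norm_num) (by rw [h5]; norm_num)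
      · exact h17 (htab.2.1 h6) (Or.inr h5)
      · exact hvq (b := 3) (htab.2.2.2.2.2 h6) (by rw [h5]; norm_num) (by norm_num)

/-- a torus of class `9` and another one -/
theorem kill6 (h : LW p q k A k' B W) {T D c : ℕ} {T' D' α β : ℤ} (hg : g = 1 ∨ g = 3) (hc : A = c * T)
    (hD : D ∣ B) (hT' : (g : ℤ) * T = T') (hD' : (g : ℤ) * D = D') (hid : α * T' + β * D' = 3) (hcu : c < u ^ 4)
    (h1 : 3 * (u : ℤ) ^ 4 ≤ |α|) (h2 : 3 * (u : ℤ) ^ 4 + 3 * |α| < D') : False := by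
  have hcz : (c : ℤ) < (u : ℤ) ^ 4 := by exact_mod_cast hcu
  have hc0 : (0 : ℤ) ≤ c := by positivity
  subst hT' hD'
  rcases hg with rfl | rfl
  · rcases kill_eq h hc hD (κ := 3) (α := α) (by norm_num) ⟨-β, by push_cast at hid; linear_combination hid⟩ (by
      push_cast at h2
      linarith) with ⟨-, h3⟩ | ⟨-, h3⟩
    · have : |α| = c * 3 := by rw [← h3, abs_of_nonneg (by positivity)]
      linarith
    · have : |α| = c * 3 := by
        rw [show α = -((c : ℤ) * 3) by linarith, abs_neg, abs_of_nonneg (by positivity)]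
      linarith
  · have hid' : α * T + β * D = 1 := by
      push_cast at hid
      linarith
    rcases kill_eq h hc hD (κ := 1) (α := α) (by norm_num) ⟨-β, by linear_combination hid'⟩ (by
      push_cast at h2
      linarith) with ⟨-, h3⟩ | ⟨-, h3⟩
    · have : |α| = c * 1 := by rw [← h3, abs_of_nonneg (by positivity)]
      linarith
    · have : |α| = c * 1 := by
        rw [show α = -((c : ℤ) * 1) by linarith, abs_neg, abs_of_nonneg (by positivity)]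
      linarith

theorem abs_lt6 {α N D' L : ℤ} (h1 : -N ≤ α) (h2 : α ≤ N) (h3 : L + 3 * N < D') : L + 3 * |α| < D' := by
  have : |α| ≤ N := abs_le.2 ⟨h1, h2⟩
  linarith

/-- small `k'` -/
theorem small6 (h : LW p q k A k' B W) (hu : 8 ≤ u) {T : ℕ} (hTA : T ∣ A) (hT : (u : ℤ) ^ 6 - u ^ 3 + 1 ≤ 3 * T)
    (hk' : k' ≤ 11 * u) : False := by
  have hA0 : 0 < A := by
    have := h.side.A_odd
    omega
  have h1 := Nat.le_of_dvd hA0 hTA
  have h2 := (h.side.k_ge h.q2).2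
  have h3 : 2 * A ≤ q ^ 3 + 1 := by rcases h.side.two_mul with h3 | h3 <;> omega
  have hqq : q ≤ q ^ 2 := Nat.le_self_pow two_ne_zero q
  have hq7 : (7 : ℤ) ≤ q := by exact_mod_cast h.q7
  have huz : (8 : ℤ) ≤ u := by exact_mod_cast hu
  have e1 : (q : ℤ) ^ 2 - q + 1 ≤ 33 * u := by
    have : q ^ 2 + 1 ≤ 33 * u + q := by omega
    have : (q : ℤ) ^ 2 + 1 ≤ 33 * u + q := by exact_mod_cast this
    linarith
  have e2 : 2 * (T : ℤ) ≤ (q : ℤ) ^ 3 + 1 := by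
    have : 2 * T ≤ q ^ 3 + 1 := by omega
    exact_mod_cast this
  have e3 : (q : ℤ) ^ 3 + 1 = (q + 1) * (q ^ 2 - q + 1) := by ring
  have e4 : ((q : ℤ) + 1) * (q ^ 2 - q + 1) ≤ (q + 1) * (33 * u) := mul_le_mul_of_nonneg_left e1 (by linarith)
  have e5 : 2 * ((u : ℤ) ^ 6 - u ^ 3 + 1) ≤ 3 * ((q + 1) * (33 * u)) := by linarith
  have e6 : 48 * (u : ℤ) * (99 * u) ≤ 2 * ((u : ℤ) ^ 6 - u ^ 3 + 1) := by
    obtain ⟨t, rfl⟩ : ∃ t, u = t + 8 := ⟨u - 8, by omega⟩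
    clear * -
    push_cast
    apply pos_le
    ring_nf
    positivity
  have e7 : 48 * (u : ℤ) ≤ q + 1 := by
    have h5 : (99 * (u : ℤ)) * (48 * (u : ℤ)) ≤ (99 * u) * (q + 1) := by linarith
    exact le_of_mul_le_mul_left h5 (by linarith)
  nlinarith

/-- the torus of a prime of `k'` -/
theorem e6_cls (h : SX p q k A k' B m i W S) (D : E6Dat v u g X S) {r n : ℕ} (hr : r.Prime) (hrk : r ∣ k') (hrn : r ∣ n)
    (hn : (n : ℤ) ∣ (X ^ 4 + 1) * (X ^ 2 - 1) ∨ (n : ℤ) ∣ (X ^ 5 - 1) * (X + 1) ∨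
      (n : ℤ) ∣ (X ^ 4 - 1) * (X ^ 2 - X + 1) ∨ (n : ℤ) ∣ X ^ 6 - 1 ∨
      (n : ℤ) ∣ (X ^ 4 - X ^ 2 + 1) * (X ^ 2 + X + 1)) :
    ∃ N : ℕ, N ∣ B ∧ ((g : ℤ) * N = (X ^ 4 + 1) * (X ^ 2 - 1) ∨ (g : ℤ) * N = (X ^ 5 - 1) * (X + 1) ∨
      (g : ℤ) * N = (X ^ 4 - 1) * (X ^ 2 - X + 1) ∨ (g : ℤ) * N = (X ^ 4 - X ^ 2 + 1) * (X ^ 2 + X + 1)) := by
  have hr7 := SX.prime h hr (Or.inr hrk)
  have hrg : r.Coprime g := D.cop fun s hs hsr => by
    have := (Nat.prime_dvd_prime_iff_eq hs hr).1 hsr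
    omega
  have hrn' : (r : ℤ) ∣ n := Int.natCast_dvd_natCast.2 hrn
  have key : ∀ {P : ℤ}, (∃ x : S, (g : ℤ) * (orderOf x : ℕ) = P) → (r : ℤ) ∣ P → ∃ N : ℕ, N ∣ B ∧ (g : ℤ) * N = P := by
    rintro P ⟨x, hx⟩ hP
    exact ⟨orderOf x, SX.dvdB h ⟨x, rfl⟩ hr hrk (liftN hrg hx hP), hx⟩
  have k8 := fun hd => key D.ex8 hd
  have k5 := fun hd => key D.ex5 hd
  have k4 := fun hd => key D.ex4 hd
  have k12 := fun hd => key D.ex12 hd
  rcases hn with h0 | h0 | h0 | h0 | h0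
  · obtain ⟨N, h1, h2⟩ := k8 (hrn'.trans h0)
    exact ⟨N, h1, Or.inl h2⟩
  · obtain ⟨N, h1, h2⟩ := k5 (hrn'.trans h0)
    exact ⟨N, h1, Or.inr (Or.inl h2)⟩
  · obtain ⟨N, h1, h2⟩ := k4 (hrn'.trans h0)
    exact ⟨N, h1, Or.inr (Or.inr (Or.inl h2))⟩
  · have h1 := hrn'.trans h0
    have e : X ^ 6 - 1 = (X ^ 2 - 1) * ((X ^ 2 + X + 1) * (X ^ 2 - X + 1)) := by ring
    have hrp := Nat.prime_iff_prime_int.1 hr
    rw [e] at h1
    rcases hrp.dvd_or_dvd h1 with h2 | h2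
    · obtain ⟨N, h1, h2⟩ := k8 (h2.mul_left _)
      exact ⟨N, h1, Or.inl h2⟩
    · rcases hrp.dvd_or_dvd h2 with h3 | h3
      · obtain ⟨N, h1, h2⟩ := k12 (h3.mul_left _)
        exact ⟨N, h1, Or.inr (Or.inr (Or.inr h2))⟩
      · obtain ⟨N, h1, h2⟩ := k4 (h3.mul_left _)
        exact ⟨N, h1, Or.inr (Or.inr (Or.inl h2))⟩
  · obtain ⟨N, h1, h2⟩ := k12 (hrn'.trans h0)
    exact ⟨N, h1, Or.inr (Or.inr (Or.inr h2))⟩

/-- the orders of the tori are at most `2 u⁶` -/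
theorem le6 (hX : X = u ∨ X = -u) (hu : 8 ≤ u) {n : ℕ}
    (hn : (n : ℤ) ∣ (X ^ 4 + 1) * (X ^ 2 - 1) ∨ (n : ℤ) ∣ (X ^ 5 - 1) * (X + 1) ∨
      (n : ℤ) ∣ (X ^ 4 - 1) * (X ^ 2 - X + 1) ∨ (n : ℤ) ∣ X ^ 6 - 1 ∨
      (n : ℤ) ∣ (X ^ 4 - X ^ 2 + 1) * (X ^ 2 + X + 1)) : n ≤ 2 * u ^ 6 := by
  obtain ⟨t, rfl⟩ : ∃ t, u = t + 8 := ⟨u - 8, by omega⟩
  have key : ∀ {P : ℤ}, (n : ℤ) ∣ P → 0 < P → P ≤ 2 * ((t + 8 : ℕ) : ℤ) ^ 6 → n ≤ 2 * (t + 8) ^ 6 := by
    intro P h1 h2 h3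
    have := (Int.le_of_dvd h2 h1).trans h3
    exact_mod_cast this
  rcases hn with h0 | h0 | h0 | h0 | h0
  · refine key h0 ?_ ?_
    · rcases hX with rfl | rfl <;> push_cast <;> apply pos_lt <;> clear * - <;> ring_nf <;> positivity
    · rcases hX with rfl | rfl <;> push_cast <;> apply pos_le <;> clear * - <;> ring_nf <;> positivity
  · refine key h0 ?_ ?_
    · rcases hX with rfl | rfl <;> push_cast <;> apply pos_lt <;> clear * - <;> ring_nf <;> positivity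
    · rcases hX with rfl | rfl <;> push_cast <;> apply pos_le <;> clear * - <;> ring_nf <;> positivity
  · refine key h0 ?_ ?_
    · rcases hX with rfl | rfl <;> push_cast <;> apply pos_lt <;> clear * - <;> ring_nf <;> positivity
    · rcases hX with rfl | rfl <;> push_cast <;> apply pos_le <;> clear * - <;> ring_nf <;> positivity
  · refine key h0 ?_ ?_
    · rcases hX with rfl | rfl <;> push_cast <;> apply pos_lt <;> clear * - <;> ring_nf <;> positivity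
    · rcases hX with rfl | rfl <;> push_cast <;> apply pos_le <;> clear * - <;> ring_nf <;> positivity
  · refine key h0 ?_ ?_
    · rcases hX with rfl | rfl <;> push_cast <;> apply pos_lt <;> clear * - <;> ring_nf <;> positivity
    · rcases hX with rfl | rfl <;> push_cast <;> apply pos_le <;> clear * - <;> ring_nf <;> positivity

/-- the unipotent centralizers -/
theorem le6' (hX : X = u ∨ X = -u) (hu : 8 ≤ u) {n : ℕ}
    (hn : (n : ℤ) ∣ (X ^ 3 - 1) * (X + 1) ∨ (n : ℤ) ∣ X ^ 4 - 1 ∨ (n : ℤ) ∣ X ^ 5 - 1 ∨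
      (n : ℤ) ∣ (X ^ 3 + 1) * (X ^ 2 + X + 1) ∨ (n : ℤ) ∣ (X ^ 3 + 1) * (X - 1)) : n ≤ 2 * u ^ 5 := by
  obtain ⟨t, rfl⟩ : ∃ t, u = t + 8 := ⟨u - 8, by omega⟩
  have key : ∀ {P : ℤ}, (n : ℤ) ∣ P → (0 < P ∧ P ≤ 2 * ((t + 8 : ℕ) : ℤ) ^ 5 ∨ 0 < -P ∧ -P ≤ 2 * ((t + 8 : ℕ) : ℤ) ^ 5) →
      n ≤ 2 * (t + 8) ^ 5 := by
    rintro P h1 (⟨h2, h3⟩ | ⟨h2, h3⟩)
    · have := (Int.le_of_dvd h2 h1).trans h3
      exact_mod_cast this
    · have := (Int.le_of_dvd h2 (h1.neg_right)).trans h3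
      exact_mod_cast this
  rcases hn with h0 | h0 | h0 | h0 | h0
  · refine key h0 (Or.inl ⟨?_, ?_⟩)
    · rcases hX with rfl | rfl <;> push_cast <;> apply pos_lt <;> clear * - <;> ring_nf <;> positivity
    · rcases hX with rfl | rfl <;> push_cast <;> apply pos_le <;> clear * - <;> ring_nf <;> positivity
  · refine key h0 (Or.inl ⟨?_, ?_⟩)
    · rcases hX with rfl | rfl <;> push_cast <;> apply pos_lt <;> clear * - <;> ring_nf <;> positivity
    · rcases hX with rfl | rfl <;> push_cast <;> apply pos_le <;> clear * - <;> ring_nf <;> positivity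
  · rcases hX with rfl | rfl
    · refine key h0 (Or.inl ⟨?_, ?_⟩) <;> push_cast
      · apply pos_lt; clear * -; ring_nf; positivity
      · apply pos_le; clear * -; ring_nf; positivity
    · refine key h0 (Or.inr ⟨?_, ?_⟩) <;> push_cast
      · apply pos_lt; clear * -; ring_nf; positivity
      · apply pos_le; clear * -; ring_nf; positivity
  · rcases hX with rfl | rfl
    · refine key h0 (Or.inl ⟨?_, ?_⟩) <;> push_cast
      · apply pos_lt; clear * -; ring_nf; positivity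
      · apply pos_le; clear * -; ring_nf; positivity
    · refine key h0 (Or.inr ⟨?_, ?_⟩) <;> push_cast
      · apply pos_lt; clear * -; ring_nf; positivity
      · apply pos_le; clear * -; ring_nf; positivity
  · refine key h0 (Or.inl ⟨?_, ?_⟩)
    · rcases hX with rfl | rfl <;> push_cast <;> apply pos_lt <;> clear * - <;> ring_nf <;> positivity
    · rcases hX with rfl | rfl <;> push_cast <;> apply pos_le <;> clear * - <;> ring_nf <;> positivity

/-- **State I.** -/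
theorem e6_I (h : SX p q k A k' B m i W S) (hg : Good W m i) (D : E6Dat v u g X S) (hu : 8 ≤ u)
    (h1 : ∀ r : ℕ, r.Prime → r ∣ k' → ¬ r ∣ m ∧ ¬ r ∣ i) : False := by
  obtain ⟨x, hx⟩ := SX.k'S h h1
  have hk25 := (k_ge h.lw).2
  have hk7 : ∀ r : ℕ, r.Prime → r ∣ k → 7 ≤ r := fun r hr hrk => SX.prime h hr (Or.inl hrk)
  have hp7 : ∀ w : ℕ, w.Prime → w ∣ k' → 7 ≤ w := fun w hw hwk => SX.prime h hw (Or.inr hwk)
  obtain ⟨s, hs, hsk⟩ := Nat.exists_prime_and_dvd h.lw.k_pos.1.ne'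
  have h9 := e6_k9 h hg D
  have hcg : k.Coprime g := D.cop fun r hr hrk => by have := hk7 r hr hrk; omega
  obtain ⟨y, hy⟩ := D.ex9
  have hkT := liftN hcg hy h9
  have hTA := SX.dvdA h ⟨y, rfl⟩ hkT
  have hT3 : (u : ℤ) ^ 6 - u ^ 3 + 1 ≤ 3 * (orderOf y : ℕ) := by
    have e1 : (u : ℤ) ^ 6 - u ^ 3 + 1 ≤ X ^ 6 + X ^ 3 + 1 := by
      have : (0 : ℤ) ≤ (u : ℤ) ^ 3 := by positivity
      rcases D.hX with h | h <;> rw [h] <;> nlinarith
    have e2 : (g : ℤ) * (orderOf y : ℕ) ≤ 3 * (orderOf y : ℕ) := by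
      have : (0 : ℤ) ≤ (orderOf y : ℕ) := by positivity
      rcases D.g13 with h | h <;> rw [h] <;> push_cast <;> linarith
    linarith
  -- no common torus
  have hcommon : ∀ w : ℕ, w.Prime → w ∣ k' → ¬ (w : ℤ) ∣ X ^ 6 + X ^ 3 + 1 := by
    intro w hw hwk hd
    have hw7 := hp7 w hw hwk
    have hwg : w.Coprime g := D.cop fun s hs hsr => by
      have := (Nat.prime_dvd_prime_iff_eq hs hw).1 hsr
      omega
    exact h.lw.na hs hsk hw hwk (h.WS y) (hsk.trans hkT) (liftN hwg hy hd)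
  obtain ⟨b, n, O⟩ := D.up x
  rw [hx] at O
  have hcase : (k' ≤ 2 * u ^ 6 ∧ ∃ N : ℕ, N ∣ B ∧ ((g : ℤ) * N = (X ^ 4 + 1) * (X ^ 2 - 1) ∨
      (g : ℤ) * N = (X ^ 5 - 1) * (X + 1) ∨ (g : ℤ) * N = (X ^ 4 - 1) * (X ^ 2 - X + 1) ∨
      (g : ℤ) * N = (X ^ 4 - X ^ 2 + 1) * (X ^ 2 + X + 1))) ∨ k' ≤ 11 * u := by
    obtain ⟨r, hr, hrk⟩ := Nat.exists_prime_and_dvd (show k' ≠ 1 by omega)
    by_cases hb : b = 0
    · have hkn : k' = n := by rw [O.eq, hb, pow_zero, one_mul]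
      have h0 := O.s0
      rw [← hkn] at h0
      left
      have h0' : (k' : ℤ) ∣ (X ^ 4 + 1) * (X ^ 2 - 1) ∨ (k' : ℤ) ∣ (X ^ 5 - 1) * (X + 1) ∨
          (k' : ℤ) ∣ (X ^ 4 - 1) * (X ^ 2 - X + 1) ∨ (k' : ℤ) ∣ X ^ 6 - 1 ∨
          (k' : ℤ) ∣ (X ^ 4 - X ^ 2 + 1) * (X ^ 2 + X + 1) := by
        rcases h0 with h0 | h0 | h0 | h0 | h0 | h0
        · exact Or.inl h0
        · exact Or.inr (Or.inl h0)
        · exact Or.inr (Or.inr (Or.inl h0))
        · exact Or.inr (Or.inr (Or.inr (Or.inl h0)))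
        · exact Or.inr (Or.inr (Or.inr (Or.inr h0)))
        · exact absurd ((Int.natCast_dvd_natCast.2 hrk).trans h0) (hcommon r hr hrk)
      exact ⟨le6 D.hX hu h0', e6_cls h D hr hrk hrk h0'⟩
    · have hvk : v ∣ k' := by
        rw [O.eq]
        exact (dvd_pow_self v hb).mul_right _
      have hv7 := hp7 v D.vp hvk
      have hvu : v ≤ u := Nat.le_of_dvd (by omega) D.vu
      have hpow : v ^ b = v * v ^ (b - 1) := by
        rw [← pow_succ']
        congr 1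
        omega
      by_cases hn : n = 1
      · right
        rw [O.eq, hn, mul_one, hpow]
        have := O.le hb
        calc v * v ^ (b - 1) ≤ u * 11 := Nat.mul_le_mul hvu this
          _ = 11 * u := mul_comm _ _
      · left
        obtain ⟨w, hw, hwn⟩ := Nat.exists_prime_and_dvd hn
        have hwk : w ∣ k' := by rw [O.eq]; exact hwn.mul_left _
        have hw7 := hp7 w hw hwk
        have hs1 := O.s1 hb
        have hn5 := le6' D.hX hu hs1
        constructor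
        · rcases Nat.lt_or_ge 1 b with hb2 | hb1
          · have h6 : 6 ≤ v ^ (b - 1) := by
              have : v ≤ v ^ (b - 1) := Nat.le_self_pow (by omega) v
              omega
            have hm := O.s6 hb h6
            have hle : n ≤ u + 1 := by
              have hu8 : (8 : ℤ) ≤ u := by exact_mod_cast hu
              rcases D.hX with h | h
              · rw [h] at hm
                have := Int.le_of_dvd (by linarith) hm
                omega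
              · rw [h] at hm
                have := Int.le_of_dvd (by linarith) (hm.neg_right)
                omega
            rw [O.eq, hpow]
            have := O.le hb
            calc v * v ^ (b - 1) * n ≤ u * 11 * (u + 1) := Nat.mul_le_mul (Nat.mul_le_mul hvu this) hle
              _ ≤ 2 * u ^ 6 := by
                obtain ⟨t, rfl⟩ : ∃ t, u = t + 8 := ⟨u - 8, by omega⟩
                clear * -
                zify
                apply pos_le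
                ring_nf
                positivity
          · have hb1 : b = 1 := by omega
            rw [O.eq, hb1, pow_one]
            calc v * n ≤ u * (2 * u ^ 5) := Nat.mul_le_mul hvu hn5
              _ = _ := by ring
        · refine e6_cls h D hw hwk hwn ?_
          rcases hs1 with h0 | h0 | h0 | h0 | h0
          · exact Or.inr (Or.inr (Or.inr (Or.inl (h0.trans ⟨(X ^ 2 - X + 1), by ring⟩))))
          · exact Or.inr (Or.inr (Or.inl (h0.mul_right _)))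
          · exact Or.inr (Or.inl (h0.mul_right _))
          · exact Or.inr (Or.inr (Or.inr (Or.inl (h0.trans ⟨X - 1, by ring⟩))))
          · exact Or.inr (Or.inr (Or.inr (Or.inl (h0.trans ⟨X ^ 2 + X + 1, by ring⟩))))
  rcases hcase with ⟨hle, N, hN, hND⟩ | hle
  · obtain ⟨c, hc⟩ := hTA
    rw [mul_comm] at hc
    have hkT' : k ≤ orderOf y := by
      have hA0 : 0 < A := by
        have := h.lw.side.A_odd
        omega
      have : orderOf y ≠ 0 := by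
        intro h0
        rw [h0, mul_zero] at hc
        omega
      exact Nat.le_of_dvd (by omega) hkT
    have hcu : c < u ^ 4 := by
      refine c_lt h.lw hc hkT' hle ?_
      zify
      have e1 : 81 * (2 * (u : ℤ) ^ 6) ^ 3 < 16 * (u ^ 4) ^ 4 * ((u : ℤ) ^ 6 - u ^ 3 + 1) := by
        obtain ⟨t, rfl⟩ : ∃ t, u = t + 8 := ⟨u - 8, by omega⟩
        clear * -
        push_cast
        apply pos_lt
        ring_nf
        positivity
      have e2 : 16 * ((u : ℤ) ^ 4) ^ 4 * ((u : ℤ) ^ 6 - u ^ 3 + 1) ≤ 16 * (u ^ 4) ^ 4 * (3 * (orderOf y : ℕ)) :=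
        mul_le_mul_of_nonneg_left hT3 (by positivity)
      linarith
    obtain ⟨t, rfl⟩ : ∃ t, u = t + 8 := ⟨u - 8, by omega⟩
    rcases hND with hN' | hN' | hN' | hN'
    · refine kill6 h.lw D.g13 hc hN hy hN' (α := -2 * X ^ 5 - 2 * X ^ 4 + 3 * X ^ 2 + X + 1)
        (β := 2 * X ^ 5 + 2 * X ^ 4 + 2 * X ^ 3 + X ^ 2 + X - 2) (by ring) hcu ?_
        (abs_lt6 (N := 2 * (t + 8 : ℤ) ^ 5 + 2 * (t + 8 : ℤ) ^ 4 + 3 * (t + 8 : ℤ) ^ 2 + (t + 8) + 1) ?_ ?_ ?_)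
      · rcases D.hX with h | h <;> rw [h, le_abs]
        · right; push_cast; apply pos_le; clear * -; ring_nf; positivity
        · left; push_cast; apply pos_le; clear * -; ring_nf; positivity
      · rcases D.hX with h | h <;> rw [h] <;> push_cast <;> apply pos_le <;> clear * - <;> ring_nf <;> positivity
      · rcases D.hX with h | h <;> rw [h] <;> push_cast <;> apply pos_le <;> clear * - <;> ring_nf <;> positivity
      · rcases D.hX with h | h <;> rw [h] <;> push_cast <;> apply pos_lt <;> clear * - <;> ring_nf <;> positivity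
    · refine kill6 h.lw D.g13 hc hN hy hN' (α := X ^ 5 + 2 * X ^ 4 - X ^ 3 - X ^ 2 - X + 1)
        (β := -X ^ 5 - X ^ 4 + 2 * X ^ 3 - 2 * X ^ 2 + X - 2) (by ring) hcu ?_
        (abs_lt6 (N := (t + 8 : ℤ) ^ 5 + 2 * (t + 8 : ℤ) ^ 4 + (t + 8 : ℤ) ^ 3 + (t + 8 : ℤ) ^ 2 + (t + 8) + 1) ?_ ?_ ?_)
      · rcases D.hX with h | h <;> rw [h, le_abs]
        · left; push_cast; apply pos_le; clear * -; ring_nf; positivity
        · right; push_cast; apply pos_le; clear * -; ring_nf; positivity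
      · rcases D.hX with h | h <;> rw [h] <;> push_cast <;> apply pos_le <;> clear * - <;> ring_nf <;> positivity
      · rcases D.hX with h | h <;> rw [h] <;> push_cast <;> apply pos_le <;> clear * - <;> ring_nf <;> positivity
      · rcases D.hX with h | h <;> rw [h] <;> push_cast <;> apply pos_lt <;> clear * - <;> ring_nf <;> positivity
    · refine kill6 h.lw D.g13 hc hN hy hN' (α := X ^ 5 - 2 * X ^ 3 + X ^ 2 + 1)
        (β := -X ^ 5 - X ^ 4 + 2 * X ^ 3 + X ^ 2 - 2 * X - 2) (by ring) hcu ?_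
        (abs_lt6 (N := (t + 8 : ℤ) ^ 5 + 2 * (t + 8 : ℤ) ^ 3 + (t + 8 : ℤ) ^ 2 + 1) ?_ ?_ ?_)
      · rcases D.hX with h | h <;> rw [h, le_abs]
        · left; push_cast; apply pos_le; clear * -; ring_nf; positivity
        · right; push_cast; apply pos_le; clear * -; ring_nf; positivity
      · rcases D.hX with h | h <;> rw [h] <;> push_cast <;> apply pos_le <;> clear * - <;> ring_nf <;> positivity
      · rcases D.hX with h | h <;> rw [h] <;> push_cast <;> apply pos_le <;> clear * - <;> ring_nf <;> positivity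
      · rcases D.hX with h | h <;> rw [h] <;> push_cast <;> apply pos_lt <;> clear * - <;> ring_nf <;> positivity
    · refine kill6 h.lw D.g13 hc hN hy hN' (α := -2 * X ^ 5 - X ^ 3 - 2 * X)
        (β := 2 * X ^ 5 - 2 * X ^ 4 + 3 * X ^ 3 + X ^ 2 - X + 3) (by ring) hcu ?_
        (abs_lt6 (N := 2 * (t + 8 : ℤ) ^ 5 + (t + 8 : ℤ) ^ 3 + 2 * (t + 8 : ℤ)) ?_ ?_ ?_)
      · rcases D.hX with h | h <;> rw [h, le_abs]
        · right; push_cast; apply pos_le; clear * -; ring_nf; positivity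
        · left; push_cast; apply pos_le; clear * -; ring_nf; positivity
      · rcases D.hX with h | h <;> rw [h] <;> push_cast <;> apply pos_le <;> clear * - <;> ring_nf <;> positivity
      · rcases D.hX with h | h <;> rw [h] <;> push_cast <;> apply pos_le <;> clear * - <;> ring_nf <;> positivity
      · rcases D.hX with h | h <;> rw [h] <;> push_cast <;> apply pos_lt <;> clear * - <;> ring_nf <;> positivity
  · exact small6 h.lw hu hTA hT3 hle

/-! ### the second state -/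

theorem fact3 {y n g : ℕ} {F₁ F₂ : ℤ} (hy : y.Prime) (hn : n ≠ 0) (hg0 : g ≠ 0) (h : F₁ * F₂ ∣ (g : ℤ) * n)
    (h1 : ((y ^ n.factorization y : ℕ) : ℤ) ∣ F₁) (h2 : ((g : ℤ) * y) ∣ F₂) : False := by
  have h3 : ((y ^ n.factorization y : ℕ) : ℤ) * ((g : ℤ) * y) ∣ (g : ℤ) * n := (mul_dvd_mul h1 h2).trans h
  have h4 : ((y ^ (n.factorization y + 1) : ℕ) : ℤ) ∣ n := by
    have hgz : (g : ℤ) ≠ 0 := by exact_mod_cast hg0
    refine (mul_dvd_mul_iff_left hgz).1 ?_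
    refine dvd_trans (dvd_of_eq ?_) h3
    push_cast
    ring
  have h5 : y ^ (n.factorization y + 1) ∣ n := by exact_mod_cast h4
  have := (hy.pow_dvd_iff_le_factorization hn).1 h5
  omega

theorem E6Dat.v_cop (D : E6Dat v u g X S) : v.Coprime g := by
  rcases D.hg with ⟨h, -⟩ | ⟨h, h'⟩
  · rw [h]; exact Nat.coprime_one_right _
  · rw [h]
    refine (Nat.coprime_primes D.vp Nat.prime_three).2 ?_
    rintro rfl
    have h1 : ((3 : ℕ) : ℤ) ∣ u := Int.natCast_dvd_natCast.2 D.vu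
    rcases D.hX with h2 | h2 <;> omega

theorem E6Dat.not_syl (D : E6Dat v u g X S) [Finite S] (x : S) : ¬ v ^ (Nat.card S).factorization v ∣ orderOf x := by
  intro hd
  have h0 : ((v ^ 36 : ℕ) : ℤ) ∣ (g : ℤ) * (Nat.card S : ℕ) := by
    rw [D.card]
    refine Dvd.dvd.mul_right ?_ _
    push_cast
    exact pow_dvd_pow_of_dvd (Int.natCast_dvd_natCast.2 D.vu) 36
  have h1 : v ^ 36 ∣ Nat.card S := by
    refine (Nat.Coprime.pow_left 36 D.v_cop).dvd_of_dvd_mul_left ?_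
    exact_mod_cast h0
  have h2 := (D.vp.pow_dvd_iff_le_factorization Nat.card_pos.ne').1 h1
  obtain ⟨b, n, O⟩ := D.up x
  rw [O.eq] at hd
  have h3 : v ^ (Nat.card S).factorization v ∣ v ^ b :=
    (Nat.Coprime.pow_left _ ((Nat.Prime.coprime_iff_not_dvd D.vp).2 O.nd)).dvd_of_dvd_mul_right hd
  have h4 := (Nat.pow_dvd_pow_iff_le_right D.vp.one_lt).1 h3
  have h5 := O.le (by omega)
  have h6 : v ^ 4 ≤ v ^ (b - 1) := Nat.pow_le_pow_right D.vp.pos (by omega)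
  have h7 : 2 ^ 4 ≤ v ^ 4 := Nat.pow_le_pow_left D.vp.two_le 4
  omega

/-- a cyclic Sylow subgroup -/
theorem E6Dat.cyc (D : E6Dat v u g X S) [Finite S] {y : ℕ} (hy : y.Prime) (hy2 : y ≠ 2) (hyS : y ∣ Nat.card S)
    (hyv : y ≠ v) (hx : ∃ x : S, y ^ (Nat.card S).factorization y ∣ orderOf x) :
    5 ≤ y ∧ (((y : ℤ) ∣ X ^ 4 + X ^ 3 + X ^ 2 + X + 1 ∧ ¬ (y : ℤ) ∣ X - 1) ∨ Cl y X) := by
  obtain ⟨x, hx⟩ := hx
  have hn0 : Nat.card S ≠ 0 := Nat.card_pos.ne'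
  have hg0 : g ≠ 0 := by rcases D.g13 with h | h <;> omega
  have hyp := Nat.prime_iff_prime_int.1 hy
  obtain ⟨b, n, O⟩ := D.up x
  have hya : y ∣ y ^ (Nat.card S).factorization y := by
    have h3 := (hy.pow_dvd_iff_le_factorization hn0).1 (show y ^ 1 ∣ Nat.card S by rwa [pow_one])
    exact dvd_pow_self y (by omega)
  have h1 : ((y ^ (Nat.card S).factorization y : ℕ) : ℤ) ∣ n := by
    rw [O.eq] at hx
    exact Int.natCast_dvd_natCast.2
      ((Nat.Coprime.pow_left _ (Nat.Coprime.pow_right _ ((Nat.coprime_primes hy D.vp).2 hyv))).dvd_of_dvd_mul_left hx)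
  have hfac : ∀ {F₁ F₂ R : ℤ}, (X ^ 2 - 1) * (X ^ 5 - 1) * (X ^ 6 - 1) * (X ^ 8 - 1) * (X ^ 9 - 1) * (X ^ 12 - 1) =
      F₁ * F₂ * R → ((y ^ (Nat.card S).factorization y : ℕ) : ℤ) ∣ F₁ → ((g : ℤ) * y) ∣ F₂ → False := by
    intro F₁ F₂ R h2 h3 h4
    refine fact3 hy hn0 hg0 ?_ h3 h4
    rw [D.card, h2]
    exact ⟨u ^ 36 * R, by ring⟩
  generalize (Nat.card S).factorization y = N at *
  have hyaz : (y : ℤ) ∣ ((y ^ N : ℕ) : ℤ) := Int.natCast_dvd_natCast.2 hya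
  have hyn : (y : ℤ) ∣ n := hyaz.trans h1
  have hgX2 : (g : ℤ) ∣ X ^ 2 - 1 := D.gX.trans ⟨X + 1, by ring⟩
  have rem : ∀ {P Q : ℤ}, ¬ (y : ℤ) ∣ Q → ((y ^ N : ℕ) : ℤ) ∣ P * Q → ((y ^ N : ℕ) : ℤ) ∣ P := by
    intro P Q hQ hPQ
    refine (cop_int fun r hr hrk => ?_).dvd_of_dvd_mul_right hPQ
    have := (Nat.prime_dvd_prime_iff_eq hr hy).1 (hr.dvd_of_dvd_pow hrk)
    rw [this]
    exact hQ
  have k12 : ∀ {F : ℤ}, F ∣ X ^ 12 - 1 → ((y ^ N : ℕ) : ℤ) ∣ F → ((y : ℤ) ∣ X ^ 6 - 1 ∨ (y : ℤ) ∣ X ^ 8 - 1) →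
      False := by
    intro F hF h2 h3
    refine hfac (F₁ := X ^ 12 - 1) (F₂ := (X ^ 2 - 1) * ((X ^ 6 - 1) * (X ^ 8 - 1))) (R := (X ^ 5 - 1) * (X ^ 9 - 1))
      (by ring) (h2.trans hF) (mul_dvd_mul hgX2 ?_)
    rcases h3 with h3 | h3
    · exact h3.mul_right _
    · exact h3.mul_left _
  have k2 : ((y ^ N : ℕ) : ℤ) ∣ X ^ 2 - 1 → False := fun h2 =>
    k12 (F := X ^ 2 - 1) ⟨X ^ 10 + X ^ 8 + X ^ 6 + X ^ 4 + X ^ 2 + 1, by ring⟩ h2
      (Or.inl ((hyaz.trans h2).trans (d2_6 X)))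
  have k6 : ∀ {F : ℤ}, F ∣ X ^ 6 - 1 → ((y ^ N : ℕ) : ℤ) ∣ F → False := fun {F} hF h2 =>
    k12 (F := F) (hF.trans ⟨X ^ 6 + 1, by ring⟩) h2 (Or.inl ((hyaz.trans h2).trans hF))
  have k5 : ((y ^ N : ℕ) : ℤ) ∣ X ^ 5 - 1 → (y : ℤ) ∣ X - 1 → False := by
    intro h2 h3
    exact hfac (F₁ := X ^ 5 - 1) (F₂ := (X ^ 2 - 1) * (X ^ 6 - 1)) (R := (X ^ 8 - 1) * (X ^ 9 - 1) * (X ^ 12 - 1))
      (by ring) h2 (mul_dvd_mul hgX2 (h3.trans ⟨X ^ 5 + X ^ 4 + X ^ 3 + X ^ 2 + X + 1, by ring⟩))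
  have k9 : ((y ^ N : ℕ) : ℤ) ∣ X ^ 6 + X ^ 3 + 1 → (y : ℤ) ∣ X ^ 6 - 1 → False := by
    intro h2 h3
    exact hfac (F₁ := X ^ 9 - 1) (F₂ := (X ^ 2 - 1) * (X ^ 6 - 1)) (R := (X ^ 5 - 1) * (X ^ 8 - 1) * (X ^ 12 - 1))
      (by ring) (h2.trans ⟨X ^ 3 - 1, by ring⟩) (mul_dvd_mul hgX2 h3)
  have main : ((y : ℤ) ∣ X ^ 4 + X ^ 3 + X ^ 2 + X + 1 ∧ ¬ (y : ℤ) ∣ X - 1) ∨ (y : ℤ) ∣ X ^ 4 + 1 ∨
      (y : ℤ) ∣ X ^ 4 - X ^ 2 + 1 ∨ ((y : ℤ) ∣ X ^ 6 + X ^ 3 + 1 ∧ ((y ^ N : ℕ) : ℤ) ∣ X ^ 6 + X ^ 3 + 1) := by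
    have e5 : X ^ 5 - 1 = (X - 1) * (X ^ 4 + X ^ 3 + X ^ 2 + X + 1) := by ring
    by_cases hb : b = 0
    · rcases O.s0 with h0 | h0 | h0 | h0 | h0 | h0
      · by_cases h8 : (y : ℤ) ∣ X ^ 4 + 1
        · exact Or.inr (Or.inl h8)
        · rw [mul_comm] at h0
          exact (k2 (rem h8 (h1.trans h0))).elim
      · by_cases hx1 : (y : ℤ) ∣ X - 1
        · exfalso
          have hx2 : ¬ (y : ℤ) ∣ X + 1 := by
            intro h2
            have h3 := dvd_sub h2 hx1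
            have e : X + 1 - (X - 1) = ((2 : ℕ) : ℤ) := by push_cast; ring
            rw [e] at h3
            exact hy2 ((Nat.prime_dvd_prime_iff_eq hy Nat.prime_two).1 (Int.natCast_dvd_natCast.1 h3))
          exact k5 (rem hx2 (h1.trans h0)) hx1
        · by_cases h5 : (y : ℤ) ∣ X ^ 4 + X ^ 3 + X ^ 2 + X + 1
          · exact Or.inl ⟨h5, hx1⟩
          · exfalso
            have e : (X ^ 5 - 1) * (X + 1) = (X ^ 2 - 1) * (X ^ 4 + X ^ 3 + X ^ 2 + X + 1) := by ring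
            rw [e] at h0
            exact k2 (rem h5 (h1.trans h0))
      · exfalso
        refine k12 (F := (X ^ 4 - 1) * (X ^ 2 - X + 1)) ⟨(X ^ 2 + X + 1) * (X ^ 4 - X ^ 2 + 1), by ring⟩ (h1.trans h0) ?_
        rcases hyp.dvd_or_dvd (hyn.trans h0) with h2 | h2
        · exact Or.inr (h2.trans ⟨X ^ 4 + 1, by ring⟩)
        · exact Or.inl (h2.trans ⟨(X + 1) * (X ^ 3 - 1), by ring⟩)
      · exact (k6 dvd_rfl (h1.trans h0)).elim
      · by_cases h12 : (y : ℤ) ∣ X ^ 4 - X ^ 2 + 1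
        · exact Or.inr (Or.inr (Or.inl h12))
        · rw [mul_comm] at h0
          exact (k6 (d3_6 X) (rem h12 (h1.trans h0))).elim
      · exact Or.inr (Or.inr (Or.inr ⟨hyn.trans h0, h1.trans h0⟩))
    · rcases O.s1 hb with h0 | h0 | h0 | h0 | h0
      · exact (k6 (F := (X ^ 3 - 1) * (X + 1)) ⟨X ^ 2 - X + 1, by ring⟩ (h1.trans h0)).elim
      · exact (k12 (F := X ^ 4 - 1) ⟨X ^ 8 + X ^ 4 + 1, by ring⟩ (h1.trans h0)
          (Or.inr ((hyn.trans h0).trans ⟨X ^ 4 + 1, by ring⟩))).elim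
      · by_cases hx1 : (y : ℤ) ∣ X - 1
        · exact (k5 (h1.trans h0) hx1).elim
        · have h2 := hyn.trans h0
          rw [e5] at h2
          rcases hyp.dvd_or_dvd h2 with h3 | h3
          · exact absurd h3 hx1
          · exact Or.inl ⟨h3, hx1⟩
      · exact (k6 (F := (X ^ 3 + 1) * (X ^ 2 + X + 1)) ⟨X - 1, by ring⟩ (h1.trans h0)).elim
      · exact (k6 (F := (X ^ 3 + 1) * (X - 1)) ⟨X ^ 2 + X + 1, by ring⟩ (h1.trans h0)).elim
  have h3 : y ≠ 3 := by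
    rintro rfl
    have hX3 : X % 3 = 0 ∨ X % 3 = 1 ∨ X % 3 = 2 := by omega
    rcases main with ⟨h2, -⟩ | h2 | h2 | ⟨h2, h3⟩
    · have h4 := Int.emod_eq_zero_of_dvd h2
      rcases hX3 with h | h | h <;> simp [pow_succ, Int.add_emod, Int.mul_emod, h] at h4
    · have h4 := Int.emod_eq_zero_of_dvd h2
      rcases hX3 with h | h | h <;> simp [pow_succ, Int.add_emod, Int.mul_emod, h] at h4
    · have h4 := Int.emod_eq_zero_of_dvd h2
      rcases hX3 with h | h | h <;> simp [pow_succ, Int.add_emod, Int.sub_emod, Int.mul_emod, h] at h4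
    · have h4 := Int.emod_eq_zero_of_dvd h2
      rcases hX3 with h | h | h
      · simp [pow_succ, Int.add_emod, Int.mul_emod, h] at h4
      · refine k9 h3 (Int.dvd_of_emod_eq_zero ?_)
        simp [pow_succ, Int.sub_emod, Int.mul_emod, h]
      · simp [pow_succ, Int.add_emod, Int.mul_emod, h] at h4
  have h5 : 5 ≤ y := by
    have := hy.two_le
    have : y ≠ 4 := by rintro rfl; norm_num at hy
    omega
  refine ⟨h5, ?_⟩
  rcases main with h2 | h2 | h2 | ⟨h2, -⟩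
  · exact Or.inl h2
  · exact Or.inr (Or.inl h2)
  · exact Or.inr (Or.inr (Or.inl h2))
  · exact Or.inr (Or.inr (Or.inr h2))

/-- **State II.** -/
theorem e6_II (h : SX p q k A k' B m i W S) (hg : Good W m i) (D : E6Dat v u g X S) (hvp : v ≠ p) (hu : 8 ≤ u)
    (hF : ∀ w : ℕ, w.Prime → 5 ≤ w → F1.FldDat v w S) (hw : ∃ w : ℕ, w.Prime ∧ w ∣ k' ∧ w ∣ m * i)
    (h2 : ∀ r : ℕ, r.Prime → (r ∣ (q ^ 2 + 1) / 2 ∨ r = p) → ¬ r ∣ m ∧ ¬ r ∣ i) : False := by
  have := h.fin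
  obtain ⟨w, hwp, hwk, hwmi⟩ := hw
  have hw7 := SX.prime h hwp (Or.inr hwk)
  have hwm : w ∣ m := by
    rcases hwp.dvd_mul.1 hwmi with h3 | h3
    · exact h3
    · exact (SX.noFld h hwp hwk h3 h2 (hF w hwp (by omega))).elim
  have hz25 := z_ge h.lw
  have hp3 := h.lw.p3
  have hvpz : ¬ v ∣ p * ((q ^ 2 + 1) / 2) := by
    intro hd
    rcases D.vp.dvd_mul.1 hd with h3 | h3
    · exact hvp ((Nat.prime_dvd_prime_iff_eq D.vp h.lw.pp).1 h3)
    · obtain ⟨x, hx⟩ := SX.cyc h hwp hwk hwm D.vp (Or.inl h3)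
      exact D.not_syl x hx
  obtain ⟨x, hx⟩ := SX.pzS h h2
  -- the classes of the primes of `p z`
  have hcl : ∀ y : ℕ, y.Prime → y ∣ p * ((q ^ 2 + 1) / 2) →
      5 ≤ y ∧ (((y : ℤ) ∣ X ^ 4 + X ^ 3 + X ^ 2 + X + 1 ∧ ¬ (y : ℤ) ∣ X - 1) ∨ Cl y X) := by
    intro y hy hyd
    have hyz : y ∣ (q ^ 2 + 1) / 2 ∨ y = p := by
      rcases hy.dvd_mul.1 hyd with h3 | h3
      · exact Or.inr ((Nat.prime_dvd_prime_iff_eq hy h.lw.pp).1 h3)
      · exact Or.inl h3
    have hyS : y ∣ Nat.card S := h.dvd_card hy (h.W_prime hy (by tauto)) (h2 y hy hyz).1 (h2 y hy hyz).2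
    have hy2 : y ≠ 2 := by
      rcases hyz with hyz | rfl
      · have := (h.lw.side.z_prime h.lw.q2 hy hyz).1
        omega
      · omega
    have hyv : y ≠ v := by
      rintro rfl
      exact hvpz hyd
    exact D.cyc hy hy2 hyS hyv (SX.cyc h hwp hwk hwm hy hyz)
  have c2 : IsCoprime ((p * ((q ^ 2 + 1) / 2) : ℕ) : ℤ) (X ^ 2 - 1) := by
    refine cop_int fun y hy hyd hd => ?_
    obtain ⟨h5, h6 | h6⟩ := hcl y hy hyd
    · have e : X ^ 2 - 1 = (X - 1) * (X + 1) := by ring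
      rw [e] at hd
      rcases (Nat.prime_iff_prime_int.1 hy).dvd_or_dvd hd with h7 | h7
      · exact h6.2 h7
      · have h8 := dvd_sub h6.1 (h7.mul_right (X ^ 3 + X))
        have e : X ^ 4 + X ^ 3 + X ^ 2 + X + 1 - (X + 1) * (X ^ 3 + X) = 1 := by ring
        rw [e] at h8
        have := Int.le_of_dvd (by norm_num) h8
        omega
    · exact h6.n6 hy h5 (hd.trans (d2_6 X))
  have n6 : ∀ y : ℕ, y.Prime → y ∣ p * ((q ^ 2 + 1) / 2) → ¬ (y : ℤ) ∣ X ^ 6 - 1 := by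
    intro y hy hyd hd
    obtain ⟨h5, h6 | h6⟩ := hcl y hy hyd
    · have h8 := dvd_sub hd (h6.1.mul_right (X * (X - 1)))
      have e : X ^ 6 - 1 - (X ^ 4 + X ^ 3 + X ^ 2 + X + 1) * (X * (X - 1)) = X - 1 := by ring
      rw [e] at h8
      exact h6.2 h8
    · exact h6.n6 hy h5 hd
  have n4 : ∀ y : ℕ, y.Prime → y ∣ p * ((q ^ 2 + 1) / 2) → ¬ (y : ℤ) ∣ (X ^ 4 - 1) * (X ^ 2 - X + 1) := by
    intro y hy hyd hd
    obtain ⟨h5, h6 | h6⟩ := hcl y hy hyd
    · rcases (Nat.prime_iff_prime_int.1 hy).dvd_or_dvd hd with h7 | h7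
      · have h8 := dvd_sub (h6.1.mul_right (X - 1)) (h7.mul_right X)
        have e : (X ^ 4 + X ^ 3 + X ^ 2 + X + 1) * (X - 1) - (X ^ 4 - 1) * X = X - 1 := by ring
        rw [e] at h8
        exact h6.2 h8
      · exact n6 y hy hyd (h7.trans ⟨(X + 1) * (X ^ 3 - 1), by ring⟩)
    · exact h6.n4 hy h5 hd
  have cg : (p * ((q ^ 2 + 1) / 2)).Coprime g := D.cop fun r hr hrk => (hcl r hr hrk).1
  have hpz0 : 0 < ((p * ((q ^ 2 + 1) / 2) : ℕ) : ℤ) := by
    have : 0 < p * ((q ^ 2 + 1) / 2) := Nat.mul_pos (by omega) (by omega)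
    exact_mod_cast this
  -- a torus which is too large
  have kill : ∀ {F P : ℤ}, (∃ x : S, (g : ℤ) * (orderOf x : ℕ) = F * P) → 0 < F →
      ((p * ((q ^ 2 + 1) / 2) : ℕ) : ℤ) ∣ F → 6 < P → False := by
    rintro F P ⟨x, hx⟩ hF0 hF hP
    obtain ⟨κ, hκ, h3, -⟩ := SX.pzD h ⟨x, rfl⟩ (liftN cg hx (hF.mul_right _))
    have h4 := Int.le_of_dvd hF0 hF
    have h5 : (g : ℤ) * (κ * ((p * ((q ^ 2 + 1) / 2) : ℕ) : ℤ)) = F * P := by
      rw [← hx, h3]
      push_cast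
      ring
    have h6 : (g : ℤ) * (κ * ((p * ((q ^ 2 + 1) / 2) : ℕ) : ℤ)) ≤ 6 * ((p * ((q ^ 2 + 1) / 2) : ℕ) : ℤ) := by
      have h7 : (g : ℤ) * κ ≤ 6 := by
        rcases D.g13 with h | h <;> rcases hκ with h' | h' <;> rw [h, h'] <;> norm_num
      calc (g : ℤ) * (κ * ((p * ((q ^ 2 + 1) / 2) : ℕ) : ℤ)) = (g * κ) * ((p * ((q ^ 2 + 1) / 2) : ℕ) : ℤ) := by ring
        _ ≤ _ := mul_le_mul_of_nonneg_right h7 hpz0.le
    nlinarith
  have hu8 : (8 : ℤ) ≤ u := by exact_mod_cast hu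
  have hX2 : 64 ≤ X ^ 2 := by rcases D.hX with h | h <;> rw [h] <;> nlinarith
  have hX3 : 6 < X ^ 2 + X + 1 := by rcases D.hX with h | h <;> rw [h] <;> nlinarith
  obtain ⟨b, n, O⟩ := D.up x
  rw [hx] at O
  have hb : b = 0 := by
    by_contra hb
    exact hvpz (by rw [O.eq]; exact (dvd_pow_self v hb).mul_right _)
  have hn : p * ((q ^ 2 + 1) / 2) = n := by rw [O.eq, hb, pow_zero, one_mul]
  have h0 := O.s0
  rw [← hn] at h0
  obtain ⟨y, hy, hyz⟩ := Nat.exists_prime_and_dvd (show (q ^ 2 + 1) / 2 ≠ 1 by omega)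
  have hyd : y ∣ p * ((q ^ 2 + 1) / 2) := hyz.mul_left _
  have hyd' : (y : ℤ) ∣ ((p * ((q ^ 2 + 1) / 2) : ℕ) : ℤ) := Int.natCast_dvd_natCast.2 hyd
  rcases h0 with h0 | h0 | h0 | h0 | h0 | h0
  · exact kill D.ex8 (by positivity) (c2.dvd_of_dvd_mul_right h0) (by linarith)
  · have e : (X ^ 5 - 1) * (X + 1) = (X ^ 4 + X ^ 3 + X ^ 2 + X + 1) * (X ^ 2 - 1) := by ring
    rw [e] at h0
    have h5 := D.ex5
    rw [e] at h5
    refine kill h5 ?_ (c2.dvd_of_dvd_mul_right h0) (by linarith)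
    nlinarith [sq_nonneg (2 * X ^ 2 + X), sq_nonneg (X + 2)]
  · exact n4 y hy hyd (hyd'.trans h0)
  · exact n6 y hy hyd (hyd'.trans h0)
  · have c3 : IsCoprime ((p * ((q ^ 2 + 1) / 2) : ℕ) : ℤ) (X ^ 2 + X + 1) :=
      cop_int fun r hr hrk hd => n6 r hr hrk (hd.trans (d3_6 X))
    exact kill D.ex12 (by nlinarith [sq_nonneg (X ^ 2)]) (c3.dvd_of_dvd_mul_right h0) hX3
  · -- the torus of `k`
    have h9 := e6_k9 h hg D
    have hk7 : ∀ r : ℕ, r.Prime → r ∣ k → 7 ≤ r := fun r hr hrk => SX.prime h hr (Or.inl hrk)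
    have hcg : k.Coprime g := D.cop fun r hr hrk => by have := hk7 r hr hrk; omega
    obtain ⟨t, ht⟩ := D.ex9
    have hkT := liftN hcg ht h9
    have hpT := liftN cg ht h0
    obtain ⟨s, hs, hsk⟩ := Nat.exists_prime_and_dvd h.lw.k_pos.1.ne'
    exact h.lw.naz hs (Or.inl hsk) h.lw.pp (Or.inr rfl) (h.WS t) (hsk.trans hkT) ((dvd_mul_right _ _).trans hpT)

/-- both rows -/
theorem row_e6Dat (h : SX p q k A k' B m i W S) (hg : Good W m i) (D : E6Dat v u g X S) (hvp : v ≠ p)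
    (hF : ∀ w : ℕ, w.Prime → 5 ≤ w → F1.FldDat v w S) : False := by
  have hu := e6_u8 h hg D hvp
  rcases h.dich with h1 | ⟨hw, h2⟩
  · exact e6_I h hg D hu h1
  · exact e6_II h hg D hvp hu hF hw h2

/-- **Row `E₆(u)`.** -/
theorem row_e6 {v f : ℕ} (h : SX p q k A k' B m i W S) (hg : Good W m i) (hI : Fam.Is v f S Fam.e6) (hv : v.Prime)
    (hvp : v ≠ p) : False := by
  have hF : ∀ w : ℕ, w.Prime → 5 ≤ w → F1.FldDat v w S := fun w hw hw5 =>
    fldDat_exc (t := Fam.e6) trivial hv hI hw hw5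
  obtain ⟨F, _, _, _, hcard, ⟨e⟩⟩ := hI
  have hf := f_pos_of_card (n := 1) (by rw [hcard, pow_one])
  exact row_e6Dat h hg ((e6Dat hv hcard hf).congr e) hvp hF

/-- **Row `²E₆(u)`.** -/
theorem row_te6 {v f : ℕ} (h : SX p q k A k' B m i W S) (hg : Good W m i) (hI : Fam.Is v f S Fam.te6) (hv : v.Prime)
    (hvp : v ≠ p) : False := by
  have hF : ∀ w : ℕ, w.Prime → 5 ≤ w → F1.FldDat v w S := fun w hw hw5 =>
    fldDat_exc (t := Fam.te6) trivial hv hI hw hw5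
  obtain ⟨F, _, _, _, hcard, ⟨e⟩⟩ := hI
  exact row_e6Dat h hg ((te6Dat hv hcard (f_pos_of_card hcard)).congr e) hvp hF

end

end Cfsg.Agent.R2.Spec.X4.H18
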