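import Cfsg.Agent.R2.Spec.X4.H18.TF4Dat

/-!
# Box X4 of S3435 : row `²F₄(2b²)` (helper18)
-/

set_option autoImplicit false
set_option linter.unusedVariables false
set_option linter.unusedSimpArgs false
set_option linter.unnecessarySeqFocus false

namespace Cfsg.Agent.R2.Spec.X4.H18

open Cfsg Cfsg.Agent.H426.LieFam

universe u

section

variable {p q k A k' B m i : ℕ} {W : ℕ → Prop} {S : Type u} [Group S] {b : ℕ}

/-- the parity argument -/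
theorem par_kill (h : LW p q k A k' B W) {T D c : ℕ} {α β κ : ℤ} (hc : A = c * T) (hD : D ∣ B) (hκ : 0 ≤ κ)
    (hpar : (κ + α) % 2 = 1) (hid : α * T + β * D = κ) (h2 : c * κ + |α| < D) : False := by
  have hAo := h.side.A_odd
  have hco : c % 2 = 1 := by
    by_contra hcon
    have h2 : c % 2 = 0 := by omega
    rw [hc, Nat.mul_mod, h2, zero_mul] at hAo
    simp at hAo
  obtain ⟨d, hd⟩ : ∃ d : ℤ, (c : ℤ) = 2 * d + 1 := ⟨(c : ℤ) / 2, by omega⟩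
  rcases kill_eq h hc hD hκ (α := α) ⟨-β, by linear_combination hid⟩ h2 with ⟨-, h3⟩ | ⟨-, h3⟩
  · rw [hd] at h3
    have : κ + α = 2 * (d * κ + κ) := by linear_combination -h3
    omega
  · rw [hd] at h3
    have : κ + α = 2 * (-(d * κ)) := by linear_combination h3
    omega

theorem k'_le (h : LW p q k A k' B W) : k' ≤ 4 * k := by
  have h1 := (h.side.k_le h.q2).2
  have h2 := (h.side.k_ge h.q2).1
  have hq := h.q7
  have hqq : q ≤ q ^ 2 := Nat.le_self_pow two_ne_zero q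
  obtain ⟨t, rfl⟩ : ∃ t, q = t + 7 := ⟨q - 7, by omega⟩
  have h3 : 3 * (t + 7) ^ 2 + 3 * (t + 7) + 3 + 4 * (t + 7) ≤ 4 * (t + 7) ^ 2 + 4 := by nlinarith
  omega

theorem TF4Dat.b2 (D : TF4Dat b S) : 2 ≤ b := by
  obtain ⟨a, ha, rfl⟩ := D.hb
  calc 2 = 2 ^ 1 := by norm_num
    _ ≤ 2 ^ a := Nat.pow_le_pow_right (by norm_num) ha

theorem TF4Dat.even (D : TF4Dat b S) : (b : ℤ) % 2 = 0 := by
  obtain ⟨a, ha, rfl⟩ := D.hb
  have : 2 ∣ 2 ^ a := dvd_pow_self 2 (by omega)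
  omega

theorem TF4Dat.three (D : TF4Dat b S) : (b : ℤ) ^ 2 % 3 = 1 := by
  obtain ⟨a, ha, rfl⟩ := D.hb
  have h : (2 ^ a) ^ 2 % 3 = 1 := by rw [← pow_mul, mul_comm, pow_mul, Nat.pow_mod]; norm_num
  have : (((2 ^ a) ^ 2 % 3 : ℕ) : ℤ) = 1 := by rw [h]; rfl
  push_cast at this ⊢
  exact this

theorem TF4Dat.not_b (D : TF4Dat b S) {r : ℕ} (hr : r.Prime) (h2 : r ≠ 2) : ¬ (r : ℤ) ∣ 2 * (b : ℤ) ^ 2 := by
  obtain ⟨a, ha, rfl⟩ := D.hb
  intro h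
  have h1 : r ∣ 2 * (2 ^ a) ^ 2 := by exact_mod_cast h
  rw [← pow_mul, ← pow_succ'] at h1
  exact h2 ((Nat.prime_dvd_prime_iff_eq hr Nat.prime_two).1 (hr.dvd_of_dvd_pow h1))

theorem TF4Dat.b48 (D : TF4Dat b S) : b = 2 ∨ b = 4 ∨ 8 ≤ b := by
  obtain ⟨a, ha, rfl⟩ := D.hb
  rcases (by omega : a = 1 ∨ a = 2 ∨ 3 ≤ a) with rfl | rfl | h
  · left; rfl
  · right; left; rfl
  · right; right
    calc 8 = 2 ^ 3 := by norm_num
      _ ≤ 2 ^ a := Nat.pow_le_pow_right (by norm_num) h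

/-- the classes -/
theorem TF4Dat.cover (D : TF4Dat b S) {r : ℕ} (hr : r.Prime) (h2 : r ≠ 2) (hd : r ∣ Nat.card S) :
    (r : ℤ) ∣ 2 * (b : ℤ) ^ 2 - 1 ∨ (r : ℤ) ∣ 2 * (b : ℤ) ^ 2 + 1 ∨ (r : ℤ) ∣ t2 b ∨ (r : ℤ) ∣ t2 (-b) ∨
      (r : ℤ) ∣ t6 b ∨ (r : ℤ) ∣ t4 b ∨ (r : ℤ) ∣ t4 (-b) := by
  have hr' := Nat.prime_iff_prime_int.1 hr
  have h1 : (r : ℤ) ∣ ((Nat.card S : ℕ) : ℤ) := Int.natCast_dvd_natCast.2 hd
  rw [D.card] at h1
  have e : (2 * (b : ℤ) ^ 2) ^ 12 * ((2 * (b : ℤ) ^ 2 - 1) * ((2 * (b : ℤ) ^ 2) ^ 3 + 1) *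
      ((2 * (b : ℤ) ^ 2) ^ 4 - 1) * ((2 * (b : ℤ) ^ 2) ^ 6 + 1)) = (2 * (b : ℤ) ^ 2) ^ 12 * ((2 * (b : ℤ) ^ 2 - 1) *
      ((2 * (b : ℤ) ^ 2 + 1) * t6 b) * ((2 * (b : ℤ) ^ 2 - 1) * (2 * (b : ℤ) ^ 2 + 1) * t2 b * t2 (-b)) *
      (t2 b * t2 (-b) * t4 b * t4 (-b))) := by
    unfold t2 t4 t6; ring
  rw [e] at h1
  have h0 : ¬ (r : ℤ) ∣ (2 * (b : ℤ) ^ 2) ^ 12 := fun h => D.not_b hr h2 (hr'.dvd_of_dvd_pow h)
  simp only [hr'.dvd_mul] at h1 h0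
  tauto

/-- an order whose primes are of type `6` -/
theorem TF4Dat.six (D : TF4Dat b S) (x : S) (h : ∀ r : ℕ, r.Prime → r ∣ orderOf x → r ≠ 2 ∧
    ¬ (r : ℤ) ∣ 2 * (b : ℤ) ^ 2 - 1 ∧ ¬ (r : ℤ) ∣ 2 * (b : ℤ) ^ 2 + 1 ∧ ¬ (r : ℤ) ∣ t2 b ∧ ¬ (r : ℤ) ∣ t2 (-b) ∧
    ¬ (r : ℤ) ∣ t4 b ∧ ¬ (r : ℤ) ∣ t4 (-b)) : ((orderOf x : ℕ) : ℤ) ∣ t6 b := by
  have h1 : ((orderOf x : ℕ) : ℤ) ∣ ((Nat.card S : ℕ) : ℤ) := Int.natCast_dvd_natCast.2 (orderOf_dvd_natCard x)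
  have e : ((Nat.card S : ℕ) : ℤ) = t6 b * ((2 * (b : ℤ) ^ 2) ^ 12 * ((2 * (b : ℤ) ^ 2 - 1) *
      (2 * (b : ℤ) ^ 2 + 1) * ((2 * (b : ℤ) ^ 2 - 1) * (2 * (b : ℤ) ^ 2 + 1) * t2 b * t2 (-b)) *
      (t2 b * t2 (-b) * t4 b * t4 (-b)))) := by
    rw [D.card]
    unfold t2 t4 t6; ring
  rw [e] at h1
  refine (cop_int fun r hr hrx hd => ?_).dvd_of_dvd_mul_right h1
  obtain ⟨a0, a1, a2, a3, a4, a5, a6⟩ := h r hr hrx
  have hr' := Nat.prime_iff_prime_int.1 hr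
  have h0 : ¬ (r : ℤ) ∣ (2 * (b : ℤ) ^ 2) ^ 12 := fun h => D.not_b hr a0 (hr'.dvd_of_dvd_pow h)
  simp only [hr'.dvd_mul] at hd h0
  tauto

/-- the class of `k` -/
theorem tf4_k (h : SX p q k A k' B m i W S) (hg : Good W m i) (D : TF4Dat b S) :
    (k : ℤ) ∣ t6 b ∨ ∃ X : ℤ, (X = b ∨ X = -b) ∧ (k : ℤ) ∣ t4 X := by
  obtain ⟨x, hx⟩ := h.kS hg
  by_cases h1 : ∃ X : ℤ, (X = b ∨ X = -b) ∧ ∃ r : ℕ, r.Prime ∧ r ∣ k ∧ (r : ℤ) ∣ t4 X
  · right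
    obtain ⟨X, hX, r, hr, hrk, hrX⟩ := h1
    refine ⟨X, hX, ?_⟩
    rw [← hx]
    exact D.cc X hX x r hr (by rw [hx]; exact hrk) hrX
  · left
    push Not at h1
    rw [← hx]
    refine D.six x fun r hr hrx => ?_
    rw [hx] at hrx
    have hr7 := SX.prime h hr (Or.inl hrx)
    have hgk := h.good_k hg hr hrx
    have hdS := h.dvd_card hr (h.W_prime hr (Or.inl hrx)) hgk.1 hgk.2
    obtain ⟨a1, a2, a3, a4⟩ := D.near r hr (by omega) hdS (h.twoS hr hrx)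
    exact ⟨by omega, a1, a2, a3, a4, h1 b (Or.inl rfl) r hr hrx, h1 (-b) (Or.inr rfl) r hr hrx⟩

set_option synthInstance.maxHeartbeats 200000 in
set_option synthInstance.maxSize 2000 in
/-- small `b` -/
theorem tf4_smalla : ∀ q < 60, q % 4 = 3 → 7 ≤ q → ∀ N ∈ [57, 109, 37, 793], (q ^ 2 + q + 1) ∣ 3 * N →
    q = 7 ∧ N = 57 := by
  decide +kernel

set_option synthInstance.maxHeartbeats 200000 in
set_option synthInstance.maxSize 2000 in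
/-- small `b` -/
theorem tf4_smallb : ∀ q < 60, q % 4 = 1 → 7 ≤ q → ∀ N ∈ [57, 109, 37, 793], ¬ (q ^ 2 - q + 1) ∣ 3 * N := by
  decide +kernel

theorem tf4_N (h : SX p q k A k' B m i W S) {N : ℕ} (hN : N ∈ [57, 109, 37, 793]) (hk : k ∣ N) :
    q = 7 ∧ N = 57 := by
  have hN3 : 3 * N < 2400 := by
    simp only [List.mem_cons, List.not_mem_nil, or_false] at hN
    omega
  have hN0 : 0 < N := by
    simp only [List.mem_cons, List.not_mem_nil, or_false] at hN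
    omega
  have hqq : q ≤ q ^ 2 := Nat.le_self_pow two_ne_zero q
  have hq7 := h.lw.q7
  rcases h.lw.side.cof h.lw.q2 with ⟨h1, h2, -⟩ | ⟨h1, -, h2⟩
  · have h3 : q ^ 2 + q + 1 ∣ 3 * N := by
      rcases h2 with h2 | ⟨h2, -⟩
      · rw [← h2]; exact hk.mul_left 3
      · rw [← h2]; exact mul_dvd_mul_left 3 hk
    have h4 := Nat.le_of_dvd (by omega) h3
    have hq : q < 60 := by nlinarith
    exact tf4_smalla q hq h1 hq7 N hN h3
  · have h3 : q ^ 2 - q + 1 ∣ 3 * N := by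
      rcases h2 with h2 | ⟨h2, -⟩
      · rw [← h2]; exact hk.mul_left 3
      · rw [← h2]; exact mul_dvd_mul_left 3 hk
    have h4 := Nat.le_of_dvd (by omega) h3
    have hq : q < 60 := by
      have : q ^ 2 + 1 ≤ 2400 + q := by omega
      nlinarith
    exact absurd h3 (tf4_smallb q hq h1 hq7 N hN)

/-- **`b ≥ 4`**, and `b ≥ 8` for `t₋` -/
theorem tf4_b4 (h : SX p q k A k' B m i W S) (hg : Good W m i) (D : TF4Dat b S) :
    4 ≤ b ∧ ((k : ℤ) ∣ t4 (-b) → 8 ≤ b) := by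
  have hk' : ∀ {N : ℕ} {P : ℤ}, (k : ℤ) ∣ P → P = (N : ℤ) → k ∣ N := by
    rintro N P h rfl
    exact_mod_cast h
  rcases D.b48 with rfl | rfl | h8
  · exfalso
    have h57 : k ∣ 57 → False := by
      intro hk
      obtain ⟨rfl, -⟩ := tf4_N h (by simp) hk
      obtain ⟨z, hz⟩ := D.ex4 2 (Or.inl rfl)
      have hz' : orderOf z = 109 := by
        have : ((orderOf z : ℕ) : ℤ) = 109 := by rw [hz]; unfold t4; norm_num
        exact_mod_cast this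
      have h2 := h.lw.exp _ (h.WS z)
      have hp : p = 7 := (Nat.prime_dvd_prime_iff_eq h.lw.pp (by norm_num)).1 h.lw.p_dvd
      rw [hz', hp] at h2
      norm_num at h2
    rcases tf4_k h hg D with h1 | ⟨X, rfl | rfl, h1⟩
    · exact h57 (hk' h1 (by unfold t6; norm_num))
    · obtain ⟨-, h2⟩ := tf4_N h (N := 109) (by simp) (hk' h1 (by unfold t4; norm_num))
      omega
    · obtain ⟨-, h2⟩ := tf4_N h (N := 37) (by simp) (hk' h1 (by unfold t4; norm_num))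
      omega
  · refine ⟨le_rfl, fun h1 => ?_⟩
    obtain ⟨-, h2⟩ := tf4_N h (N := 793) (by simp) (hk' h1 (by unfold t4; norm_num))
    omega
  · exact ⟨by omega, fun _ => h8⟩

/-- the torus of a prime of `k'` -/
theorem tf4_cls (h : SX p q k A k' B m i W S) (D : TF4Dat b S) {r : ℕ} (hr : r.Prime) (hrk : r ∣ k')
    (hd : r ∣ Nat.card S) : ∃ N : ℕ, N ∣ B ∧ ((∃ X : ℤ, (X = b ∨ X = -b) ∧ ((N : ℤ) = (2 * X ^ 2 - 1) * t2 X ∨
      ((N : ℤ) = t4 X ∧ (r : ℤ) ∣ t4 X))) ∨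
      (N : ℤ) = (2 * (b : ℤ) ^ 2 - 1) * (2 * (b : ℤ) ^ 2 + 1) ∨ ((N : ℤ) = t6 b ∧ (r : ℤ) ∣ t6 b)) := by
  have hr7 := SX.prime h hr (Or.inr hrk)
  have key : ∀ {P : ℤ}, (∃ x : S, ((orderOf x : ℕ) : ℤ) = P) → (r : ℤ) ∣ P → ∃ N : ℕ, N ∣ B ∧ (N : ℤ) = P := by
    rintro P ⟨x, hx⟩ hP
    refine ⟨orderOf x, SX.dvdB h ⟨x, rfl⟩ hr hrk ?_, hx⟩
    rw [← hx] at hP
    exact_mod_cast hP
  rcases D.cover hr (by omega) hd with h1 | h1 | h1 | h1 | h1 | h1 | h1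
  · obtain ⟨N, h2, h3⟩ := key D.ex12 (h1.mul_right _)
    exact ⟨N, h2, Or.inr (Or.inl h3)⟩
  · obtain ⟨N, h2, h3⟩ := key D.ex12 (h1.mul_left _)
    exact ⟨N, h2, Or.inr (Or.inl h3)⟩
  · obtain ⟨N, h2, h3⟩ := key (D.ex1p b (Or.inl rfl)) (h1.mul_left _)
    exact ⟨N, h2, Or.inl ⟨b, Or.inl rfl, Or.inl h3⟩⟩
  · obtain ⟨N, h2, h3⟩ := key (D.ex1p (-b) (Or.inr rfl)) (h1.mul_left _)
    exact ⟨N, h2, Or.inl ⟨-b, Or.inr rfl, Or.inl h3⟩⟩
  · obtain ⟨N, h2, h3⟩ := key D.ex6 h1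
    exact ⟨N, h2, Or.inr (Or.inr ⟨h3, h1⟩)⟩
  · obtain ⟨N, h2, h3⟩ := key (D.ex4 b (Or.inl rfl)) h1
    exact ⟨N, h2, Or.inl ⟨b, Or.inl rfl, Or.inr ⟨h3, h1⟩⟩⟩
  · obtain ⟨N, h2, h3⟩ := key (D.ex4 (-b) (Or.inr rfl)) h1
    exact ⟨N, h2, Or.inl ⟨-b, Or.inr rfl, Or.inr ⟨h3, h1⟩⟩⟩

/-- the bound for `c` -/
theorem tf4_c (h : LW p q k A k' B W) {T c : ℕ} (hc : A = c * T) (hk : k ∣ T) (hT : T ≤ 6 * b ^ 4) : c < 8 * b ^ 2 := by
  have hA0 : 0 < A := by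
    have := h.side.A_odd
    omega
  have hT0 : 0 < T := by
    rcases Nat.eq_zero_or_pos T with h0 | h0
    · rw [h0, mul_zero] at hc
      omega
    · exact h0
  have hkT := Nat.le_of_dvd hT0 hk
  refine c_lt h hc hkT (M := 4 * T) ((k'_le h).trans (Nat.mul_le_mul_left 4 hkT)) ?_
  have e1 : T ^ 2 ≤ 36 * b ^ 8 := by
    calc T ^ 2 ≤ (6 * b ^ 4) ^ 2 := Nat.pow_le_pow_left hT 2
      _ = 36 * b ^ 8 := by ring
  have hb0 : 0 < b ^ 8 := by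
    rcases Nat.eq_zero_or_pos b with h0 | h0
    · rw [h0] at hT
      norm_num at hT
      omega
    · positivity
  calc 27 * (4 * T) ^ 3 = 1728 * T ^ 2 * T := by ring
    _ ≤ 1728 * (36 * b ^ 8) * T := Nat.mul_le_mul_right _ (Nat.mul_le_mul_left _ e1)
    _ < 65536 * b ^ 8 * T := by
      apply Nat.mul_lt_mul_of_pos_right ?_ hT0
      omega
    _ = 16 * (8 * b ^ 2) ^ 4 * T := by ring

theorem abs_lt' {α N D' L : ℤ} (h1 : -N ≤ α) (h2 : α ≤ N) (h3 : L + N < D') : L + |α| < D' := by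
  have : |α| ≤ N := abs_le.2 ⟨h1, h2⟩
  linarith

/-- `t₊` or `t₋`, and the torus `t6` -/
theorem tf4_46 (h : LW p q k A k' B W) {T N : ℕ} {X : ℤ} (hX : X = b ∨ X = -b) (hb : 4 ≤ b) (hTA : T ∣ A)
    (hk : k ∣ T) (hT : (T : ℤ) = t4 X) (hN : N ∣ B) (hN6 : (N : ℤ) = t6 b) : False := by
  obtain ⟨c, hc⟩ := hTA
  rw [mul_comm] at hc
  obtain ⟨t, rfl⟩ : ∃ t, b = t + 4 := ⟨b - 4, by omega⟩
  have hTle : T ≤ 6 * (t + 4) ^ 4 := by
    zify
    rw [hT]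
    unfold t4
    rcases hX with rfl | rfl <;> push_cast <;> apply pos_le <;> clear * - <;> ring_nf <;> positivity
  have hcb := tf4_c h hc hk hTle
  have hcz : (c : ℤ) < 8 * ((t : ℤ) + 4) ^ 2 := by exact_mod_cast hcb
  have hc0 : (0 : ℤ) ≤ c := by positivity
  have e6 : t6 ((t + 4 : ℕ) : ℤ) = t6 X := by
    unfold t6
    rcases hX with rfl | rfl <;> ring
  rw [e6] at hN6
  have h5 : c * (1 : ℤ) + |-4 * X ^ 3 + 2 * X ^ 2 + X - 1| < (N : ℤ) := by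
    refine abs_lt' (N := 4 * (t + 4 : ℤ) ^ 3 + 2 * (t + 4 : ℤ) ^ 2 + (t + 4) + 1) ?_ ?_ ?_
    · rcases hX with h | h <;> rw [h] <;> push_cast <;> apply pos_le <;> clear * - <;> ring_nf <;> positivity
    · rcases hX with h | h <;> rw [h] <;> push_cast <;> apply pos_le <;> clear * - <;> ring_nf <;> positivity
    · refine lt_of_lt_of_le (b := 8 * ((t : ℤ) + 4) ^ 2 + (4 * (t + 4 : ℤ) ^ 3 + 2 * (t + 4 : ℤ) ^ 2 + (t + 4) + 1))
        (by linarith) ?_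
      rw [hN6]
      unfold t6
      rcases hX with h | h <;> rw [h] <;> push_cast <;> apply pos_le <;> clear * - <;> ring_nf <;> positivity
  have h6 : 8 * ((t : ℤ) + 4) ^ 2 ≤ |-4 * X ^ 3 + 2 * X ^ 2 + X - 1| := by
    rw [le_abs]
    rcases hX with h | h <;> rw [h]
    · right; push_cast; apply pos_le; clear * -; ring_nf; positivity
    · left; push_cast; apply pos_le; clear * -; ring_nf; positivity
  rcases kill_eq h hc hN (κ := 1) (α := -4 * X ^ 3 + 2 * X ^ 2 + X - 1) (by norm_num)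
      ⟨-(4 * X ^ 3 + 2 * X ^ 2 + X + 2), by rw [hT, hN6]; unfold t4 t6; ring⟩ h5 with ⟨-, h3⟩ | ⟨-, h3⟩
  · rw [← h3, abs_of_nonneg (by positivity)] at h6
    linarith
  · rw [show -4 * X ^ 3 + 2 * X ^ 2 + X - 1 = -((c : ℤ) * 1) by linarith, abs_neg, abs_of_nonneg (by positivity)] at h6
    linarith

/-- `t6`, and the torus `t₊` or `t₋` -/
theorem tf4_64 (h : LW p q k A k' B W) {T N : ℕ} {X : ℤ} (hX : X = b ∨ X = -b) (hev : (b : ℤ) % 2 = 0) (hb : 4 ≤ b)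
    (hTA : T ∣ A) (hk : k ∣ T) (hT : (T : ℤ) = t6 b) (hN : N ∣ B) (hN4 : (N : ℤ) = t4 X) : False := by
  obtain ⟨c, hc⟩ := hTA
  rw [mul_comm] at hc
  have hXe : X % 2 = 0 := by rcases hX with h | h <;> omega
  obtain ⟨t, rfl⟩ : ∃ t, b = t + 4 := ⟨b - 4, by omega⟩
  have hTle : T ≤ 6 * (t + 4) ^ 4 := by
    zify
    rw [hT]
    unfold t6
    push_cast
    apply pos_le
    clear * -
    ring_nf
    positivity
  have hcb := tf4_c h hc hk hTle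
  have hcz : (c : ℤ) < 8 * ((t : ℤ) + 4) ^ 2 := by exact_mod_cast hcb
  have hc0 : (0 : ℤ) ≤ c := by positivity
  have e6 : t6 ((t + 4 : ℕ) : ℤ) = t6 X := by
    unfold t6
    rcases hX with rfl | rfl <;> ring
  rw [e6] at hT
  refine par_kill h hc hN (κ := 1) (α := 4 * X ^ 3 + 2 * X ^ 2 + X + 2) (β := -4 * X ^ 3 + 2 * X ^ 2 + X - 1)
    (by norm_num) ?_ (by rw [hT, hN4]; unfold t4 t6; ring) ?_
  · obtain ⟨d, hd⟩ : ∃ d : ℤ, X = 2 * d := ⟨X / 2, by omega⟩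
    rw [hd]
    ring_nf
    omega
  · refine abs_lt' (N := 4 * (t + 4 : ℤ) ^ 3 + 2 * (t + 4 : ℤ) ^ 2 + (t + 4) + 2) ?_ ?_ ?_
    · rcases hX with h | h <;> rw [h] <;> push_cast <;> apply pos_le <;> clear * - <;> ring_nf <;> positivity
    · rcases hX with h | h <;> rw [h] <;> push_cast <;> apply pos_le <;> clear * - <;> ring_nf <;> positivity
    · refine lt_of_lt_of_le (b := 8 * ((t : ℤ) + 4) ^ 2 + (4 * (t + 4 : ℤ) ^ 3 + 2 * (t + 4 : ℤ) ^ 2 + (t + 4) + 2))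
        (by linarith) ?_
      rw [hN4]
      unfold t4
      rcases hX with h | h <;> rw [h] <;> push_cast <;> apply pos_le <;> clear * - <;> ring_nf <;> positivity

/-- `t₊`, and the torus `t₋`, or conversely -/
theorem tf4_44 (h : LW p q k A k' B W) {T N : ℕ} {X : ℤ} (hX : X = b ∨ X = -b) (hev : (b : ℤ) % 2 = 0) (hb : 4 ≤ b)
    (hTA : T ∣ A) (hk : k ∣ T) (hT : (T : ℤ) = t4 X) (hN : N ∣ B) (hN4 : (N : ℤ) = t4 (-X)) : False := by
  obtain ⟨c, hc⟩ := hTA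
  rw [mul_comm] at hc
  have hXe : X % 2 = 0 := by rcases hX with h | h <;> omega
  obtain ⟨t, rfl⟩ : ∃ t, b = t + 4 := ⟨b - 4, by omega⟩
  have hTle : T ≤ 6 * (t + 4) ^ 4 := by
    zify
    rw [hT]
    unfold t4
    rcases hX with rfl | rfl <;> push_cast <;> apply pos_le <;> clear * - <;> ring_nf <;> positivity
  have hcb := tf4_c h hc hk hTle
  have hcz : (c : ℤ) < 8 * ((t : ℤ) + 4) ^ 2 := by exact_mod_cast hcb
  have hc0 : (0 : ℤ) ≤ c := by positivity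
  refine par_kill h hc hN (κ := 2) (α := -X + 1) (β := X + 1)
    (by norm_num) ?_ (by rw [hT, hN4]; unfold t4; ring) ?_
  · obtain ⟨d, hd⟩ : ∃ d : ℤ, X = 2 * d := ⟨X / 2, by omega⟩
    rw [hd]
    ring_nf
    omega
  · refine abs_lt' (N := (t + 4 : ℤ) + 1) ?_ ?_ ?_
    · rcases hX with h | h <;> rw [h] <;> push_cast <;> apply pos_le <;> clear * - <;> ring_nf <;> positivity
    · rcases hX with h | h <;> rw [h] <;> push_cast <;> apply pos_le <;> clear * - <;> ring_nf <;> positivity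
    · refine lt_of_lt_of_le (b := 8 * ((t : ℤ) + 4) ^ 2 * 2 + ((t + 4 : ℤ) + 1))
        (by linarith) ?_
      rw [hN4]
      unfold t4
      rcases hX with h | h <;> rw [h] <;> push_cast <;> apply pos_le <;> clear * - <;> ring_nf <;> positivity

/-- `t₊` or `t₋`, the other tori -/
theorem tf4_4o (h : LW p q k A k' B W) {T N : ℕ} {X : ℤ} (hX : X = b ∨ X = -b) (hev : (b : ℤ) % 2 = 0) (hb : 4 ≤ b)
    (hb8 : X = -b → 8 ≤ b) (hTA : T ∣ A) (hk : k ∣ T) (hT : (T : ℤ) = t4 X) (hN : N ∣ B)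
    (hND : (N : ℤ) = (2 * X ^ 2 - 1) * t2 X ∨ (N : ℤ) = (2 * X ^ 2 - 1) * t2 (-X) ∨
      (N : ℤ) = (2 * X ^ 2 - 1) * (2 * X ^ 2 + 1)) : False := by
  obtain ⟨c, hc⟩ := hTA
  rw [mul_comm] at hc
  have hXe : X % 2 = 0 := by rcases hX with h | h <;> omega
  have hTle : T ≤ 6 * b ^ 4 := by
    obtain ⟨t, rfl⟩ : ∃ t, b = t + 4 := ⟨b - 4, by omega⟩
    zify
    rw [hT]
    unfold t4
    rcases hX with rfl | rfl <;> push_cast <;> apply pos_le <;> clear * - <;> ring_nf <;> positivity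
  have hcb := tf4_c h hc hk hTle
  have hcz : (c : ℤ) < 8 * (b : ℤ) ^ 2 := by exact_mod_cast hcb
  have hc0 : (0 : ℤ) ≤ c := by positivity
  obtain ⟨d, hd⟩ : ∃ d : ℤ, X = 2 * d := ⟨X / 2, by omega⟩
  rcases hND with hND | hND | hND
  · refine par_kill h hc hN (κ := 1) (α := -12 * X ^ 3 - 2 * X ^ 2 + 2 * X + 4)
      (β := 12 * X ^ 3 + 2 * X ^ 2 + 4 * X + 3)
      (by norm_num) ?_ (by rw [hT, hND]; unfold t4 t2; ring) ?_
    · rw [hd]
      ring_nf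
      omega
    · have hN' : c * (1 : ℤ) + (12 * (b : ℤ) ^ 3 + 2 * (b : ℤ) ^ 2 + 2 * b + 4) < N := by
        refine lt_of_lt_of_le (b := 8 * (b : ℤ) ^ 2 + (12 * (b : ℤ) ^ 3 + 2 * (b : ℤ) ^ 2 + 2 * b + 4)) (by linarith) ?_
        rw [hND]
        unfold t2
        rcases hX with h | h
        · obtain ⟨t, rfl⟩ : ∃ t, b = t + 4 := ⟨b - 4, by omega⟩
          rw [h]; push_cast; apply pos_le; clear * -; ring_nf; positivity
        · have h8 := hb8 h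
          obtain ⟨t, rfl⟩ : ∃ t, b = t + 8 := ⟨b - 8, by omega⟩
          rw [h]; push_cast; apply pos_le; clear * -; ring_nf; positivity
      obtain ⟨t, rfl⟩ : ∃ t, b = t + 4 := ⟨b - 4, by omega⟩
      refine abs_lt' ?_ ?_ hN'
      · rcases hX with h | h <;> rw [h] <;> push_cast <;> apply pos_le <;> clear * - <;> ring_nf <;> positivity
      · rcases hX with h | h <;> rw [h] <;> push_cast <;> apply pos_le <;> clear * - <;> ring_nf <;> positivity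
  · obtain ⟨t, rfl⟩ : ∃ t, b = t + 4 := ⟨b - 4, by omega⟩
    refine par_kill h hc hN (κ := 3) (α := -4 * X ^ 3 + 10 * X ^ 2 - 10 * X + 4) (β := 4 * X ^ 3 - 2 * X ^ 2 + 1)
      (by norm_num) ?_ (by rw [hT, hND]; unfold t4 t2; ring) ?_
    · rw [hd]
      ring_nf
      omega
    · rcases hX with h | h
      · refine abs_lt' (N := 4 * ((t + 4 : ℕ) : ℤ) ^ 3) ?_ ?_ ?_
        · rw [h]; push_cast; apply pos_le; clear * -; ring_nf; positivity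
        · rw [h]; push_cast; apply pos_le; clear * -; ring_nf; positivity
        · refine lt_of_lt_of_le (b := 8 * ((t + 4 : ℕ) : ℤ) ^ 2 * 3 + 4 * ((t + 4 : ℕ) : ℤ) ^ 3) (by linarith) ?_
          rw [hND]
          unfold t2
          rw [h]; push_cast; apply pos_le; clear * -; ring_nf; positivity
      · refine abs_lt' (N := 4 * ((t + 4 : ℕ) : ℤ) ^ 3 + 10 * ((t + 4 : ℕ) : ℤ) ^ 2 + 10 * ((t + 4 : ℕ) : ℤ) + 4) ?_ ?_ ?_
        · rw [h]; push_cast; apply pos_le; clear * -; ring_nf; positivity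
        · rw [h]; push_cast; apply pos_le; clear * -; ring_nf; positivity
        · refine lt_of_lt_of_le (b := 8 * ((t + 4 : ℕ) : ℤ) ^ 2 * 3 +
            (4 * ((t + 4 : ℕ) : ℤ) ^ 3 + 10 * ((t + 4 : ℕ) : ℤ) ^ 2 + 10 * ((t + 4 : ℕ) : ℤ) + 4)) (by linarith) ?_
          rw [hND]
          unfold t2
          rw [h]; push_cast; apply pos_le; clear * -; ring_nf; positivity
  · obtain ⟨t, rfl⟩ : ∃ t, b = t + 4 := ⟨b - 4, by omega⟩
    refine par_kill h hc hN (κ := 1) (α := -4 * X ^ 3 + 2 * X ^ 2 - 2 * X + 2) (β := 4 * X ^ 3 + 2 * X ^ 2 + 2 * X + 1)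
      (by norm_num) ?_ (by rw [hT, hND]; unfold t4; ring) ?_
    · rw [hd]
      ring_nf
      omega
    · refine abs_lt' (N := 4 * ((t + 4 : ℕ) : ℤ) ^ 3 + 2 * ((t + 4 : ℕ) : ℤ) ^ 2 + 2 * ((t + 4 : ℕ) : ℤ) + 2) ?_ ?_ ?_
      · rcases hX with h | h <;> rw [h] <;> push_cast <;> apply pos_le <;> clear * - <;> ring_nf <;> positivity
      · rcases hX with h | h <;> rw [h] <;> push_cast <;> apply pos_le <;> clear * - <;> ring_nf <;> positivity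
      · refine lt_of_lt_of_le (b := 8 * ((t + 4 : ℕ) : ℤ) ^ 2 * 1 +
          (4 * ((t + 4 : ℕ) : ℤ) ^ 3 + 2 * ((t + 4 : ℕ) : ℤ) ^ 2 + 2 * ((t + 4 : ℕ) : ℤ) + 2)) (by linarith) ?_
        rw [hND]
        rcases hX with h | h <;> rw [h] <;> push_cast <;> apply pos_le <;> clear * - <;> ring_nf <;> positivity

/-- `t6`, the other tori -/
theorem tf4_6o (h : LW p q k A k' B W) {T N : ℕ} {X : ℤ} (hX : X = b ∨ X = -b) (hev : (b : ℤ) % 2 = 0) (hb : 4 ≤ b)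
    (hTA : T ∣ A) (hk : k ∣ T) (hT : (T : ℤ) = t6 b) (hN : N ∣ B)
    (hND : (N : ℤ) = (2 * X ^ 2 - 1) * t2 X ∨ (N : ℤ) = (2 * X ^ 2 - 1) * (2 * X ^ 2 + 1)) : False := by
  obtain ⟨c, hc⟩ := hTA
  rw [mul_comm] at hc
  have hXe : X % 2 = 0 := by rcases hX with h | h <;> omega
  obtain ⟨t, rfl⟩ : ∃ t, b = t + 4 := ⟨b - 4, by omega⟩
  have hTle : T ≤ 6 * (t + 4) ^ 4 := by
    zify
    rw [hT]
    unfold t6
    push_cast
    apply pos_le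
    clear * -
    ring_nf
    positivity
  have hcb := tf4_c h hc hk hTle
  have hcz : (c : ℤ) < 8 * ((t + 4 : ℕ) : ℤ) ^ 2 := by exact_mod_cast hcb
  have hc0 : (0 : ℤ) ≤ c := by positivity
  have e6 : t6 ((t + 4 : ℕ) : ℤ) = t6 X := by
    unfold t6
    rcases hX with rfl | rfl <;> ring
  rw [e6] at hT
  rcases hND with hND | hND
  · refine par_kill h hc hN (κ := 1) (α := 2 * X ^ 2) (β := -2 * X ^ 2 + 2 * X - 1)
      (by norm_num) (by omega) (by rw [hT, hND]; unfold t6 t2; ring) ?_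
    refine abs_lt' (N := 2 * ((t + 4 : ℕ) : ℤ) ^ 2) ?_ ?_ ?_
    · rcases hX with h | h <;> rw [h] <;> push_cast <;> apply pos_le <;> clear * - <;> ring_nf <;> positivity
    · rcases hX with h | h <;> rw [h] <;> push_cast <;> apply pos_le <;> clear * - <;> ring_nf <;> positivity
    · refine lt_of_lt_of_le (b := 8 * ((t + 4 : ℕ) : ℤ) ^ 2 * 1 + 2 * ((t + 4 : ℕ) : ℤ) ^ 2) (by linarith) ?_
      rw [hND]
      unfold t2
      rcases hX with h | h <;> rw [h] <;> push_cast <;> apply pos_le <;> clear * - <;> ring_nf <;> positivity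
  · refine par_kill h hc hN (κ := 3) (α := 2 * X ^ 2 + 2) (β := -2 * X ^ 2 - 1)
      (by norm_num) (by omega) (by rw [hT, hND]; unfold t6; ring) ?_
    refine abs_lt' (N := 2 * ((t + 4 : ℕ) : ℤ) ^ 2 + 2) ?_ ?_ ?_
    · rcases hX with h | h <;> rw [h] <;> push_cast <;> apply pos_le <;> clear * - <;> ring_nf <;> positivity
    · rcases hX with h | h <;> rw [h] <;> push_cast <;> apply pos_le <;> clear * - <;> ring_nf <;> positivity
    · refine lt_of_lt_of_le (b := 8 * ((t + 4 : ℕ) : ℤ) ^ 2 * 3 + (2 * ((t + 4 : ℕ) : ℤ) ^ 2 + 2)) (by linarith) ?_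
      rw [hND]
      rcases hX with h | h <;> rw [h] <;> push_cast <;> apply pos_le <;> clear * - <;> ring_nf <;> positivity

/-- **State I.** -/
theorem tf4_I (h : SX p q k A k' B m i W S) (hg : Good W m i) (D : TF4Dat b S)
    (h1 : ∀ r : ℕ, r.Prime → r ∣ k' → ¬ r ∣ m ∧ ¬ r ∣ i) : False := by
  have := h.fin
  obtain ⟨x, hx⟩ := SX.k'S h h1
  have hk25 := (k_ge h.lw).2
  obtain ⟨w, hw, hwk⟩ := Nat.exists_prime_and_dvd (show k' ≠ 1 by omega)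
  have hwS : w ∣ Nat.card S := by
    refine dvd_trans ?_ (orderOf_dvd_natCard x)
    rw [hx]
    exact hwk
  obtain ⟨hb, hb8⟩ := tf4_b4 h hg D
  have hev := D.even
  obtain ⟨s, hs, hsk⟩ := Nat.exists_prime_and_dvd h.lw.k_pos.1.ne'
  have hnat : ∀ {n T : ℕ} {P : ℤ}, (n : ℤ) ∣ P → (T : ℤ) = P → n ∣ T := by
    rintro n T P h1 rfl
    exact_mod_cast h1
  have hb2 : ((b : ℤ)) ^ 2 = (b : ℤ) ^ 2 := rfl
  obtain ⟨N, hNB, hN⟩ := tf4_cls h D hw hwk hwS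
  rcases tf4_k h hg D with hk | ⟨X, hX, hk⟩
  · obtain ⟨y, hy⟩ := D.ex6
    have hkT := hnat hk hy
    have hTA := SX.dvdA h ⟨y, rfl⟩ hkT
    rcases hN with ⟨Y, hY, hN | ⟨hN, -⟩⟩ | hN | ⟨hN, hwt⟩
    · exact tf4_6o h.lw hY hev hb hTA hkT hy hNB (Or.inl hN)
    · exact tf4_64 h.lw hY hev hb hTA hkT hy hNB hN
    · exact tf4_6o h.lw (X := b) (Or.inl rfl) hev hb hTA hkT hy hNB (Or.inr hN)
    · exact h.lw.na hs hsk hw hwk (h.WS y) (hsk.trans hkT) (hnat hwt hy)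
  · obtain ⟨y, hy⟩ := D.ex4 X hX
    have hkT := hnat hk hy
    have hTA := SX.dvdA h ⟨y, rfl⟩ hkT
    have hb8' : X = -b → 8 ≤ b := by
      rintro rfl
      exact hb8 hk
    rcases hN with ⟨Y, hY, hN⟩ | hN | ⟨hN, -⟩
    · have hYX : Y = X ∨ Y = -X := by
        rcases hX with rfl | rfl <;> rcases hY with rfl | rfl <;> simp
      rcases hN with hN | ⟨hN, hwt⟩
      · rcases hYX with rfl | rfl
        · exact tf4_4o h.lw hX hev hb hb8' hTA hkT hy hNB (Or.inl hN)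
        · refine tf4_4o h.lw hX hev hb hb8' hTA hkT hy hNB (Or.inr (Or.inl ?_))
          rw [hN]
          ring
      · rcases hYX with rfl | rfl
        · exact h.lw.na hs hsk hw hwk (h.WS y) (hsk.trans hkT) (hnat hwt hy)
        · exact tf4_44 h.lw hX hev hb hTA hkT hy hNB hN
    · refine tf4_4o h.lw hX hev hb hb8' hTA hkT hy hNB (Or.inr (Or.inr ?_))
      rw [hN]
      rcases hX with rfl | rfl <;> ring
    · exact tf4_46 h.lw hX hb hTA hkT hy hNB hN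

/-! ### the second state -/

/-- a cyclic Sylow subgroup -/
theorem TF4Dat.cyc (D : TF4Dat b S) [Finite S] {y : ℕ} (hy : y.Prime) (hy2 : y ≠ 2) (hyS : y ∣ Nat.card S)
    (hx : ∃ x : S, y ^ (Nat.card S).factorization y ∣ orderOf x) :
    ¬ (y : ℤ) ∣ 2 * (b : ℤ) ^ 2 - 1 ∧ ¬ (y : ℤ) ∣ 2 * (b : ℤ) ^ 2 + 1 ∧ ¬ (y : ℤ) ∣ (2 * (b : ℤ) ^ 2) ^ 2 + 1 := by
  obtain ⟨x, hx⟩ := hx
  have hn0 : Nat.card S ≠ 0 := Nat.card_pos.ne'
  have hyp := Nat.prime_iff_prime_int.1 hy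
  obtain ⟨e, n, he, hn⟩ := D.om x
  have hya : y ∣ y ^ (Nat.card S).factorization y := by
    have h3 := (hy.pow_dvd_iff_le_factorization hn0).1 (show y ^ 1 ∣ Nat.card S by rwa [pow_one])
    exact dvd_pow_self y (by omega)
  have h1 : ((y ^ (Nat.card S).factorization y : ℕ) : ℤ) ∣ n := by
    rw [he] at hx
    exact Int.natCast_dvd_natCast.2
      ((Nat.Coprime.pow_left _ (Nat.Coprime.pow_right _
        ((Nat.coprime_primes hy Nat.prime_two).2 hy2))).dvd_of_dvd_mul_left hx)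
  have hfac : ∀ {F₁ F₂ R : ℤ}, (2 * (b : ℤ) ^ 2 - 1) * ((2 * (b : ℤ) ^ 2) ^ 3 + 1) *
      ((2 * (b : ℤ) ^ 2) ^ 4 - 1) * ((2 * (b : ℤ) ^ 2) ^ 6 + 1) =
      F₁ * F₂ * R → ((y ^ (Nat.card S).factorization y : ℕ) : ℤ) ∣ F₁ → (y : ℤ) ∣ F₂ → False := by
    intro F₁ F₂ R h2 h3 h4
    refine fact3 (g := 1) (F₁ := F₁) (F₂ := F₂) hy hn0 one_ne_zero ?_ h3 (by push_cast; rw [one_mul]; exact h4)
    rw [D.card, h2]
    exact ⟨(2 * (b : ℤ) ^ 2) ^ 12 * R, by push_cast; ring⟩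
  have h3b : (y : ℤ) ∣ 2 * (b : ℤ) ^ 2 - 1 → y ≠ 3 := by
    rintro h rfl
    have := D.three
    omega
  have h3c : (y : ℤ) ∣ (2 * (b : ℤ) ^ 2) ^ 2 + 1 → y ≠ 3 := by
    rintro h rfl
    have h3 := D.three
    obtain ⟨z, hz⟩ : ∃ z : ℤ, (b : ℤ) ^ 2 = 3 * z + 1 := ⟨(b : ℤ) ^ 2 / 3, by omega⟩
    rw [hz] at h
    have e : (2 * (3 * z + 1)) ^ 2 + 1 = 3 * (12 * z ^ 2 + 8 * z + 1) + 2 := by ring
    rw [e] at h
    omega
  have hQ : ¬ (y : ℤ) ∣ 2 * (b : ℤ) ^ 2 := D.not_b hy hy2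
  generalize 2 * (b : ℤ) ^ 2 = Q at *
  generalize (Nat.card S).factorization y = N at *
  have hyaz : (y : ℤ) ∣ ((y ^ N : ℕ) : ℤ) := Int.natCast_dvd_natCast.2 hya
  have hyn : (y : ℤ) ∣ n := hyaz.trans h1
  have rem : ∀ {P Q : ℤ}, ¬ (y : ℤ) ∣ Q → ((y ^ N : ℕ) : ℤ) ∣ P * Q → ((y ^ N : ℕ) : ℤ) ∣ P := by
    intro P Q hQ hPQ
    refine (cop_int fun r hr hrk => ?_).dvd_of_dvd_mul_right hPQ
    have := (Nat.prime_dvd_prime_iff_eq hr hy).1 (hr.dvd_of_dvd_pow hrk)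
    rw [this]
    exact hQ
  -- no common prime
  have nc' : ∀ {T D : ℤ} (α β κ : ℤ), (κ = 1 ∨ κ = 2 ∨ κ = 4) → α * T + β * D = κ → (y : ℤ) ∣ T → ¬ (y : ℤ) ∣ D := by
    intro T D α β κ hκ h hT hD
    have h2 : (y : ℤ) ∣ ((2 ^ 2 : ℕ) : ℤ) := by
      have h3 : (y : ℤ) ∣ κ := by
        rw [← h]
        exact dvd_add (hT.mul_left _) (hD.mul_left _)
      rcases hκ with rfl | rfl | rfl
      · exact h3.trans (by norm_num)
      · exact h3.trans (by norm_num)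
      · exact h3.trans (by norm_num)
    exact hy2 ((Nat.prime_dvd_prime_iff_eq hy Nat.prime_two).1 (hy.dvd_of_dvd_pow (Int.natCast_dvd_natCast.1 h2)))
  have hprod : ∀ {a c : ℤ}, ¬ (y : ℤ) ∣ a → ¬ (y : ℤ) ∣ c → ¬ (y : ℤ) ∣ a * c := fun ha hc h => by
    rcases hyp.dvd_or_dvd h with h | h
    · exact ha h
    · exact hc h
  have three : (y : ℤ) ∣ 3 → y = 3 := fun h =>
    (Nat.prime_dvd_prime_iff_eq hy Nat.prime_three).1 (Int.natCast_dvd_natCast.1 (by simpa using h))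
  refine ⟨fun hd => ?_, fun hd => ?_, fun hd => ?_⟩
  · -- `Q - 1`
    have a1 : ¬ (y : ℤ) ∣ Q + 1 := nc' (-1) 1 2 (by norm_num) (by ring) hd
    have a2 : ¬ (y : ℤ) ∣ Q ^ 2 + 1 := nc' (-(Q + 1)) 1 2 (by norm_num) (by ring) hd
    have a3 : ¬ (y : ℤ) ∣ Q ^ 2 + Q + 1 := by
      intro h
      have := dvd_sub h (hd.mul_right (Q + 2))
      have e : Q ^ 2 + Q + 1 - (Q - 1) * (Q + 2) = 3 := by ring
      rw [e] at this
      exact h3b hd (three this)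
    have fin : ((y ^ N : ℕ) : ℤ) ∣ Q - 1 → False := fun h =>
      hfac (F₁ := Q - 1) (F₂ := Q ^ 4 - 1) (R := (Q ^ 3 + 1) * (Q ^ 6 + 1)) (by ring) h
        (hd.trans ⟨(Q + 1) * (Q ^ 2 + 1), by ring⟩)
    rcases hn with h0 | h0 | h0 | h0 | h0
    · exact nc' (-(Q + 1) * Q ^ 2) 1 1 (by norm_num) (by ring) hd (hyn.trans h0)
    · exact nc' (-(Q + 1) * (Q ^ 2 + 1)) 1 2 (by norm_num) (by ring) hd (hyn.trans h0)
    · refine fin (rem (hprod a1 a2) ?_)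
      have e : Q ^ 4 - 1 = (Q - 1) * ((Q + 1) * (Q ^ 2 + 1)) := by ring
      rw [← e]
      exact h1.trans h0
    · refine fin (rem (hprod a3 a1) ?_)
      have e : (Q ^ 3 - 1) * (Q + 1) = (Q - 1) * ((Q ^ 2 + Q + 1) * (Q + 1)) := by ring
      rw [← e]
      exact h1.trans h0
    · refine fin (rem (Q := Q ^ 3 + 1) (nc' (-(Q ^ 2 + Q + 1)) 1 2 (by norm_num) (by ring) hd) ?_)
      rw [mul_comm]
      exact h1.trans h0
  · -- `Q + 1`
    have a1 : ¬ (y : ℤ) ∣ Q - 1 := nc' 1 (-1) 2 (by norm_num) (by ring) hd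
    have a2 : ¬ (y : ℤ) ∣ Q ^ 2 + 1 := nc' (-(Q - 1)) 1 2 (by norm_num) (by ring) hd
    have fin : ((y ^ N : ℕ) : ℤ) ∣ Q ^ 3 + 1 → False := fun h =>
      hfac (F₁ := Q ^ 3 + 1) (F₂ := Q ^ 4 - 1) (R := (Q - 1) * (Q ^ 6 + 1)) (by ring) h
        (hd.trans ⟨(Q - 1) * (Q ^ 2 + 1), by ring⟩)
    have fin' : ((y ^ N : ℕ) : ℤ) ∣ Q + 1 → False := fun h => fin (h.trans ⟨Q ^ 2 - Q + 1, by ring⟩)
    rcases hn with h0 | h0 | h0 | h0 | h0
    · exact nc' (-(Q - 1) * Q ^ 2) 1 1 (by norm_num) (by ring) hd (hyn.trans h0)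
    · exact nc' (-(Q - 1) * (Q ^ 2 + 1)) 1 2 (by norm_num) (by ring) hd (hyn.trans h0)
    · refine fin' (rem (hprod a1 a2) ?_)
      have e : Q ^ 4 - 1 = (Q + 1) * ((Q - 1) * (Q ^ 2 + 1)) := by ring
      rw [← e]
      exact h1.trans h0
    · refine fin' (rem (Q := Q ^ 3 - 1) (nc' (Q ^ 2 - Q + 1) (-1) 2 (by norm_num) (by ring) hd) ?_)
      rw [mul_comm]
      exact h1.trans h0
    · exact fin (rem a1 (h1.trans h0))
  · -- `Q² + 1`
    have a1 : ¬ (y : ℤ) ∣ Q ^ 2 - 1 := nc' 1 (-1) 2 (by norm_num) (by ring) hd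
    have hQ2 : ¬ (y : ℤ) ∣ 2 * Q := by
      intro h
      rcases hyp.dvd_or_dvd h with h | h
      · exact hy2 ((Nat.prime_dvd_prime_iff_eq hy Nat.prime_two).1 (Int.natCast_dvd_natCast.1 (by simpa using h)))
      · exact hQ h
    rcases hn with h0 | h0 | h0 | h0 | h0
    · have h2 := dvd_sub (hyn.trans h0) (hd.mul_right (Q ^ 2 - 2))
      have e : Q ^ 4 - Q ^ 2 + 1 - (Q ^ 2 + 1) * (Q ^ 2 - 2) = 3 := by ring
      rw [e] at h2
      exact h3c hd (three h2)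
    · exact nc' (-(Q ^ 2 - 1)) 1 2 (by norm_num) (by ring) hd (hyn.trans h0)
    · refine hfac (F₁ := Q ^ 2 + 1) (F₂ := Q ^ 2 + 1)
        (R := (Q ^ 2 - 1) * (Q ^ 4 - Q ^ 2 + 1) * (Q ^ 3 + 1) * (Q - 1)) (by ring) (rem a1 ?_) hd
      have e : Q ^ 4 - 1 = (Q ^ 2 + 1) * (Q ^ 2 - 1) := by ring
      rw [← e]
      exact h1.trans h0
    · have h2 := dvd_sub (hd.mul_right (Q ^ 2 + Q - 1)) (hyn.trans h0)
      have e : (Q ^ 2 + 1) * (Q ^ 2 + Q - 1) - (Q ^ 3 - 1) * (Q + 1) = 2 * Q := by ring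
      rw [e] at h2
      exact hQ2 h2
    · have h2 := dvd_sub (hyn.trans h0) (hd.mul_right (Q ^ 2 - Q - 1))
      have e : (Q ^ 3 + 1) * (Q - 1) - (Q ^ 2 + 1) * (Q ^ 2 - Q - 1) = 2 * Q := by ring
      rw [e] at h2
      exact hQ2 h2

/-- an order prime to `p z k`, not dividing `B`, is small -/
theorem SX.small_ord (h : SX p q k A k' B m i W S) {Z : ℕ} (hZ : ∃ x : S, orderOf x = Z) (hZB : ¬ Z ∣ B)
    (h2 : Z % 2 = 1) (hpz : ∀ r : ℕ, r.Prime → r ∣ Z → ¬ r ∣ p * ((q ^ 2 + 1) / 2))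
    (hk : ∀ r : ℕ, r.Prime → r ∣ Z → ¬ r ∣ k) : Z ≤ 3 * (q ^ 2 - 1) := by
  have hk' : ∀ r : ℕ, r.Prime → r ∣ Z → ¬ r ∣ k' := fun r hr hrZ hrk => hZB (SX.dvdB h hZ hr hrk hrZ)
  obtain ⟨z, rfl⟩ := hZ
  have h1 := h.lw.exp _ (h.WS z)
  have hq7 := h.lw.q7
  have hz := h.lw.side.z
  have c1 : (orderOf z).Coprime (p ^ 2) := Nat.Coprime.pow_right 2 (Nat.Coprime.symm
    ((h.lw.pp.coprime_iff_not_dvd).2 fun hd => hpz p h.lw.pp hd (dvd_mul_right _ _)))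
  have c2 : (orderOf z).Coprime (q ^ 2 + 1) := by
    refine Nat.coprime_of_dvd fun r hr hd1 hd2 => ?_
    rw [← hz.1] at hd2
    rcases hr.dvd_mul.1 hd2 with h3 | h3
    · have := (Nat.prime_dvd_prime_iff_eq hr Nat.prime_two).1 h3
      subst this
      omega
    · exact hpz r hr hd1 (h3.mul_left _)
  have h3 : orderOf z ∣ q ^ 6 - 1 := c2.dvd_of_dvd_mul_right (c1.dvd_of_dvd_mul_left h1)
  have hq2 : 49 ≤ q ^ 2 := by
    calc 49 = 7 ^ 2 := by norm_num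
      _ ≤ q ^ 2 := Nat.pow_le_pow_left hq7 2
  have hqq : q ≤ q ^ 2 := Nat.le_self_pow two_ne_zero q
  have e : q ^ 6 - 1 = (q ^ 2 - 1) * ((q ^ 2 + q + 1) * (q ^ 2 - q + 1)) := by
    have h6 : 1 ≤ q ^ 6 := Nat.one_le_pow _ _ (by omega)
    zify [h6, hqq, show 1 ≤ q ^ 2 by omega]
    ring
  have h4 : (q ^ 2 + q + 1) * (q ^ 2 - q + 1) ∣ 3 * (k * k') := by
    have key : ∀ a b : ℕ, (a = q ^ 2 + q + 1 ∨ 3 * a = q ^ 2 + q + 1 ∧ q % 3 = 1) →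
        (b = q ^ 2 - q + 1 ∨ 3 * b = q ^ 2 - q + 1 ∧ q % 3 = 2) →
        (q ^ 2 + q + 1) * (q ^ 2 - q + 1) ∣ 3 * (a * b) := by
      intro a b ha hb
      rcases ha with ha | ⟨ha, ha'⟩ <;> rcases hb with hb | ⟨hb, hb'⟩
      · rw [← ha, ← hb]; exact dvd_mul_left _ _
      · rw [← ha, ← hb]; exact ⟨1, by ring⟩
      · rw [← ha, ← hb]; exact ⟨1, by ring⟩
      · omega
    rcases h.lw.side.cof h.lw.q2 with ⟨-, a1, a2⟩ | ⟨-, a1, a2⟩
    · exact key k k' a1 a2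
    · rw [mul_comm k k']; exact key k' k a1 a2
  rw [e] at h3
  have h5 : orderOf z ∣ (q ^ 2 - 1) * 3 * (k * k') := by
    rw [mul_assoc]
    exact h3.trans (Nat.mul_dvd_mul_left _ h4)
  have c3 : (orderOf z).Coprime (k * k') :=
    Nat.Coprime.mul_right (Nat.coprime_of_dvd fun r hr hd1 hd2 => hk r hr hd1 hd2)
      (Nat.coprime_of_dvd fun r hr hd1 hd2 => hk' r hr hd1 hd2)
  have h6 := Nat.le_of_dvd (by omega) (c3.dvd_of_dvd_mul_right h5)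
  omega

/-- the primes of `t₊`, `t₋` -/
theorem t4_prime {r : ℕ} (hr : r.Prime) {X : ℤ} (h : (r : ℤ) ∣ t4 X) : 11 ≤ r := by
  by_contra hcon
  have h2 := hr.two_le
  have h4 : r ≠ 4 := by rintro rfl; norm_num at hr
  have h6 : r ≠ 6 := by rintro rfl; norm_num at hr
  have h8 : r ≠ 8 := by rintro rfl; norm_num at hr
  have h9 : r ≠ 9 := by rintro rfl; norm_num at hr
  have h10 : r ≠ 10 := by rintro rfl; norm_num at hr
  have h1 := Int.emod_eq_zero_of_dvd h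
  unfold t4 at h1
  have key : ∀ n : ℤ, 0 < n → ∃ a : ℤ, 0 ≤ a ∧ a < n ∧ X % n = a := fun n hn =>
    ⟨X % n, Int.emod_nonneg _ hn.ne', Int.emod_lt_of_pos _ hn, rfl⟩
  rcases (by omega : r = 2 ∨ r = 3 ∨ r = 5 ∨ r = 7) with rfl | rfl | rfl | rfl
  · omega
  · obtain ⟨a, h3, h5, h7⟩ := key 3 (by norm_num)
    interval_cases a <;> simp [pow_succ, Int.add_emod, Int.mul_emod, h7] at h1
  · obtain ⟨a, h3, h5, h7⟩ := key 5 (by norm_num)
    interval_cases a <;> simp [pow_succ, Int.add_emod, Int.mul_emod, h7] at h1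
  · obtain ⟨a, h3, h5, h7⟩ := key 7 (by norm_num)
    interval_cases a <;> simp [pow_succ, Int.add_emod, Int.mul_emod, h7] at h1

/-- **State II.** -/
theorem tf4_II (h : SX p q k A k' B m i W S) (hg : Good W m i) (D : TF4Dat b S)
    (hF : ∀ w : ℕ, w.Prime → 5 ≤ w → F1.FldDat 2 w S) (hw : ∃ w : ℕ, w.Prime ∧ w ∣ k' ∧ w ∣ m * i)
    (h2 : ∀ r : ℕ, r.Prime → (r ∣ (q ^ 2 + 1) / 2 ∨ r = p) → ¬ r ∣ m ∧ ¬ r ∣ i) : False := by
  have := h.fin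
  obtain ⟨w, hwp, hwk, hwmi⟩ := hw
  have hw7 := SX.prime h hwp (Or.inr hwk)
  have hwm : w ∣ m := by
    rcases hwp.dvd_mul.1 hwmi with h3 | h3
    · exact h3
    · exact (SX.noFld h hwp hwk h3 h2 (hF w hwp (by omega))).elim
  have hz25 := z_ge h.lw
  have hp3 := h.lw.p3
  obtain ⟨hb, hb8⟩ := tf4_b4 h hg D
  have hev := D.even
  obtain ⟨x, hx⟩ := SX.pzS h h2
  have hpodd : p % 2 = 1 := h.lw.pp.eq_two_or_odd.resolve_left h.lw.p2
  have hpzodd : (p * ((q ^ 2 + 1) / 2)) % 2 = 1 := by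
    rw [Nat.mul_mod, hpodd, h.lw.side.z.2]
  -- the classes of the primes of `p z`
  have hcl : ∀ y : ℕ, y.Prime → y ∣ p * ((q ^ 2 + 1) / 2) → y ≠ 2 ∧ ¬ (y : ℤ) ∣ 2 * (b : ℤ) ^ 2 - 1 ∧
      ¬ (y : ℤ) ∣ 2 * (b : ℤ) ^ 2 + 1 ∧ ¬ (y : ℤ) ∣ t2 b ∧ ¬ (y : ℤ) ∣ t2 (-b) := by
    intro y hy hyd
    have hyz : y ∣ (q ^ 2 + 1) / 2 ∨ y = p := by
      rcases hy.dvd_mul.1 hyd with h3 | h3
      · exact Or.inr ((Nat.prime_dvd_prime_iff_eq hy h.lw.pp).1 h3)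
      · exact Or.inl h3
    have hyS : y ∣ Nat.card S := h.dvd_card hy (h.W_prime hy (by tauto)) (h2 y hy hyz).1 (h2 y hy hyz).2
    have hy2 : y ≠ 2 := by
      rintro rfl
      omega
    obtain ⟨a1, a2, a3⟩ := D.cyc hy hy2 hyS (SX.cyc h hwp hwk hwm hy hyz)
    refine ⟨hy2, a1, a2, fun h4 => a3 (h4.trans ⟨t2 (-b), by unfold t2; ring⟩),
      fun h4 => a3 (h4.trans ⟨t2 b, by unfold t2; ring⟩)⟩
  have hnat : ∀ {n T : ℕ} {P : ℤ}, (n : ℤ) ∣ P → (T : ℤ) = P → n ∣ T := by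
    rintro n T P h1 rfl
    exact_mod_cast h1
  by_cases h1 : ∃ X : ℤ, (X = b ∨ X = -b) ∧ ∃ y : ℕ, y.Prime ∧ y ∣ p * ((q ^ 2 + 1) / 2) ∧ (y : ℤ) ∣ t4 X
  · obtain ⟨X, hX, y, hy, hyd, hyX⟩ := h1
    have hXe : X % 2 = 0 := by rcases hX with h | h <;> omega
    have h3 : ((p * ((q ^ 2 + 1) / 2) : ℕ) : ℤ) ∣ t4 X := by
      rw [← hx]
      exact D.cc X hX x y hy (by rw [hx]; exact hyd) hyX
    obtain ⟨t, ht⟩ := D.ex4 X hX
    obtain ⟨κ, hκ, h4, h5⟩ := SX.pzD h ⟨t, rfl⟩ (hnat h3 ht)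
    have hκ1 : κ = 1 := by
      rcases hκ with h6 | h6
      · exact h6
      · exfalso
        have h7 : ((orderOf t : ℕ) : ℤ) % 2 = 1 := by
          rw [ht]
          unfold t4
          obtain ⟨d, hd⟩ : ∃ d : ℤ, X = 2 * d := ⟨X / 2, by omega⟩
          rw [hd]
          ring_nf
          omega
        rw [h4, h6] at h7
        push_cast at h7
        omega
    rw [hκ1, one_mul] at h4
    have h4' : ((p * ((q ^ 2 + 1) / 2) : ℕ) : ℤ) = t4 X := by rw [← h4, ht]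
    have hp11 : 11 ≤ p := by
      refine t4_prime h.lw.pp (X := X) ?_
      rw [← h4']
      exact Int.natCast_dvd_natCast.2 (dvd_mul_right _ _)
    -- the third torus
    have third : ∀ Z : ℕ, Z ≤ 3 * (q ^ 2 - 1) → 6 * t4 X ≤ 11 * Z → False := by
      intro Z hZ hZ2
      have h6 : 6 * (p * ((q ^ 2 + 1) / 2)) ≤ 11 * Z := by
        have : 6 * ((p * ((q ^ 2 + 1) / 2) : ℕ) : ℤ) ≤ 11 * Z := by rw [h4']; exact hZ2
        exact_mod_cast this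
      have h7 : 11 * Z ≤ p * Z := Nat.mul_le_mul_right _ hp11
      have h8 : p * Z ≤ p * (3 * (q ^ 2 - 1)) := Nat.mul_le_mul_left _ hZ
      have h9 : 6 * (p * ((q ^ 2 + 1) / 2)) = p * (3 * (q ^ 2 + 1)) := by
        calc 6 * (p * ((q ^ 2 + 1) / 2)) = p * (3 * (2 * ((q ^ 2 + 1) / 2))) := by ring
          _ = p * (3 * (q ^ 2 + 1)) := by rw [h.lw.side.z.1]
      have h10 : p * (3 * (q ^ 2 - 1)) < p * (3 * (q ^ 2 + 1)) := by
        apply Nat.mul_lt_mul_of_pos_left _ (by omega)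
        omega
      omega
    have hodd : ∀ {r : ℕ}, r.Prime → ∀ {Z : ℕ}, Z % 2 = 1 → r ∣ Z → r ≠ 2 := by
      rintro r hr Z hZ hrZ rfl
      omega
    have e6 : t6 b = t6 X := by
      unfold t6
      rcases hX with rfl | rfl <;> ring
    have c64 : ∀ r : ℕ, r.Prime → ∀ Y : ℤ, (r : ℤ) ∣ t6 Y → ¬ (r : ℤ) ∣ t4 Y := by
      intro r hr Y h6 h7
      have h8 : (r : ℤ) ∣ 1 := by
        have := dvd_add (h6.mul_left (4 * Y ^ 3 + 2 * Y ^ 2 + Y + 2)) (h7.mul_left (-4 * Y ^ 3 + 2 * Y ^ 2 + Y - 1))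
        have e : (4 * Y ^ 3 + 2 * Y ^ 2 + Y + 2) * t6 Y + (-4 * Y ^ 3 + 2 * Y ^ 2 + Y - 1) * t4 Y = 1 := by
          unfold t4 t6; ring
        rwa [e] at this
      have := Int.le_of_dvd (by norm_num) h8
      have := hr.two_le
      omega
    have c44 : ∀ r : ℕ, r.Prime → r ≠ 2 → ∀ Y : ℤ, (r : ℤ) ∣ t4 (-Y) → ¬ (r : ℤ) ∣ t4 Y := by
      intro r hr hr2 Y h6 h7
      have h8 : (r : ℤ) ∣ 2 := by
        have := dvd_add (h7.mul_left (-Y + 1)) (h6.mul_left (Y + 1))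
        have e : (-Y + 1) * t4 Y + (Y + 1) * t4 (-Y) = 2 := by unfold t4; ring
        rwa [e] at this
      have h9 : r ∣ 2 := by exact_mod_cast h8
      exact hr2 ((Nat.prime_dvd_prime_iff_eq hr Nat.prime_two).1 h9)
    obtain ⟨s, hs, hsk⟩ := Nat.exists_prime_and_dvd h.lw.k_pos.1.ne'
    rcases tf4_k h hg D with hk | ⟨Y, hY, hk⟩
    · -- `k ∣ t6`
      obtain ⟨y6, hy6⟩ := D.ex6
      have hkT := hnat hk hy6
      have hTA := SX.dvdA h ⟨y6, rfl⟩ hkT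
      have hX' : -X = b ∨ -X = -b := by
        rcases hX with rfl | rfl
        · exact Or.inr rfl
        · exact Or.inl (neg_neg _)
      obtain ⟨z, hz⟩ := D.ex4 (-X) hX'
      have hzo : orderOf z % 2 = 1 := by
        have : ((orderOf z : ℕ) : ℤ) % 2 = 1 := by
          rw [hz]
          unfold t4
          obtain ⟨d, hd⟩ : ∃ d : ℤ, X = 2 * d := ⟨X / 2, by omega⟩
          rw [hd]
          ring_nf
          omega
        omega
      refine third (orderOf z) (SX.small_ord h ⟨z, rfl⟩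
        (fun hB => tf4_64 h.lw hX' hev hb hTA hkT hy6 hB hz) hzo ?_ ?_) ?_
      · intro r hr h6 h7
        have h8 : (r : ℤ) ∣ t4 (-X) := by rw [← hz]; exact Int.natCast_dvd_natCast.2 h6
        have h9 : (r : ℤ) ∣ t4 X := by rw [← h4']; exact Int.natCast_dvd_natCast.2 h7
        exact c44 r hr (hodd hr hzo h6) X h8 h9
      · intro r hr h6 h7
        have h8 : (r : ℤ) ∣ t4 (-X) := by rw [← hz]; exact Int.natCast_dvd_natCast.2 h6
        have h9 : (r : ℤ) ∣ t6 (-X) := by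
          have e : t6 (-X) = t6 b := by rw [e6]; unfold t6; ring
          rw [e]
          exact (Int.natCast_dvd_natCast.2 h7).trans hk
        exact c64 r hr (-X) h9 h8
      · rw [hz]
        obtain ⟨t, rfl⟩ : ∃ t, b = t + 4 := ⟨b - 4, by omega⟩
        unfold t4
        rcases hX with h | h <;> rw [h] <;> push_cast <;> apply pos_le <;> clear * - <;> ring_nf <;> positivity
    · obtain ⟨y4, hy4⟩ := D.ex4 Y hY
      have hkT := hnat hk hy4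
      have hTA := SX.dvdA h ⟨y4, rfl⟩ hkT
      have hYX : Y = X ∨ Y = -X := by
        rcases hX with rfl | rfl <;> rcases hY with rfl | rfl <;> simp
      rcases hYX with hYX | hYX
      · have h6 : p * ((q ^ 2 + 1) / 2) ∣ orderOf y4 := hnat (h4'.dvd) (by rw [hy4, hYX])
        exact h.lw.naz hs (Or.inl hsk) h.lw.pp (Or.inr rfl) (h.WS y4) (hsk.trans hkT) ((dvd_mul_right _ _).trans h6)
      · obtain ⟨z, hz⟩ := D.ex6
        have hzo : orderOf z % 2 = 1 := by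
          have : ((orderOf z : ℕ) : ℤ) % 2 = 1 := by
            rw [hz]
            unfold t6
            obtain ⟨d, hd⟩ : ∃ d : ℤ, (b : ℤ) = 2 * d := ⟨(b : ℤ) / 2, by omega⟩
            rw [hd]
            ring_nf
            omega
          omega
        refine third (orderOf z) (SX.small_ord h ⟨z, rfl⟩
          (fun hB => tf4_46 h.lw hY hb hTA hkT hy4 hB hz) hzo ?_ ?_) ?_
        · intro r hr h6 h7
          have h8 : (r : ℤ) ∣ t6 X := by rw [← e6, ← hz]; exact Int.natCast_dvd_natCast.2 h6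
          have h9 : (r : ℤ) ∣ t4 X := by rw [← h4']; exact Int.natCast_dvd_natCast.2 h7
          exact c64 r hr X h8 h9
        · intro r hr h6 h7
          have h8 : (r : ℤ) ∣ t6 Y := by
            have e : t6 Y = t6 b := by rw [e6, hYX]; unfold t6; ring
            rw [e, ← hz]
            exact Int.natCast_dvd_natCast.2 h6
          exact c64 r hr Y h8 ((Int.natCast_dvd_natCast.2 h7).trans hk)
        · rw [hz]
          obtain ⟨t, rfl⟩ : ∃ t, b = t + 4 := ⟨b - 4, by omega⟩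
          unfold t4 t6
          rcases hX with h | h <;> rw [h] <;> push_cast <;> apply pos_le <;> clear * - <;> ring_nf <;> positivity
  · push Not at h1
    have h3 : ((p * ((q ^ 2 + 1) / 2) : ℕ) : ℤ) ∣ t6 b := by
      rw [← hx]
      refine D.six x fun r hr hrx => ?_
      rw [hx] at hrx
      obtain ⟨a0, a1, a2, a3, a4⟩ := hcl r hr hrx
      exact ⟨a0, a1, a2, a3, a4, h1 b (Or.inl rfl) r hr hrx, h1 (-b) (Or.inr rfl) r hr hrx⟩
    obtain ⟨t, ht⟩ := D.ex6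
    obtain ⟨κ, hκ, h4, -⟩ := SX.pzD h ⟨t, rfl⟩ (hnat h3 ht)
    have h3b := D.three
    obtain ⟨z, hz⟩ : ∃ z : ℤ, (b : ℤ) ^ 2 = 3 * z + 1 := ⟨(b : ℤ) ^ 2 / 3, by omega⟩
    have h5 : (3 : ℤ) ∣ ((orderOf t : ℕ) : ℤ) := by
      rw [ht]
      unfold t6
      refine ⟨12 * z ^ 2 + 6 * z + 1, ?_⟩
      have e : (b : ℤ) ^ 4 = ((b : ℤ) ^ 2) ^ 2 := by ring
      rw [e, hz]
      ring
    have h6 : 3 ∣ orderOf t := by exact_mod_cast h5
    rw [h4] at h6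
    rcases Nat.prime_three.dvd_mul.1 h6 with h7 | h7
    · rcases hκ with h8 | h8 <;> rw [h8] at h7 <;> norm_num at h7
    · exact (hcl 3 Nat.prime_three h7).2.2.1 ⟨2 * z + 1, by push_cast; rw [hz]; ring⟩

/-- **Row `²F₄(2^{2m+1})`.** -/
theorem row_tf4 {v f : ℕ} (h : SX p q k A k' B m i W S) (hg : Good W m i) (hI : Fam.Is v f S Fam.tf4) (hv : v.Prime)
    (hvp : v ≠ p) : False := by
  have hF : ∀ w : ℕ, w.Prime → 5 ≤ w → F1.FldDat v w S := fun w hw hw5 =>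
    fldDat_exc (t := Fam.tf4) trivial hv hI hw hw5
  obtain ⟨rfl, a, ha, -, K, _, _, hcard, ⟨e⟩⟩ := hI
  have D : TF4Dat (2 ^ a) S := (tf4Dat ha hcard rfl).congr e
  rcases h.dich with h1 | ⟨hw, h2⟩
  · exact tf4_I h hg D h1
  · exact tf4_II h hg D hF hw h2

end

end Cfsg.Agent.R2.Spec.X4.H18
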