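import Cfsg.Agent.R2.Spec.X4.H18.Gen

/-!
# Box X4 of S3435, exceptional `S`: the cofactor equation (helper18)

* `cof_k'`, `cof_eq` : `A = c T`, `T = k t` give `g³ T = t (4 c² t² ∓ 6 g c t + 3 g²)`, `g ∈ {1, 3}`.
-/

set_option autoImplicit false
set_option linter.unusedVariables false

namespace Cfsg.Agent.R2.Spec.X4.H18

variable {p q k A k' B : ℕ} {W : ℕ → Prop}

theorem cof_k' (h : LW p q k A k' B W) {T c t : ℕ} (hc : A = c * T) (ht : T = k * t) :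
    ∃ g : ℕ, (g = 1 ∨ g = 3) ∧ (B = A + 1 ∧ 2 * (c * t) + g = g * q ∧ g * k = q ^ 2 + q + 1 ∨
      A = B + 1 ∧ 2 * (c * t) = g * (q + 1) ∧ g * k + q = q ^ 2 + 1) := by
  have hk0 : 0 < k := by have := (k_ge h).1; omega
  have hq := h.q7
  have hqq : q ≤ q ^ 2 := Nat.le_self_pow two_ne_zero q
  rcases h.side.cof h.q2 with ⟨h1, h2, -⟩ | ⟨h1, -, h2⟩
  · obtain ⟨g, hg, hg'⟩ : ∃ g : ℕ, (g = 1 ∨ g = 3) ∧ g * k = q ^ 2 + q + 1 := by
      rcases h2 with h2 | ⟨h2, -⟩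
      · exact ⟨1, Or.inl rfl, by rw [one_mul, h2]⟩
      · exact ⟨3, Or.inr rfl, h2⟩
    have h3 : 2 * A + 1 = q ^ 3 ∧ B = A + 1 := by
      rcases h.side.two_mul with ⟨-, h3, -, h4⟩ | ⟨h3, -⟩
      · exact ⟨h3, h4⟩
      · omega
    refine ⟨g, hg, Or.inl ⟨h3.2, ?_, hg'⟩⟩
    apply Nat.eq_of_mul_eq_mul_right hk0
    have h4 : (2 * (c * t) + g) * k = 2 * A + (q ^ 2 + q + 1) := by rw [hc, ht, ← hg']; ring
    have h5 : g * q * k = q * (q ^ 2 + q + 1) := by rw [← hg']; ring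
    rw [h4, h5]
    have h6 : q * (q ^ 2 + q + 1) + 1 = q ^ 3 + (q ^ 2 + q + 1) := by ring
    omega
  · obtain ⟨g, hg, hg'⟩ : ∃ g : ℕ, (g = 1 ∨ g = 3) ∧ g * k + q = q ^ 2 + 1 := by
      rcases h2 with h2 | ⟨h2, -⟩
      · exact ⟨1, Or.inl rfl, by rw [one_mul, h2]; omega⟩
      · exact ⟨3, Or.inr rfl, by rw [h2]; omega⟩
    have h3 : 2 * A = q ^ 3 + 1 ∧ A = B + 1 := by
      rcases h.side.two_mul with ⟨h3, -⟩ | ⟨-, h3, -, h4⟩
      · omega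
      · exact ⟨h3, h4⟩
    refine ⟨g, hg, Or.inr ⟨h3.2, ?_, hg'⟩⟩
    apply Nat.eq_of_mul_eq_mul_right hk0
    have h4 : 2 * (c * t) * k = 2 * A := by rw [hc, ht]; ring
    have h5 : g * (q + 1) * k + (q + 1) * q = (q + 1) * (q ^ 2 + 1) := by rw [← hg']; ring
    rw [h4, h3.1]
    have h6 : (q + 1) * (q ^ 2 + 1) = q ^ 3 + 1 + (q + 1) * q := by ring
    omega

/-- the cubic equation -/
theorem cof_eq (h : LW p q k A k' B W) {T c t : ℕ} (hc : A = c * T) (ht : T = k * t) :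
    ∃ g : ℤ, (g = 1 ∨ g = 3) ∧
      (B = A + 1 ∧ g ^ 3 * (T : ℤ) = t * (4 * (c * t : ℤ) ^ 2 + 6 * g * (c * t) + 3 * g ^ 2) ∨
        A = B + 1 ∧ g ^ 3 * (T : ℤ) = t * (4 * (c * t : ℤ) ^ 2 - 6 * g * (c * t) + 3 * g ^ 2)) := by
  obtain ⟨g, hg, h1⟩ := cof_k' h hc ht
  have htz : (T : ℤ) = k * t := by exact_mod_cast ht
  refine ⟨g, by rcases hg with rfl | rfl <;> simp, ?_⟩
  rcases h1 with ⟨h1, h2, h3⟩ | ⟨h1, h2, h3⟩
  · left
    refine ⟨h1, ?_⟩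
    have e2 : 2 * (c * t : ℤ) + g = g * q := by exact_mod_cast h2
    have e3 : (g : ℤ) * k = (q : ℤ) ^ 2 + q + 1 := by exact_mod_cast h3
    have e4 : 2 * (c * t : ℤ) = g * q - g := by linarith
    have e5 : 4 * (c * t : ℤ) ^ 2 = (g * q - g) ^ 2 := by rw [← e4]; ring
    have e6 : 6 * (g : ℤ) * (c * t) = 3 * g * (g * q - g) := by rw [← e4]; ring
    rw [e5, e6, htz]
    linear_combination (t : ℤ) * g ^ 2 * e3
  · right
    refine ⟨h1, ?_⟩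
    have e2 : 2 * (c * t : ℤ) = g * (q + 1) := by exact_mod_cast h2
    have e3 : (g : ℤ) * k + q = (q : ℤ) ^ 2 + 1 := by exact_mod_cast h3
    have e5 : 4 * (c * t : ℤ) ^ 2 = (g * (q + 1)) ^ 2 := by rw [← e2]; ring
    have e6 : 6 * (g : ℤ) * (c * t) = 3 * g * (g * (q + 1)) := by rw [← e2]; ring
    rw [e5, e6, htz]
    linear_combination (t : ℤ) * g ^ 2 * e3

/-- `T = X² - X + 1`, `c = X` -/
theorem no_e1 {g X c t : ℤ} (hg : g = 1 ∨ g = 3) (hX : 9 ≤ X) (ht : 1 ≤ t) (hc : c = X)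
    (h : g ^ 3 * (X ^ 2 - X + 1) = t * (4 * (c * t) ^ 2 - 6 * g * (c * t) + 3 * g ^ 2)) : False := by
  subst hc
  have key : ∀ s : ℤ, 1 ≤ s → s ≤ t → c * s ≤ c * t := fun s h1 h2 => mul_le_mul_of_nonneg_left h2 (by linarith)
  rcases hg with rfl | rfl
  · have h1 := key 1 le_rfl ht
    generalize c * t = Z at h h1
    have h2 : 4 * Z ^ 2 - 6 * Z + 3 ≤ t * (4 * Z ^ 2 - 6 * 1 * Z + 3 * 1 ^ 2) := by
      have : 0 ≤ (4 * Z ^ 2 - 6 * Z + 3) := by nlinarith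
      nlinarith
    nlinarith
  · rcases (by omega : t = 1 ∨ t = 2 ∨ 3 ≤ t) with rfl | rfl | h3
    · nlinarith
    · nlinarith
    · have h1 := key 3 (by norm_num) h3
      generalize c * t = Z at h h1
      have h2 : 3 * (4 * Z ^ 2 - 18 * Z + 27) ≤ t * (4 * Z ^ 2 - 6 * 3 * Z + 3 * 3 ^ 2) := by
        have : 0 ≤ (4 * Z ^ 2 - 18 * Z + 27) := by nlinarith
        nlinarith
      nlinarith

/-- `T = X² - X + 1`, `3 c = X + 2` -/
theorem no_e2 {g X c t : ℤ} (hg : g = 1 ∨ g = 3) (hX : 9 ≤ X) (ht : 1 ≤ t) (hc : 3 * c = X + 2)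
    (h : g ^ 3 * (X ^ 2 - X + 1) = t * (4 * (c * t) ^ 2 - 6 * g * (c * t) + 3 * g ^ 2)) : False := by
  obtain rfl : X = 3 * c - 2 := by linarith
  have key : ∀ s : ℤ, 1 ≤ s → s ≤ t → c * s ≤ c * t := fun s h1 h2 => mul_le_mul_of_nonneg_left h2 (by linarith)
  rcases hg with rfl | rfl
  · rcases (by omega : t = 1 ∨ 2 ≤ t) with rfl | h3
    · nlinarith
    · have h1 := key 2 (by norm_num) h3
      generalize c * t = Z at h h1
      have h2 : 2 * (4 * Z ^ 2 - 6 * Z + 3) ≤ t * (4 * Z ^ 2 - 6 * 1 * Z + 3 * 1 ^ 2) := by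
        have : 0 ≤ (4 * Z ^ 2 - 6 * Z + 3) := by nlinarith
        nlinarith
      nlinarith
  · rcases (by omega : t = 1 ∨ t = 2 ∨ t = 3 ∨ t = 4 ∨ 5 ≤ t) with rfl | rfl | rfl | rfl | h3
    · nlinarith
    · nlinarith
    · nlinarith
    · nlinarith
    · have h1 := key 5 (by norm_num) h3
      generalize c * t = Z at h h1
      have h2 : 5 * (4 * Z ^ 2 - 18 * Z + 27) ≤ t * (4 * Z ^ 2 - 6 * 3 * Z + 3 * 3 ^ 2) := by
        have : 0 ≤ (4 * Z ^ 2 - 18 * Z + 27) := by nlinarith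
        nlinarith
      nlinarith

/-- `T = X² + 1`, `c = X - 1` -/
theorem no_e3 {g X c t : ℤ} (hg : g = 1 ∨ g = 3) (hX : 9 ≤ X) (ht : 1 ≤ t) (hc : c = X - 1)
    (h : g ^ 3 * (X ^ 2 + 1) = t * (4 * (c * t) ^ 2 + 6 * g * (c * t) + 3 * g ^ 2)) : False := by
  obtain rfl : X = c + 1 := by linarith
  have key : ∀ s : ℤ, 1 ≤ s → s ≤ t → c * s ≤ c * t := fun s h1 h2 => mul_le_mul_of_nonneg_left h2 (by linarith)
  rcases hg with rfl | rfl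
  · have h1 := key 1 le_rfl ht
    generalize c * t = Z at h h1
    have h2 : 4 * Z ^ 2 + 6 * Z + 3 ≤ t * (4 * Z ^ 2 + 6 * 1 * Z + 3 * 1 ^ 2) := by
      have : 0 ≤ (4 * Z ^ 2 + 6 * Z + 3) := by nlinarith
      nlinarith
    nlinarith
  · rcases (by omega : t = 1 ∨ t = 2 ∨ 3 ≤ t) with rfl | rfl | h3
    · nlinarith
    · nlinarith
    · have h1 := key 3 (by norm_num) h3
      generalize c * t = Z at h h1
      have h2 : 3 * (4 * Z ^ 2 + 18 * Z + 27) ≤ t * (4 * Z ^ 2 + 6 * 3 * Z + 3 * 3 ^ 2) := by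
        have : 0 ≤ (4 * Z ^ 2 + 18 * Z + 27) := by nlinarith
        nlinarith
      nlinarith

end Cfsg.Agent.R2.Spec.X4.H18
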