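import Cfsg.Agent.R2.Spec.X4.Base
import Cfsg.Agent.S0126

/-!
# Box X4 of S3435, exceptional `S`: general tools (helper18)

* `exists_noncyclic` : noncyclic abelian `r`-subgroups;
* `h_bound`, `kill` : a torus `T ∣ A` and an order `D ∣ B` are incompatible;
* `pz_kill` : a torus `T ∣ A` and an order `p (q² + 1) / 2` close to `T` are incompatible;
* `SX.noFld`, `SX.cyc` : the second state.
-/

set_option autoImplicit false
set_option linter.unusedVariables false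

namespace Cfsg.Agent.R2.Spec.X4.H18

open Subgroup Cfsg.Agent.H376.Six

universe u v

theorem pos_lt {a b : ℤ} (h : 0 < b - a) : a < b := by linarith

theorem pos_le {a b : ℤ} (h : 0 ≤ b - a) : a ≤ b := by linarith

/-! ### noncyclic abelian subgroups -/

theorem exists_noncyclic {S : Type u} [Group S] [Finite S] {r : ℕ} (hr : r.Prime) (h2 : r ≠ 2)
    (h : ∀ x : S, ¬ r ^ (Nat.card S).factorization r ∣ orderOf x) :
    ∃ P : Subgroup S, IsPGroup r P ∧ (∀ a ∈ P, ∀ b ∈ P, a * b = b * a) ∧ ¬ IsCyclic P := by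
  have := Fact.mk hr
  obtain ⟨P⟩ : Nonempty (Sylow r S) := inferInstance
  have hnc : ¬ IsCyclic ↥(P : Subgroup S) := by
    intro hc
    obtain ⟨x, hx⟩ := isCyclic_iff_exists_orderOf_eq_natCard.1 hc
    rw [P.card_eq_multiplicity] at hx
    apply h x
    rw [← hx, Subgroup.orderOf_coe]
  obtain ⟨E, -, hE, hcard⟩ := Cfsg.Agent.S0126.result h2 P.isPGroup' hnc
  refine ⟨E.map (P : Subgroup S).subtype, ?_, ?_, ?_⟩
  · exact (P.isPGroup'.to_subgroup E).map _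
  · rintro _ ⟨a, ha, rfl⟩ _ ⟨b, hb, rfl⟩
    rw [← map_mul, ← map_mul]
    have h1 := hE.1.is_comm.comm ⟨a, ha⟩ ⟨b, hb⟩
    exact congrArg (P : Subgroup S).subtype (congrArg Subtype.val h1)
  · intro hc
    have e : E ≃* E.map (P : Subgroup S).subtype :=
      Subgroup.equivMapOfInjective _ _ (Subgroup.subtype_injective _)
    have hcE : IsCyclic E := isCyclic_of_surjective e.symm.toMonoidHom e.symm.surjective
    obtain ⟨x, hx⟩ := isCyclic_iff_exists_orderOf_eq_natCard.1 hcE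
    rw [hcard] at hx
    have h1 : orderOf x ∣ r := orderOf_dvd_of_pow_eq_one (Subtype.ext (hE.2 x x.2))
    rw [hx] at h1
    have h3 := Nat.le_of_dvd hr.pos h1
    have h4 := hr.two_le
    nlinarith

/-! ### numbers -/

section

variable {p q k A k' B : ℕ} {W : ℕ → Prop}

theorem k_ge (h : LW p q k A k' B W) : 19 ≤ k ∧ 25 ≤ k' := by
  have h1 := h.side.k_ge h.q2
  have h2 := h.q7
  have h3 := h.q_odd
  rcases Nat.lt_or_ge q 9 with h4 | h4
  · have h5 : q = 7 := by omega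
    subst h5
    rcases h.side.cof (by norm_num) with ⟨-, h6, h7⟩ | ⟨h6, -⟩
    · norm_num at h6 h7 ⊢
      omega
    · norm_num at h6
  · have h5 : q * 8 ≤ q ^ 2 - q := by
      have e : q ^ 2 = q * q := sq q
      have : q * 9 ≤ q * q := Nat.mul_le_mul_left q h4
      omega
    omega

/-- `k k'` is large -/
theorem cube_le (h : LW p q k A k' B W) : (q ^ 3 + 1) ^ 4 ≤ (3 * (k * k')) ^ 3 := by
  have h1 := (h.side.mul h.q2).1
  calc (q ^ 3 + 1) ^ 4 ≤ (q ^ 4 + q ^ 2 + 1) ^ 3 := by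
        have h2 := h.q7
        obtain ⟨t, rfl⟩ : ∃ t, q = t + 7 := ⟨q - 7, by omega⟩
        have e : (t + 7) ^ 4 + (t + 7) ^ 2 + 1 = (t + 7) ^ 4 + (t + 7) ^ 2 + 1 := rfl
        zify
        apply pos_le
        clear * -
        ring_nf
        positivity
    _ ≤ _ := Nat.pow_le_pow_left h1 3

/-- the size of `A / T` -/
theorem h_bound (h : LW p q k A k' B W) {T M c : ℕ} (hT : A = c * T) (hk : k ≤ T) (hk' : k' ≤ M) :
    16 * c ^ 4 * T ≤ 27 * M ^ 3 := by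
  have h1 := cube_le h
  have h2 : 2 * A ≤ q ^ 3 + 1 := by
    rcases h.side.two_mul with h3 | h3 <;> omega
  have hT0 : 0 < T := by have := (k_ge h).1; omega
  have h4 : (2 * A) ^ 4 ≤ (3 * (T * M)) ^ 3 :=
    (Nat.pow_le_pow_left h2 4).trans (h1.trans (Nat.pow_le_pow_left
      (Nat.mul_le_mul_left 3 (Nat.mul_le_mul hk hk')) 3))
  rw [hT] at h4
  refine le_of_mul_le_mul_right (a := T ^ 3) ?_ (pow_pos hT0 3)
  calc 16 * c ^ 4 * T * T ^ 3 = (2 * (c * T)) ^ 4 := by ring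
    _ ≤ _ := h4
    _ = _ := by ring

theorem two_tori {T D c : ℕ} {α κ : ℤ} (hT : A = c * T) (hD : D ∣ B) (hα : (D : ℤ) ∣ α * T - κ) :
    (A = B + 1 → (D : ℤ) ∣ c * κ - α) ∧ (B = A + 1 → (D : ℤ) ∣ c * κ + α) := by
  have hDB : (D : ℤ) ∣ B := by exact_mod_cast hD
  have h1 := hα.mul_left (c : ℤ)
  have h2 := hDB.mul_left α
  have hT' : (A : ℤ) = c * T := by exact_mod_cast hT
  constructor
  · intro h
    have h' : (A : ℤ) = B + 1 := by exact_mod_cast h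
    have := dvd_sub h2 h1
    have e : α * (B : ℤ) - c * (α * T - κ) = c * κ - α := by linear_combination α * hT' - α * h'
    rwa [e] at this
  · intro h
    have h' : (B : ℤ) = A + 1 := by exact_mod_cast h
    have := dvd_sub h2 h1
    have e : α * (B : ℤ) - c * (α * T - κ) = c * κ + α := by linear_combination α * hT' + α * h'
    rwa [e] at this

/-- **A torus `T ∣ A` and an order `D ∣ B`.** -/
theorem kill (h : LW p q k A k' B W) {T D M : ℕ} (hT : T ∣ A) (hk : k ≤ T) (hk' : k' ≤ M) (hD : D ∣ B) {α κ : ℤ}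
    (hκ : 0 ≤ κ) (hα : (D : ℤ) ∣ α * T - κ) (h1 : 27 * κ ^ 4 * (M : ℤ) ^ 3 < 16 * T * α ^ 4) (h2 : 2 * |α| ≤ D) :
    False := by
  obtain ⟨c, hc⟩ := hT
  rw [mul_comm] at hc
  have h3 := h_bound h hc hk hk'
  have h3' : 16 * (c : ℤ) ^ 4 * T ≤ 27 * (M : ℤ) ^ 3 := by exact_mod_cast h3
  have hT0 : (0 : ℤ) < T := by have := (k_ge h).1; omega
  have h4 : (c * κ : ℤ) < |α| := by
    refine lt_of_pow_lt_pow_left₀ 4 (abs_nonneg α) ?_
    have e : |α| ^ 4 = α ^ 4 := by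
      rw [show (4 : ℕ) = 2 * 2 by norm_num, pow_mul, pow_mul, sq_abs]
    rw [e]
    refine lt_of_mul_lt_mul_left (a := 16 * (T : ℤ)) ?_ (by positivity)
    calc 16 * (T : ℤ) * (c * κ) ^ 4 = (16 * (c : ℤ) ^ 4 * T) * κ ^ 4 := by ring
      _ ≤ (27 * (M : ℤ) ^ 3) * κ ^ 4 := mul_le_mul_of_nonneg_right h3' (by positivity)
      _ = 27 * κ ^ 4 * (M : ℤ) ^ 3 := by ring
      _ < _ := h1
  have h5 : 0 ≤ (c : ℤ) * κ := by positivity
  obtain ⟨e1, e2⟩ := two_tori hc hD hα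
  rcases h.side.diff with h6 | h6
  · have h7 := Int.eq_zero_of_abs_lt_dvd (e1 h6) (by
      refine lt_of_lt_of_le ?_ h2
      have := abs_sub (c * κ : ℤ) α
      rw [abs_of_nonneg h5] at this
      omega)
    have h8 : |α| = c * κ := by rw [← sub_eq_zero.1 h7, abs_of_nonneg h5]
    omega
  · have h7 := Int.eq_zero_of_abs_lt_dvd (e2 h6) (by
      refine lt_of_lt_of_le ?_ h2
      have := abs_add_le (c * κ : ℤ) α
      rw [abs_of_nonneg h5] at this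
      omega)
    have h8 : |α| = c * κ := by
      rw [show α = -(c * κ : ℤ) by omega, abs_neg, abs_of_nonneg h5]
    omega

/-- the same, with the solution -/
theorem kill_eq (h : LW p q k A k' B W) {T D c : ℕ} (hc : A = c * T) (hD : D ∣ B) {α κ : ℤ}
    (hκ : 0 ≤ κ) (hα : (D : ℤ) ∣ α * T - κ) (h2 : c * κ + |α| < D) :
    (A = B + 1 ∧ c * κ = α) ∨ (B = A + 1 ∧ c * κ = -α) := by
  have h5 : 0 ≤ (c : ℤ) * κ := by positivity
  obtain ⟨e1, e2⟩ := two_tori hc hD hα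
  rcases h.side.diff with h6 | h6
  · have h7 := Int.eq_zero_of_abs_lt_dvd (e1 h6) (by
      refine lt_of_le_of_lt ?_ h2
      have := abs_sub (c * κ : ℤ) α
      rw [abs_of_nonneg h5] at this
      omega)
    exact Or.inl ⟨h6, by omega⟩
  · have h7 := Int.eq_zero_of_abs_lt_dvd (e2 h6) (by
      refine lt_of_le_of_lt ?_ h2
      have := abs_add_le (c * κ : ℤ) α
      rw [abs_of_nonneg h5] at this
      omega)
    exact Or.inr ⟨h6, by omega⟩

/-- a bound for `A / T` -/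
theorem c_lt (h : LW p q k A k' B W) {T M c b : ℕ} (hc : A = c * T) (hk : k ≤ T) (hk' : k' ≤ M)
    (hb : 27 * M ^ 3 < 16 * b ^ 4 * T) : c < b := by
  by_contra hcon
  have h1 := h_bound h hc hk hk'
  have h2 : 16 * b ^ 4 * T ≤ 16 * c ^ 4 * T :=
    Nat.mul_le_mul_right _ (Nat.mul_le_mul_left _ (Nat.pow_le_pow_left (not_lt.1 hcon) 4))
  omega

/-- the cofactor of `k` -/
theorem cof_k (h : LW p q k A k' B W) {T c t : ℕ} (hc : A = c * T) (ht : T = k * t) :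
    ∃ g : ℕ, (g = 1 ∨ g = 3) ∧ (q % 4 = 3 ∧ 2 * (c * t) = g * (q - 1) ∨ q % 4 = 1 ∧ 2 * (c * t) = g * (q + 1)) := by
  have hk0 : 0 < k := by have := (k_ge h).1; omega
  have hq := h.q7
  obtain ⟨s, rfl⟩ : ∃ s, q = s + 1 := ⟨q - 1, by omega⟩
  rcases h.side.cof h.q2 with ⟨h1, h2, -⟩ | ⟨h1, -, h2⟩
  · obtain ⟨g, hg, hg'⟩ : ∃ g : ℕ, (g = 1 ∨ g = 3) ∧ g * k = (s + 1) ^ 2 + (s + 1) + 1 := by
      rcases h2 with h2 | ⟨h2, -⟩
      · exact ⟨1, Or.inl rfl, by rw [one_mul, h2]⟩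
      · exact ⟨3, Or.inr rfl, h2⟩
    refine ⟨g, hg, Or.inl ⟨h1, ?_⟩⟩
    have h3 : 2 * A + 1 = (s + 1) ^ 3 := by
      rcases h.side.two_mul with ⟨-, h3, -⟩ | ⟨h3, -⟩
      · exact h3
      · omega
    rw [Nat.add_sub_cancel]
    apply Nat.eq_of_mul_eq_mul_right hk0
    have h4 : 2 * A = 2 * (c * t) * k := by rw [hc, ht]; ring
    have h5 : g * s * k = s * ((s + 1) ^ 2 + (s + 1) + 1) := by rw [← hg']; ring
    have h6 : s * ((s + 1) ^ 2 + (s + 1) + 1) + 1 = (s + 1) ^ 3 := by ring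
    rw [h5, ← h4]
    omega
  · obtain ⟨g, hg, hg'⟩ : ∃ g : ℕ, (g = 1 ∨ g = 3) ∧ g * k = (s + 1) ^ 2 - (s + 1) + 1 := by
      rcases h2 with h2 | ⟨h2, -⟩
      · exact ⟨1, Or.inl rfl, by rw [one_mul, h2]⟩
      · exact ⟨3, Or.inr rfl, h2⟩
    refine ⟨g, hg, Or.inr ⟨h1, ?_⟩⟩
    have h3 : 2 * A = (s + 1) ^ 3 + 1 := by
      rcases h.side.two_mul with ⟨h3, -⟩ | ⟨-, h3, -⟩
      · omega
      · exact h3
    apply Nat.eq_of_mul_eq_mul_right hk0
    have h4 : 2 * A = 2 * (c * t) * k := by rw [hc, ht]; ring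
    have h0 : (s + 1) ^ 2 - (s + 1) + 1 = s ^ 2 + s + 1 := by
      have : (s + 1) ^ 2 = s ^ 2 + s + (s + 1) := by ring
      omega
    rw [h0] at hg'
    have h5 : g * (s + 1 + 1) * k = (s + 1 + 1) * (s ^ 2 + s + 1) := by rw [← hg']; ring
    rw [h5, ← h4, h3]
    ring

/-- **A torus `T ∣ A` and an order `p (q² + 1) / 2` close to `T`.** -/
theorem pz_kill (h : LW p q k A k' B W) {T X κ : ℕ} (hT : T ∣ A) (hκ : κ = 1 ∨ κ = 2 ∨ κ = 4)
    (hX : 2 * X = κ * (p * (q ^ 2 + 1)))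
    (h1 : 2 * (q : ℤ) * |(T : ℤ) - X| + κ * p * (q + 1) < 2 * p * T) (h2 : (q : ℤ) + 1 < 2 * |(T : ℤ) - X|) :
    False := by
  obtain ⟨c, hc⟩ := hT
  rw [mul_comm] at hc
  obtain ⟨q₁, hq₁⟩ := h.p_dvd
  have hp0 : 0 < p := h.pp.pos
  have hq0 : 0 < q := by have := h.q7; omega
  have hq10 : q₁ ≠ 0 := by rintro rfl; omega
  -- the sign
  obtain ⟨ε, hε, hA⟩ : ∃ ε : ℤ, (ε = 1 ∨ ε = -1) ∧ 2 * (A : ℤ) = (q : ℤ) ^ 3 - ε := by
    rcases h.side.two_mul with ⟨-, a, -, -⟩ | ⟨-, a, -, -⟩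
    · refine ⟨1, Or.inl rfl, ?_⟩
      have h0 : ((2 * A + 1 : ℕ) : ℤ) = ((q ^ 3 : ℕ) : ℤ) := by exact_mod_cast a
      push_cast at h0
      linarith
    · refine ⟨-1, Or.inr rfl, ?_⟩
      have h0 : ((2 * A : ℕ) : ℤ) = ((q ^ 3 + 1 : ℕ) : ℤ) := by exact_mod_cast a
      push_cast at h0
      linarith
  have hX' : 2 * (X : ℤ) = κ * (p * ((q : ℤ) ^ 2 + 1)) := by exact_mod_cast hX
  have hc' : (A : ℤ) = c * T := by exact_mod_cast hc
  have hq' : (q : ℤ) = p * q₁ := by exact_mod_cast hq₁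
  have key : 2 * (p : ℤ) * ((q₁ : ℤ) - κ * c) * T = 2 * q * (T - X) + κ * p * (q + ε) := by
    have e1 : 2 * (p : ℤ) * q₁ * T = 2 * q * T := by rw [hq']; ring
    linear_combination e1 - (κ * p : ℤ) * hA + (2 * κ * p : ℤ) * hc' + (q : ℤ) * hX'
  have hT0 : (0 : ℤ) < 2 * p * T := lt_of_le_of_lt (by positivity) h1
  have hj : (q₁ : ℤ) - κ * c = 0 := by
    have hd : (2 * p * T : ℤ) ∣ 2 * q * (T - X) + κ * p * (q + ε) := ⟨(q₁ : ℤ) - κ * c, by rw [← key]; ring⟩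
    have h3 : |2 * (q : ℤ) * (T - X) + κ * p * (q + ε)| < 2 * p * T := by
      refine lt_of_le_of_lt (abs_add_le _ _) (lt_of_le_of_lt ?_ h1)
      rw [abs_mul, abs_of_nonneg (show (0 : ℤ) ≤ 2 * q by positivity)]
      refine add_le_add le_rfl ?_
      rw [abs_mul, abs_of_nonneg (show (0 : ℤ) ≤ κ * p by positivity)]
      refine mul_le_mul_of_nonneg_left ?_ (by positivity)
      rcases hε with rfl | rfl
      · rw [abs_of_nonneg (by positivity)]
      · rw [abs_of_nonneg (by omega)]; omega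
    have h4 := Int.eq_zero_of_abs_lt_dvd hd h3
    rw [h4] at key
    rcases mul_eq_zero.1 key with h5 | h5
    · rcases mul_eq_zero.1 h5 with h6 | h6
      · exact absurd h6 (by positivity)
      · exact h6
    · rw [h5, mul_zero] at hT0
      exact absurd hT0 (lt_irrefl _)
  rw [hj, mul_zero, zero_mul] at key
  -- `q₁ = κ c`, `c` is prime to `p`
  have hq1 : q₁ = κ * c := by
    have : (q₁ : ℤ) = ((κ * c : ℕ) : ℤ) := by push_cast; linarith
    exact_mod_cast this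
  have hc1 : c = 1 := by
    obtain ⟨e, he⟩ := h.qp
    have hcq : c ∣ p ^ e := by
      rw [← he, hq₁, hq1]
      exact (dvd_mul_left c κ).mul_left p
    obtain ⟨j, -, hj⟩ := (Nat.dvd_prime_pow h.pp).1 hcq
    rcases Nat.eq_zero_or_pos j with h0 | h0
    · rw [hj, h0, pow_zero]
    · exfalso
      apply h.p_not.1
      rw [hc, hj]
      exact (dvd_pow_self p h0.ne').mul_right _
  have hodd := h.q_odd
  have hκ1 : κ = 1 := by
    rw [hq1, hc1, mul_one] at hq₁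
    rcases hκ with h3 | h3 | h3
    · exact h3
    · rw [hq₁, h3, Nat.mul_mod] at hodd; simp at hodd
    · rw [hq₁, h3, Nat.mul_mod] at hodd; simp at hodd
  rw [hc1, hκ1] at hq1
  rw [hq1, mul_one, mul_one] at hq₁
  subst hκ1
  rw [← hq₁] at key
  have hqz : (0 : ℤ) < q := by exact_mod_cast hq0
  have h7 : 2 * ((T : ℤ) - X) = -(q + ε) := by
    have h8 : (q : ℤ) * (2 * ((T : ℤ) - X) + (q + ε)) = 0 := by
      push_cast at key
      linear_combination -key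
    rcases mul_eq_zero.1 h8 with h9 | h9
    · omega
    · linarith
  have h9 : 2 * |(T : ℤ) - X| ≤ q + 1 := by
    have : |2 * ((T : ℤ) - X)| = 2 * |(T : ℤ) - X| := by rw [abs_mul, abs_two]
    rw [← this, h7, abs_neg]
    rcases hε with rfl | rfl
    · rw [abs_of_nonneg (by positivity)]
    · rw [abs_of_nonneg (by omega)]; omega
  omega

/-- the same, simplified -/
theorem pz_kill' (h : LW p q k A k' B W) {T X κ : ℕ} (hT : T ∣ A) (hκ : κ = 1 ∨ κ = 2 ∨ κ = 4)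
    (hX : 2 * X = κ * (p * (q ^ 2 + 1))) {Y : ℤ} (hY : |(T : ℤ) - X| = Y)
    (h1 : 50 * (q : ℤ) * Y + 8 * X < 150 * T) (h2 : (q : ℤ) + 1 < 2 * Y) : False := by
  subst hY
  refine pz_kill h hT hκ hX ?_ h2
  have hX' : 2 * (X : ℤ) = κ * (p * ((q : ℤ) ^ 2 + 1)) := by exact_mod_cast hX
  have hqz : (7 : ℤ) ≤ q := by exact_mod_cast h.q7
  have hpz : (3 : ℤ) ≤ p := by exact_mod_cast h.p3
  have h3 : 25 * ((q : ℤ) + 1) ≤ 4 * (q ^ 2 + 1) := by nlinarith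
  have h4 : (κ * p : ℤ) * (25 * ((q : ℤ) + 1)) ≤ (κ * p : ℤ) * (4 * (q ^ 2 + 1)) :=
    mul_le_mul_of_nonneg_left h3 (by positivity)
  have hT0 : (0 : ℤ) ≤ T := by positivity
  have h5 : 3 * (T : ℤ) ≤ p * T := mul_le_mul_of_nonneg_right hpz hT0
  linarith

end

/-! ### the second state -/

section

variable {p q k A k' B m i : ℕ} {W : ℕ → Prop} {S : Type u} [Group S]

theorem mod_one_of {w : ℕ} (hw : 1 < w) : ∀ n : ℕ, n ≠ 0 → (∀ y : ℕ, y.Prime → y ∣ n → y % w = 1) → n % w = 1 := by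
  intro n
  induction n using Nat.recOnMul with
  | zero => intro h; exact absurd rfl h
  | one => intro _ _; exact Nat.mod_eq_of_lt hw
  | prime y hy => intro _ h; exact h y hy dvd_rfl
  | mul a b ha hb =>
    intro h0 h
    rw [Nat.mul_mod, ha (fun h1 => h0 (by rw [h1, zero_mul])) (fun y hy hd => h y hy (hd.mul_right b)),
      hb (fun h1 => h0 (by rw [h1, mul_zero])) (fun y hy hd => h y hy (hd.mul_left a)), one_mul]
    exact Nat.mod_eq_of_lt hw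

/-- `z ≢ 1` modulo a prime of `k'` -/
theorem z_mod (h : LW p q k A k' B W) {w : ℕ} (hw : w.Prime) (hk : w ∣ k') : (q ^ 2 + 1) / 2 % w ≠ 1 := by
  intro h1
  obtain ⟨h7, -, -, h4⟩ := h.side.prime h.q2 hw (Or.inr hk)
  apply h4
  have hz := h.side.z.1
  have h2 : w ∣ (q ^ 2 + 1) / 2 - 1 := by
    have := Nat.dvd_sub_mod (n := w) ((q ^ 2 + 1) / 2)
    rwa [h1] at this
  have hq := h.q7
  have hq2 : 49 ≤ q ^ 2 := by
    calc 49 = 7 ^ 2 := by norm_num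
      _ ≤ q ^ 2 := Nat.pow_le_pow_left hq 2
  have h3 : w ∣ q ^ 2 - 1 := by
    have e : q ^ 2 - 1 = 2 * ((q ^ 2 + 1) / 2 - 1) := by omega
    rw [e]
    exact h2.mul_left 2
  have e : q ^ 4 - 1 = (q ^ 2 + 1) * (q ^ 2 - 1) := by
    obtain ⟨t, ht⟩ : ∃ t, q ^ 2 = t + 1 := ⟨q ^ 2 - 1, by omega⟩
    rw [show q ^ 4 = (q ^ 2) ^ 2 by ring, ht, Nat.add_sub_cancel]
    have : (t + 1) ^ 2 = (t + 1 + 1) * t + 1 := by ring
    omega
  rw [e]
  exact h3.mul_left _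

/-- in the second state a prime of `k'` does not divide `i` -/
theorem SX.noFld (h : SX p q k A k' B m i W S) {v w : ℕ} (hw : w.Prime) (hk : w ∣ k') (hi : w ∣ i)
    (h2 : ∀ r : ℕ, r.Prime → (r ∣ (q ^ 2 + 1) / 2 ∨ r = p) → ¬ r ∣ m ∧ ¬ r ∣ i) (hF : F1.FldDat v w S) : False := by
  have hz0 : (q ^ 2 + 1) / 2 ≠ 0 := by
    have := h.lw.q7
    have : 49 ≤ q ^ 2 := by
      calc 49 = 7 ^ 2 := by norm_num
        _ ≤ q ^ 2 := Nat.pow_le_pow_left this 2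
    omega
  refine z_mod h.lw hw hk (mod_one_of hw.one_lt _ hz0 fun y hy hd => ?_)
  by_contra hne
  have h3 := h.lw.side.z_prime h.lw.q2 hy hd
  have hg := h2 y hy (Or.inl hd)
  have hWy := h.W_prime hy (Or.inr (Or.inr (Or.inl hd)))
  have hyw : w ≠ y := h.lw.ne_kz hw (Or.inr hk) (Or.inl hd)
  have h4 := h.fld w v y hw hi hF hy hyw (Or.inr ⟨h3.1, hne⟩) (h.dvd_card hy hWy hg.1 hg.2)
  exact h.lw.naz hw (Or.inr hk) hy (Or.inl hd) h4 (dvd_mul_right _ _) (dvd_mul_left _ _)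

/-- in the second state, if a prime of `k'` divides `m`, then the Sylow `y`-subgroups of `S`, `y ∣ p z`, are cyclic -/
theorem SX.cyc (h : SX p q k A k' B m i W S) {w y : ℕ} (hw : w.Prime) (hk : w ∣ k') (hm : w ∣ m) (hy : y.Prime)
    (hz : y ∣ (q ^ 2 + 1) / 2 ∨ y = p) : ∃ x : S, y ^ (Nat.card S).factorization y ∣ orderOf x := by
  by_contra hcon
  push Not at hcon
  have := h.fin
  have hy2 : y ≠ 2 := by
    rcases hz with hz | rfl
    · have := (h.lw.side.z_prime h.lw.q2 hy hz).1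
      omega
    · exact h.lw.p2
  obtain ⟨P, hP, -, hnc⟩ := exists_noncyclic hy hy2 hcon
  have h2 := h.ncyc w y hw hy hm (h.lw.ne_kz hw (Or.inr hk) hz).symm hy2 ⟨P, hP, hnc⟩
  exact h.lw.naz hw (Or.inr hk) hy hz h2 (dvd_mul_left _ _) (dvd_mul_right _ _)

theorem z_ge (h : LW p q k A k' B W) : 25 ≤ (q ^ 2 + 1) / 2 := by
  have := h.q7
  have : 49 ≤ q ^ 2 := by
    calc 49 = 7 ^ 2 := by norm_num
      _ ≤ q ^ 2 := Nat.pow_le_pow_left this 2
  omega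

/-- an order divisible by `p (q² + 1) / 2` -/
theorem SX.pzD (h : SX p q k A k' B m i W S) {D : ℕ} (hD : ∃ x : S, orderOf x = D) (hd : p * ((q ^ 2 + 1) / 2) ∣ D) :
    ∃ κ : ℕ, (κ = 1 ∨ κ = 2) ∧ D = κ * (p * ((q ^ 2 + 1) / 2)) ∧ 2 * D = κ * (p * (q ^ 2 + 1)) := by
  have hz := z_ge h.lw
  obtain ⟨r, hr, hrz⟩ := Nat.exists_prime_and_dvd (show (q ^ 2 + 1) / 2 ≠ 1 by omega)
  obtain ⟨x, rfl⟩ := hD
  have h1 := h.lw.upz r hr hrz _ (h.WS x) (hrz.trans ((dvd_mul_left _ _).trans hd)) ((dvd_mul_right _ _).trans hd)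
  obtain ⟨κ, hκ⟩ := hd
  have h2 : p * (q ^ 2 + 1) = p * ((q ^ 2 + 1) / 2) * 2 := by
    have := h.lw.side.z.1
    calc p * (q ^ 2 + 1) = p * (2 * ((q ^ 2 + 1) / 2)) := by rw [this]
      _ = _ := by ring
  have hpos : 0 < p * ((q ^ 2 + 1) / 2) := Nat.mul_pos h.lw.pp.pos (by omega)
  rw [h2, hκ] at h1
  have h3 : κ ∣ 2 := Nat.dvd_of_mul_dvd_mul_left hpos h1
  refine ⟨κ, (Nat.dvd_prime Nat.prime_two).1 h3, by rw [hκ, mul_comm], ?_⟩
  rw [hκ, h2]
  ring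

/-- `p z` does not divide `A` or `B` -/
theorem SX.pz_not (h : SX p q k A k' B m i W S) {D : ℕ} (hd : p * ((q ^ 2 + 1) / 2) ∣ D) : ¬ D ∣ A ∧ ¬ D ∣ B :=
  ⟨fun h1 => h.lw.p_not.1 ((dvd_mul_right _ _).trans (hd.trans h1)),
    fun h1 => h.lw.p_not.2 ((dvd_mul_right _ _).trans (hd.trans h1))⟩

/-- an order divisible by `k` divides `A` -/
theorem SX.dvdA (h : SX p q k A k' B m i W S) {T : ℕ} (hT : ∃ x : S, orderOf x = T) (hk : k ∣ T) : T ∣ A := by
  obtain ⟨r, hr, hrk⟩ := Nat.exists_prime_and_dvd h.lw.k_pos.1.ne'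
  obtain ⟨x, rfl⟩ := hT
  exact h.uk hr hrk x (hrk.trans hk)

theorem SX.dvdA' (h : SX p q k A k' B m i W S) {T r : ℕ} (hT : ∃ x : S, orderOf x = T) (hr : r.Prime) (hk : r ∣ k)
    (hd : r ∣ T) : T ∣ A := by
  obtain ⟨x, rfl⟩ := hT
  exact h.uk hr hk x hd

theorem SX.dvdB (h : SX p q k A k' B m i W S) {T r : ℕ} (hT : ∃ x : S, orderOf x = T) (hr : r.Prime) (hk : r ∣ k')
    (hd : r ∣ T) : T ∣ B := by
  obtain ⟨x, rfl⟩ := hT
  exact h.uk' hr hk x hd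

/-- the order of an element divisible by `p` and by a prime of `z` -/
theorem SX.upz (h : SX p q k A k' B m i W S) {r : ℕ} (hr : r.Prime) (hz : r ∣ (q ^ 2 + 1) / 2) (x : S)
    (h1 : r ∣ orderOf x) (h2 : p ∣ orderOf x) : orderOf x ∣ p * (q ^ 2 + 1) := h.lw.upz r hr hz _ (h.WS x) h1 h2

end

end Cfsg.Agent.R2.Spec.X4.H18
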