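import Cfsg.Agent.H75.M5hExc
import Cfsg.Agent.R2.Spec.X4.H18.Gen

/-!
# Box X4 of S3435 : rows `E₇(u)`, `E₈(u)` (helper18)

`k ∈ ω(S)` has class in `[7, 9, 12, 14, 18]` (resp. `[15, 20, 24, 30]`), so `k ≤ ph 7 u` (resp. `≤ 2 u⁸`), and the product
of the `ph j u` divides `2 p² (q⁶ - 1) (q² + 1) ≤ 960 k⁵`.
-/

set_option autoImplicit false
set_option linter.unusedVariables false

namespace Cfsg.Agent.R2.Spec.X4.H18

open Cfsg Cfsg.Lie Cfsg.Lie.ChevalleyDatum Cfsg.Agent.H376.Six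
open Cfsg.Agent.ChevalleyStructure.CoxeterGeomTypes Cfsg.Agent.Nodes.RGDChev
open Cfsg.Agent.BpExc.RowsUntw Cfsg.Agent.BpExc.FamInst Cfsg.Agent.BpExc.FamExt
open Cfsg.Agent.H77.E4Poly Cfsg.Agent.H77.E4Tor Cfsg.Agent.H378.ExcAdj Cfsg.Agent.H378.ExcNear Cfsg.Agent.H77.E4Cls
open Cfsg.Agent.H493.PGCyc Cfsg.Agent.H493.PGTorus Cfsg.Agent.H129.WData
open Cfsg.Agent.H75.M5h (ph ph_pos mul5 prod7 prod8 cls_E7 cls_E8 Pz_eq)
open Cfsg.Agent.H426.LieFam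

universe u w

/-- one element order from a row -/
theorem of_row78 {D : ChevalleyDatum} {F : Type u} [Field F] [Finite F] {d k V : ℕ} (hd2 : d ∣ 2)
    (h : ∀ x : ↥(D.group F), 2 * orderOf x ∣ V) (hk : 0 < ph k (Nat.card F : ℕ))
    (hx : ∀ m : ℕ, 0 < m → (m : ℤ) ∣ ph k (Nat.card F : ℕ) → ∃ x : ↥(D.group F), m ∣ orderOf x * Nat.gcd d (Nat.card F - 1)) :
    ph k (Nat.card F : ℕ) ∣ (V : ℤ) := by
  obtain ⟨n, hn⟩ := Int.eq_ofNat_of_zero_le hk.le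
  obtain ⟨x, hx⟩ := hx n (by omega) (by rw [hn])
  rw [hn]
  refine Int.natCast_dvd_natCast.2 ((hx.trans ?_).trans (h x))
  rw [mul_comm 2]
  exact Nat.mul_dvd_mul_left _ ((Nat.gcd_dvd_left _ _).trans hd2)

theorem rowE7_5 {V : ℕ} {F : Type u} [Field F] [Finite F] (h : ∀ x : ↥(chevE7.group F), 2 * orderOf x ∣ V) :
    ph 5 (Nat.card F : ℕ) ∣ (V : ℤ) := by
  have := H493.PGE7.finW
  have hF : 2 ≤ Nat.card F := Finite.one_lt_card
  refine of_row78 (d := 2) dvd_rfl h (ph_pos (by exact_mod_cast hF)) fun m hm hd => ?_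
  exact exists_row H493.PGE7.hp CoxeterMatrix.E₇.toCoxeterSystem H129.TorusChar.invC_E7 two_ne_zero H493.PGE7.hA H559.ConjE7.chain5_ok H559.ConjE7.eig5 hm
    (by rw [pv_c5]; exact hd)

theorem rowE7_7 {V : ℕ} {F : Type u} [Field F] [Finite F] (h : ∀ x : ↥(chevE7.group F), 2 * orderOf x ∣ V) :
    ph 7 (Nat.card F : ℕ) ∣ (V : ℤ) := by
  have := H493.PGE7.finW
  have hF : 2 ≤ Nat.card F := Finite.one_lt_card
  refine of_row78 (d := 2) dvd_rfl h (ph_pos (by exact_mod_cast hF)) fun m hm hd => ?_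
  exact exists_row H493.PGE7.hp CoxeterMatrix.E₇.toCoxeterSystem H129.TorusChar.invC_E7 two_ne_zero H493.PGE7.hA H493.PGE7.chain7_ok H493.PGE7.eig7 hm
    (by rw [pv_c7]; exact hd)

theorem rowE7_8 {V : ℕ} {F : Type u} [Field F] [Finite F] (h : ∀ x : ↥(chevE7.group F), 2 * orderOf x ∣ V) :
    ph 8 (Nat.card F : ℕ) ∣ (V : ℤ) := by
  have := H493.PGE7.finW
  have hF : 2 ≤ Nat.card F := Finite.one_lt_card
  refine of_row78 (d := 2) dvd_rfl h (ph_pos (by exact_mod_cast hF)) fun m hm hd => ?_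
  exact exists_row H493.PGE7.hp CoxeterMatrix.E₇.toCoxeterSystem H129.TorusChar.invC_E7 two_ne_zero H493.PGE7.hA H559.ConjE7.chain8_ok H559.ConjE7.eig8 hm
    (by rw [pv_c8]; exact hd)

theorem rowE7_9 {V : ℕ} {F : Type u} [Field F] [Finite F] (h : ∀ x : ↥(chevE7.group F), 2 * orderOf x ∣ V) :
    ph 9 (Nat.card F : ℕ) ∣ (V : ℤ) := by
  have := H493.PGE7.finW
  have hF : 2 ≤ Nat.card F := Finite.one_lt_card
  refine of_row78 (d := 2) dvd_rfl h (ph_pos (by exact_mod_cast hF)) fun m hm hd => ?_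
  exact exists_row H493.PGE7.hp CoxeterMatrix.E₇.toCoxeterSystem H129.TorusChar.invC_E7 two_ne_zero H493.PGE7.hA H493.PGE7.chain9_ok H493.PGE7.eig9 hm
    (by rw [pv_c9]; exact hd)

theorem rowE7_10 {V : ℕ} {F : Type u} [Field F] [Finite F] (h : ∀ x : ↥(chevE7.group F), 2 * orderOf x ∣ V) :
    ph 10 (Nat.card F : ℕ) ∣ (V : ℤ) := by
  have := H493.PGE7.finW
  have hF : 2 ≤ Nat.card F := Finite.one_lt_card
  refine of_row78 (d := 2) dvd_rfl h (ph_pos (by exact_mod_cast hF)) fun m hm hd => ?_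
  exact exists_row H493.PGE7.hp CoxeterMatrix.E₇.toCoxeterSystem H129.TorusChar.invC_E7 two_ne_zero H493.PGE7.hA H559.ConjE7.chain10_ok H559.ConjE7.eig10 hm
    (by rw [pv_c10]; exact hd)

theorem rowE7_12 {V : ℕ} {F : Type u} [Field F] [Finite F] (h : ∀ x : ↥(chevE7.group F), 2 * orderOf x ∣ V) :
    ph 12 (Nat.card F : ℕ) ∣ (V : ℤ) := by
  have := H493.PGE7.finW
  have hF : 2 ≤ Nat.card F := Finite.one_lt_card
  refine of_row78 (d := 2) dvd_rfl h (ph_pos (by exact_mod_cast hF)) fun m hm hd => ?_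
  exact exists_row H493.PGE7.hp CoxeterMatrix.E₇.toCoxeterSystem H129.TorusChar.invC_E7 two_ne_zero H493.PGE7.hA H559.ConjE7.chain12_ok H559.ConjE7.eig12 hm
    (by rw [pv_c12]; exact hd)

theorem rowE7_14 {V : ℕ} {F : Type u} [Field F] [Finite F] (h : ∀ x : ↥(chevE7.group F), 2 * orderOf x ∣ V) :
    ph 14 (Nat.card F : ℕ) ∣ (V : ℤ) := by
  have := H493.PGE7.finW
  have hF : 2 ≤ Nat.card F := Finite.one_lt_card
  refine of_row78 (d := 2) dvd_rfl h (ph_pos (by exact_mod_cast hF)) fun m hm hd => ?_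
  exact exists_row H493.PGE7.hp CoxeterMatrix.E₇.toCoxeterSystem H129.TorusChar.invC_E7 two_ne_zero H493.PGE7.hA H493.PGE7.chain14_ok H493.PGE7.eig14 hm
    (by rw [pv_c14]; exact hd)

theorem rowE7_18 {V : ℕ} {F : Type u} [Field F] [Finite F] (h : ∀ x : ↥(chevE7.group F), 2 * orderOf x ∣ V) :
    ph 18 (Nat.card F : ℕ) ∣ (V : ℤ) := by
  have := H493.PGE7.finW
  have hF : 2 ≤ Nat.card F := Finite.one_lt_card
  refine of_row78 (d := 2) dvd_rfl h (ph_pos (by exact_mod_cast hF)) fun m hm hd => ?_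
  exact exists_row H493.PGE7.hp CoxeterMatrix.E₇.toCoxeterSystem H129.TorusChar.invC_E7 two_ne_zero H493.PGE7.hA H493.PGE7.chain18_ok H493.PGE7.eig18 hm
    (by rw [pv_c18]; exact hd)

theorem rowE8_7 {V : ℕ} {F : Type u} [Field F] [Finite F] (h : ∀ x : ↥(chevE8.group F), 2 * orderOf x ∣ V) :
    ph 7 (Nat.card F : ℕ) ∣ (V : ℤ) := by
  have := H493.PGE8.finW
  have hF : 2 ≤ Nat.card F := Finite.one_lt_card
  refine of_row78 (d := 1) (by norm_num) h (ph_pos (by exact_mod_cast hF)) fun m hm hd => ?_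
  exact exists_row H493.PGE8.hp CoxeterMatrix.E₈.toCoxeterSystem H129.TorusChar.invC_E8 one_ne_zero H493.PGE8.hA H559.ConjE8.chain7_ok H559.ConjE8.eig7 hm
    (by rw [pv_c7]; exact hd)

theorem rowE8_9 {V : ℕ} {F : Type u} [Field F] [Finite F] (h : ∀ x : ↥(chevE8.group F), 2 * orderOf x ∣ V) :
    ph 9 (Nat.card F : ℕ) ∣ (V : ℤ) := by
  have := H493.PGE8.finW
  have hF : 2 ≤ Nat.card F := Finite.one_lt_card
  refine of_row78 (d := 1) (by norm_num) h (ph_pos (by exact_mod_cast hF)) fun m hm hd => ?_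
  exact exists_row H493.PGE8.hp CoxeterMatrix.E₈.toCoxeterSystem H129.TorusChar.invC_E8 one_ne_zero H493.PGE8.hA H559.ConjE8.chain9_ok H559.ConjE8.eig9 hm
    (by rw [pv_c9]; exact hd)

theorem rowE8_14 {V : ℕ} {F : Type u} [Field F] [Finite F] (h : ∀ x : ↥(chevE8.group F), 2 * orderOf x ∣ V) :
    ph 14 (Nat.card F : ℕ) ∣ (V : ℤ) := by
  have := H493.PGE8.finW
  have hF : 2 ≤ Nat.card F := Finite.one_lt_card
  refine of_row78 (d := 1) (by norm_num) h (ph_pos (by exact_mod_cast hF)) fun m hm hd => ?_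
  exact exists_row H493.PGE8.hp CoxeterMatrix.E₈.toCoxeterSystem H129.TorusChar.invC_E8 one_ne_zero H493.PGE8.hA H559.ConjE8.chain14_ok H559.ConjE8.eig14 hm
    (by rw [pv_c14]; exact hd)

theorem rowE8_15 {V : ℕ} {F : Type u} [Field F] [Finite F] (h : ∀ x : ↥(chevE8.group F), 2 * orderOf x ∣ V) :
    ph 15 (Nat.card F : ℕ) ∣ (V : ℤ) := by
  have := H493.PGE8.finW
  have hF : 2 ≤ Nat.card F := Finite.one_lt_card
  refine of_row78 (d := 1) (by norm_num) h (ph_pos (by exact_mod_cast hF)) fun m hm hd => ?_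
  exact exists_row H493.PGE8.hp CoxeterMatrix.E₈.toCoxeterSystem H129.TorusChar.invC_E8 one_ne_zero H493.PGE8.hA H493.PGE8.chain15_ok H493.PGE8.eig15 hm
    (by rw [pv_c15]; exact hd)

theorem rowE8_18 {V : ℕ} {F : Type u} [Field F] [Finite F] (h : ∀ x : ↥(chevE8.group F), 2 * orderOf x ∣ V) :
    ph 18 (Nat.card F : ℕ) ∣ (V : ℤ) := by
  have := H493.PGE8.finW
  have hF : 2 ≤ Nat.card F := Finite.one_lt_card
  refine of_row78 (d := 1) (by norm_num) h (ph_pos (by exact_mod_cast hF)) fun m hm hd => ?_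
  exact exists_row H493.PGE8.hp CoxeterMatrix.E₈.toCoxeterSystem H129.TorusChar.invC_E8 one_ne_zero H493.PGE8.hA H559.ConjE8.chain18_ok H559.ConjE8.eig18 hm
    (by rw [pv_c18]; exact hd)

theorem rowE8_20 {V : ℕ} {F : Type u} [Field F] [Finite F] (h : ∀ x : ↥(chevE8.group F), 2 * orderOf x ∣ V) :
    ph 20 (Nat.card F : ℕ) ∣ (V : ℤ) := by
  have := H493.PGE8.finW
  have hF : 2 ≤ Nat.card F := Finite.one_lt_card
  refine of_row78 (d := 1) (by norm_num) h (ph_pos (by exact_mod_cast hF)) fun m hm hd => ?_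
  exact exists_row H493.PGE8.hp CoxeterMatrix.E₈.toCoxeterSystem H129.TorusChar.invC_E8 one_ne_zero H493.PGE8.hA H493.PGE8.chain20_ok H493.PGE8.eig20 hm
    (by rw [pv_c20]; exact hd)

theorem rowE8_24 {V : ℕ} {F : Type u} [Field F] [Finite F] (h : ∀ x : ↥(chevE8.group F), 2 * orderOf x ∣ V) :
    ph 24 (Nat.card F : ℕ) ∣ (V : ℤ) := by
  have := H493.PGE8.finW
  have hF : 2 ≤ Nat.card F := Finite.one_lt_card
  refine of_row78 (d := 1) (by norm_num) h (ph_pos (by exact_mod_cast hF)) fun m hm hd => ?_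
  exact exists_row H493.PGE8.hp CoxeterMatrix.E₈.toCoxeterSystem H129.TorusChar.invC_E8 one_ne_zero H493.PGE8.hA H493.PGE8.chain24_ok H493.PGE8.eig24 hm
    (by rw [pv_c24]; exact hd)

theorem rowE8_30 {V : ℕ} {F : Type u} [Field F] [Finite F] (h : ∀ x : ↥(chevE8.group F), 2 * orderOf x ∣ V) :
    ph 30 (Nat.card F : ℕ) ∣ (V : ℤ) := by
  have := H493.PGE8.finW
  have hF : 2 ≤ Nat.card F := Finite.one_lt_card
  refine of_row78 (d := 1) (by norm_num) h (ph_pos (by exact_mod_cast hF)) fun m hm hd => ?_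
  exact exists_row H493.PGE8.hp CoxeterMatrix.E₈.toCoxeterSystem H129.TorusChar.invC_E8 one_ne_zero H493.PGE8.hA H493.PGE8.chain30_ok H493.PGE8.eig30 hm
    (by rw [pv_c30]; exact hd)

/-! ### numbers -/

/-- `2 p² (q⁶ - 1) (q² + 1) ≤ 960 k⁵` -/
theorem bound_k {p q k : ℕ} (hp0 : 0 < p) (hpq : p ≤ q) (hq7 : 7 ≤ q) (hk : q ^ 2 - q + 1 ≤ 3 * k) :
    0 < ((2 * (p ^ 2 * ((q ^ 6 - 1) * (q ^ 2 + 1))) : ℕ) : ℤ) ∧
      ((2 * (p ^ 2 * ((q ^ 6 - 1) * (q ^ 2 + 1))) : ℕ) : ℤ) ≤ 960 * (k : ℤ) ^ 5 := by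
  have h1 : 1 < q ^ 6 := Nat.one_lt_pow (by norm_num) (by omega)
  constructor
  · have : 0 < 2 * (p ^ 2 * ((q ^ 6 - 1) * (q ^ 2 + 1))) := by
      have : 0 < q ^ 6 - 1 := by omega
      positivity
    exact_mod_cast this
  · have h2 : q ≤ q ^ 2 := Nat.le_self_pow (by norm_num) _
    zify [h2] at hk
    have h3 : 2 * (p ^ 2 * ((q ^ 6 - 1) * (q ^ 2 + 1))) ≤ 2 * (q ^ 2 * ((q ^ 6 - 1) * (q ^ 2 + 1))) :=
      Nat.mul_le_mul_left _ (Nat.mul_le_mul_right _ (Nat.pow_le_pow_left hpq 2))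
    have h4 : ((2 * (q ^ 2 * ((q ^ 6 - 1) * (q ^ 2 + 1))) : ℕ) : ℤ) = 2 * (q ^ 2 * ((q ^ 6 - 1) * (q ^ 2 + 1))) := by
      push_cast [Nat.cast_sub h1.le]
      ring
    refine (Int.ofNat_le.2 h3).trans ?_
    rw [h4]
    obtain ⟨t, ht⟩ : ∃ t : ℤ, 0 ≤ t ∧ (q : ℤ) = t + 7 := ⟨q - 7, by omega, by ring⟩
    obtain ⟨ht0, ht⟩ := ht
    rw [ht] at hk ⊢
    generalize (k : ℤ) = a at hk ⊢
    clear * - hk ht0
    have h5 : 0 ≤ (t + 7) ^ 2 - (t + 7) + 1 := by nlinarith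
    have h6 : ((t + 7) ^ 2 - (t + 7) + 1) ^ 5 ≤ (3 * a) ^ 5 := pow_le_pow_left₀ h5 hk 5
    have h7 : 0 ≤ 960 * ((t + 7) ^ 2 - (t + 7) + 1) ^ 5 - 243 * (2 * ((t + 7) ^ 2 * (((t + 7) ^ 6 - 1) * ((t + 7) ^ 2 + 1)))) := by
      clear * - ht0
      ring_nf
      positivity
    nlinarith

/-- `u = 2`: the product does not divide -/
theorem no_two78 : ∀ q < 22, 7 ≤ q → ∀ p < 22, ¬ (31 * (127 * (73 * 43)) ∣ 2 * (p ^ 2 * ((q ^ 6 - 1) * (q ^ 2 + 1))) ∧ 0 < p) := by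
  decide +kernel

theorem num7x {x a V : ℤ} (hx : 3 ≤ x) (ha : 0 < a) (hV : 0 < V) (hVa : V ≤ 960 * a ^ 5) (hax : a ≤ ph 7 x)
    (h5 : ph 5 x ∣ V) (h7 : ph 7 x ∣ V) (h8 : ph 8 x ∣ V) (h9 : ph 9 x ∣ V) (h10 : ph 10 x ∣ V)
    (h12 : ph 12 x ∣ V) (h14 : ph 14 x ∣ V) (h18 : ph 18 x ∣ V) : False := by
  have h1 := Int.le_of_dvd hV (prod7 h5 h7 h8 h9 h10 h12 h14 h18)
  have h0 : 0 ≤ x := by omega
  have e1 : x ^ 8 ≤ ph 5 x * ph 10 x := by
    have : ph 5 x * ph 10 x = x ^ 8 + (x ^ 6 + x ^ 4 + x ^ 2 + 1) := by simp only [ph]; ring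
    rw [this]; linarith [show 0 ≤ x ^ 6 + x ^ 4 + x ^ 2 + 1 by positivity]
  have e2 : x ^ 12 ≤ ph 7 x * ph 14 x := by
    have : ph 7 x * ph 14 x = x ^ 12 + (x ^ 10 + x ^ 8 + x ^ 6 + x ^ 4 + x ^ 2 + 1) := by simp only [ph]; ring
    rw [this]; linarith [show 0 ≤ x ^ 10 + x ^ 8 + x ^ 6 + x ^ 4 + x ^ 2 + 1 by positivity]
  have e3 : x ^ 12 ≤ ph 9 x * ph 18 x := by
    have : ph 9 x * ph 18 x = x ^ 12 + (x ^ 6 + 1) := by simp only [ph]; ring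
    rw [this]; linarith [show 0 ≤ x ^ 6 + 1 by positivity]
  have e4 : x ^ 4 ≤ ph 8 x := by simp only [ph]; linarith
  have e5 : x ^ 3 ≤ ph 12 x := by
    have : ph 12 x = x ^ 3 + (x ^ 2 * (x * (x - 1) - 1) + 1) := by simp only [ph]; ring
    rw [this]
    have h3 : 0 ≤ x * (x - 1) - 1 := by nlinarith
    linarith [show 0 ≤ x ^ 2 * (x * (x - 1) - 1) + 1 by positivity]
  have e6 : 2 * ph 7 x ≤ 3 * x ^ 6 := by
    obtain ⟨k, hk, rfl⟩ : ∃ k : ℤ, 0 ≤ k ∧ x = k + 3 := ⟨x - 3, by omega, by ring⟩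
    have h3 : 3 * (k + 3) ^ 6 - 2 * ph 7 (k + 3) = k^6 + 16*k^5 + 103*k^4 + 334*k^3 + 547*k^2 + 364*k + 1 := by simp only [ph]; ring
    have h4 : 0 ≤ k^6 + 16*k^5 + 103*k^4 + 334*k^3 + 547*k^2 + 364*k + 1 := by positivity
    linarith
  have h3 : x ^ 39 ≤ ph 5 x * ph 7 x * ph 8 x * ph 9 x * ph 10 x * ph 12 x * ph 14 x * ph 18 x := by
    calc x ^ 39 = x ^ 8 * x ^ 12 * x ^ 12 * x ^ 4 * x ^ 3 := by ring
      _ ≤ (ph 5 x * ph 10 x) * (ph 7 x * ph 14 x) * (ph 9 x * ph 18 x) * ph 8 x * ph 12 x :=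
        mul5 (by positivity) (by positivity) (by positivity) (by positivity) (by positivity) e1 e2 e3 e4 e5
      _ = _ := by ring
  have h4 : (2 * a) ^ 5 ≤ (3 * x ^ 6) ^ 5 := pow_le_pow_left₀ (by omega) (by linarith) 5
  have h5 : (3 : ℤ) ^ 9 ≤ x ^ 9 := pow_le_pow_left₀ (by norm_num) hx 9
  have h6 : (0 : ℤ) < x ^ 30 := by positivity
  have h7 : (3 : ℤ) ^ 9 * x ^ 30 ≤ x ^ 39 := by
    calc (3 : ℤ) ^ 9 * x ^ 30 ≤ x ^ 9 * x ^ 30 := Int.mul_le_mul_of_nonneg_right h5 h6.le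
      _ = x ^ 39 := by ring
  nlinarith

theorem num8x {x a V : ℤ} (hx : 2 ≤ x) (ha : 0 < a) (hV : 0 < V) (hVa : V ≤ 960 * a ^ 5) (hax : 2 * a ≤ 3 * x ^ 8)
    (h7 : ph 7 x ∣ V) (h9 : ph 9 x ∣ V) (h14 : ph 14 x ∣ V) (h15 : ph 15 x ∣ V) (h18 : ph 18 x ∣ V)
    (h20 : ph 20 x ∣ V) (h24 : ph 24 x ∣ V) (h30 : ph 30 x ∣ V) : False := by
  have h1 := Int.le_of_dvd hV (prod8 h7 h9 h14 h15 h18 h20 h24 h30)
  rcases eq_or_lt_of_le hx with rfl | hx3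
  · simp only [ph] at h1
    norm_num at h1
    have h2 : a ≤ 384 := by norm_num at hax; omega
    have h3 : a ^ 5 ≤ 384 ^ 5 := pow_le_pow_left₀ ha.le h2 5
    norm_num at h3
    omega
  have h0 : 0 ≤ x := by omega
  have e2 : x ^ 12 ≤ ph 7 x * ph 14 x := by
    have : ph 7 x * ph 14 x = x ^ 12 + (x ^ 10 + x ^ 8 + x ^ 6 + x ^ 4 + x ^ 2 + 1) := by simp only [ph]; ring
    rw [this]; linarith [show 0 ≤ x ^ 10 + x ^ 8 + x ^ 6 + x ^ 4 + x ^ 2 + 1 by positivity]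
  have e3 : x ^ 12 ≤ ph 9 x * ph 18 x := by
    have : ph 9 x * ph 18 x = x ^ 12 + (x ^ 6 + 1) := by simp only [ph]; ring
    rw [this]; linarith [show 0 ≤ x ^ 6 + 1 by positivity]
  have h3 : 0 ≤ x * (x - 1) - 1 := by nlinarith
  have h3' : 0 ≤ x - 1 := by omega
  have e4 : x ^ 15 ≤ ph 15 x * ph 30 x := by
    have : ph 15 x * ph 30 x = x ^ 15 + (x ^ 14 * (x * (x - 1) - 1) + x ^ 8 * (x ^ 2 - 1) + x ^ 2 * (x ^ 4 - 1) + 1) := by
      simp only [ph]; ring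
    have h4 : 0 ≤ x ^ 2 - 1 := by nlinarith
    have h5 : 0 ≤ x ^ 4 - 1 := by nlinarith
    rw [this]; linarith [show 0 ≤ x ^ 14 * (x * (x - 1) - 1) + x ^ 8 * (x ^ 2 - 1) + x ^ 2 * (x ^ 4 - 1) + 1 by positivity]
  have e5 : x ^ 7 ≤ ph 20 x := by
    have : ph 20 x = x ^ 7 + (x ^ 6 * (x * (x - 1) - 1) + x ^ 2 * (x ^ 2 - 1) + 1) := by simp only [ph]; ring
    have h4 : 0 ≤ x ^ 2 - 1 := by nlinarith
    rw [this]; linarith [show 0 ≤ x ^ 6 * (x * (x - 1) - 1) + x ^ 2 * (x ^ 2 - 1) + 1 by positivity]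
  have e6 : x ^ 7 ≤ ph 24 x := by
    have : ph 24 x = x ^ 7 + (x ^ 4 * (x ^ 3 * (x - 1) - 1) + 1) := by simp only [ph]; ring
    have h4 : 0 ≤ x ^ 3 * (x - 1) - 1 := by
      have h5 : (8 : ℤ) ≤ x ^ 3 := by
        calc (8 : ℤ) = 2 ^ 3 := by norm_num
          _ ≤ x ^ 3 := pow_le_pow_left₀ (by norm_num) hx 3
      nlinarith
    rw [this]; linarith [show 0 ≤ x ^ 4 * (x ^ 3 * (x - 1) - 1) + 1 by positivity]
  have h4 : x ^ 53 ≤ ph 7 x * ph 9 x * ph 14 x * ph 15 x * ph 18 x * ph 20 x * ph 24 x * ph 30 x := by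
    calc x ^ 53 = x ^ 12 * x ^ 12 * x ^ 15 * x ^ 7 * x ^ 7 := by ring
      _ ≤ (ph 7 x * ph 14 x) * (ph 9 x * ph 18 x) * (ph 15 x * ph 30 x) * ph 20 x * ph 24 x :=
        mul5 (by positivity) (by positivity) (by positivity) (by positivity) (by positivity) e2 e3 e4 e5 e6
      _ = _ := by ring
  have h5 : (2 * a) ^ 5 ≤ (3 * x ^ 8) ^ 5 := pow_le_pow_left₀ (by omega) hax 5
  have h6 : (3 : ℤ) ^ 13 ≤ x ^ 13 := pow_le_pow_left₀ (by norm_num) hx3 13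
  have h7 : (0 : ℤ) < x ^ 40 := by positivity
  have h8 : (3 : ℤ) ^ 13 * x ^ 40 ≤ x ^ 53 := by
    calc (3 : ℤ) ^ 13 * x ^ 40 ≤ x ^ 13 * x ^ 40 := Int.mul_le_mul_of_nonneg_right h6 h7.le
      _ = x ^ 53 := by ring
  nlinarith

/-! ### the rows -/

section

variable {p q k A k' B m i : ℕ} {W : ℕ → Prop}

theorem SX.expV {S : Type u} [Group S] (h : SX p q k A k' B m i W S) (x : S) :
    2 * orderOf x ∣ 2 * (p ^ 2 * ((q ^ 6 - 1) * (q ^ 2 + 1))) :=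
  Nat.mul_dvd_mul_left _ (h.lw.exp _ (h.WS x))

/-- the element of order `k` in a copy, and its primes are not adjacent to `2` -/
theorem kT78 {S : Type u} {T : Type w} [Group S] [Group T] (e : S ≃* T) (h : SX p q k A k' B m i W S) (hg : Good W m i) :
    (∀ x : T, 2 * orderOf x ∣ 2 * (p ^ 2 * ((q ^ 6 - 1) * (q ^ 2 + 1)))) ∧
    ∃ x : T, orderOf x = k ∧ ∀ r : ℕ, r.Prime → r ∣ k → r ≠ 2 ∧ ¬ H94.PG.Adj T r 2 := by
  refine ⟨fun x => ?_, ?_⟩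
  · rw [← MulEquiv.orderOf_eq e.symm]
    exact SX.expV h _
  obtain ⟨y, hy⟩ := h.kS hg
  refine ⟨e y, by rw [MulEquiv.orderOf_eq, hy], fun r hr hrk => ?_⟩
  have h1 := (h.lw.side.prime h.lw.q2 hr (Or.inl hrk)).1
  refine ⟨by omega, ?_⟩
  rintro ⟨a, b, c, s, t, hs, ht, hst⟩
  have h2 : orderOf (s * t) = r * 2 := by
    rw [hst.orderOf_mul_eq_mul_orderOf_of_coprime, hs, ht]
    rw [hs, ht]
    exact (Nat.coprime_primes hr Nat.prime_two).2 (by omega)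
  refine h.twoS hr hrk ⟨e.symm (s * t), ?_⟩
  rw [MulEquiv.orderOf_eq, h2, mul_comm]

/-- `k` bounds `q` -/
theorem q_lt78 {q k : ℕ} (hk : q ^ 2 - q + 1 ≤ 3 * k) (h : k ≤ 127) : q < 22 := by
  by_contra hq
  have h1 : 22 ≤ q := by omega
  have h2 : q * 22 ≤ q * q := Nat.mul_le_mul_left _ h1
  rw [pow_two] at hk
  omega

theorem two7a : ((1712444657781 : ℕ) : ℤ) = ph 5 2 * ph 7 2 * ph 8 2 * ph 9 2 * ph 10 2 * ph 12 2 * ph 14 2 * ph 18 2 := by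
  simp only [ph]
  norm_num

theorem two7b : 31 * (127 * (73 * 43)) ∣ 1712444657781 := by norm_num

theorem two7c : ph 7 2 = 127 := by
  simp only [ph]
  norm_num

/-- **Row `E₇(u)`.** -/
theorem row_e7 {v f : ℕ} {S : Type u} [Group S] (h : SX p q k A k' B m i W S) (hg : Good W m i)
    (hI : Fam.Is v f S Fam.e7) (hv : v.Prime) (hvp : v ≠ p) : False := by
  obtain ⟨F, _, _, _, hcard, ⟨e⟩⟩ := hI
  obtain ⟨hV, x, hx, hadj⟩ := kT78 e h hg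
  have hk1 := h.lw.k_pos.1
  obtain ⟨m', hm, hd⟩ := cls_E7 F x (by omega) (by rw [hx]; exact hadj)
  rw [hx] at hd
  have hv2 : (2 : ℤ) ≤ (Nat.card F : ℕ) := by
    have : 2 ≤ Nat.card F := Finite.one_lt_card
    exact_mod_cast this
  have hd' : (k : ℤ) ∣ ph m' (Nat.card F : ℕ) := by
    have := Int.natCast_dvd_natCast.2 hd
    rwa [cast_Pn Finite.one_lt_card, Pz_eq (by
      simp only [List.mem_cons, List.not_mem_nil, or_false] at hm ⊢; tauto)] at this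
  have hle := Int.le_of_dvd (ph_pos hv2) hd'
  have hp0 : 0 < p := h.lw.pp.pos
  have hqk := (h.lw.side.k_ge h.lw.q2).1
  obtain ⟨hW, hWa⟩ := bound_k hp0 h.lw.pq h.lw.q7 hqk
  have hle7 : (k : ℤ) ≤ ph 7 (Nat.card F : ℕ) := by
    refine hle.trans ?_
    generalize ((Nat.card F : ℕ) : ℤ) = x at *
    have h0 : 0 ≤ x := by omega
    have h1 : 0 ≤ x - 1 := by omega
    clear * - h0 h1 hm
    simp only [List.mem_cons, List.not_mem_nil, or_false] at hm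
    rcases hm with rfl | rfl | rfl | rfl | rfl
    · exact le_rfl
    · have : ph 7 x = ph 9 x + (x ^ 5 + x ^ 4 + x ^ 2 + x) := by simp only [ph]; ring
      rw [this]; linarith [show 0 ≤ x ^ 5 + x ^ 4 + x ^ 2 + x by positivity]
    · have : ph 7 x = ph 12 x + (x ^ 6 + x ^ 5 + x ^ 3 + 2 * x ^ 2 + x) := by simp only [ph]; ring
      rw [this]; linarith [show 0 ≤ x ^ 6 + x ^ 5 + x ^ 3 + 2 * x ^ 2 + x by positivity]
    · have : ph 7 x = ph 14 x + 2 * (x ^ 5 + x ^ 3 + x) := by simp only [ph]; ring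
      rw [this]; linarith [show 0 ≤ x ^ 5 + x ^ 3 + x by positivity]
    · have : ph 7 x = ph 18 x + (x ^ 5 + x ^ 4 + 2 * x ^ 3 + x ^ 2 + x) := by simp only [ph]; ring
      rw [this]; linarith [show 0 ≤ x ^ 5 + x ^ 4 + 2 * x ^ 3 + x ^ 2 + x by positivity]
  have hall := prod7 (rowE7_5 hV) (rowE7_7 hV) (rowE7_8 hV) (rowE7_9 hV) (rowE7_10 hV) (rowE7_12 hV)
    (rowE7_14 hV) (rowE7_18 hV)
  rcases eq_or_lt_of_le hv2 with hv2' | hv3
  · rw [← hv2', ← two7a] at hall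
    rw [← hv2', two7c] at hle7
    have hk127 : k ≤ 127 := by exact_mod_cast hle7
    have hq := q_lt78 hqk hk127
    have hq7 := h.lw.q7
    have hpq := h.lw.pq
    have hd3 := two7b.trans (Int.natCast_dvd_natCast.1 hall)
    clear * - hq hq7 hpq hd3 hp0
    exact no_two78 q hq hq7 p (lt_of_le_of_lt hpq hq) ⟨hd3, hp0⟩
  · have hk0 : (0 : ℤ) < k := by exact_mod_cast (lt_trans Nat.zero_lt_one hk1)
    exact num7x hv3 hk0 hW hWa hle7 (rowE7_5 hV) (rowE7_7 hV) (rowE7_8 hV) (rowE7_9 hV) (rowE7_10 hV) (rowE7_12 hV)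
      (rowE7_14 hV) (rowE7_18 hV)

/-- **Row `E₈(u)`.** -/
theorem row_e8 {v f : ℕ} {S : Type u} [Group S] (h : SX p q k A k' B m i W S) (hg : Good W m i)
    (hI : Fam.Is v f S Fam.e8) (hv : v.Prime) (hvp : v ≠ p) : False := by
  obtain ⟨F, _, _, _, hcard, ⟨e⟩⟩ := hI
  obtain ⟨hV, x, hx, hadj⟩ := kT78 e h hg
  have hk1 := h.lw.k_pos.1
  obtain ⟨m', hm, hd⟩ := cls_E8 F x (by omega) (by rw [hx]; exact hadj)
  rw [hx] at hd
  have hv2 : (2 : ℤ) ≤ (Nat.card F : ℕ) := by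
    have : 2 ≤ Nat.card F := Finite.one_lt_card
    exact_mod_cast this
  have hd' : (k : ℤ) ∣ ph m' (Nat.card F : ℕ) := by
    have := Int.natCast_dvd_natCast.2 hd
    rwa [cast_Pn Finite.one_lt_card, Pz_eq (by
      simp only [List.mem_cons, List.not_mem_nil, or_false] at hm ⊢; tauto)] at this
  have hle := Int.le_of_dvd (ph_pos hv2) hd'
  have hp0 : 0 < p := h.lw.pp.pos
  have hqk := (h.lw.side.k_ge h.lw.q2).1
  obtain ⟨hW, hWa⟩ := bound_k hp0 h.lw.pq h.lw.q7 hqk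
  have hle8 : 2 * (k : ℤ) ≤ 3 * ((Nat.card F : ℕ) : ℤ) ^ 8 := by
    refine (mul_le_mul_of_nonneg_left hle (by norm_num : (0 : ℤ) ≤ 2)).trans ?_
    generalize ((Nat.card F : ℕ) : ℤ) = x at *
    clear * - hv2 hm
    obtain ⟨t, ht0, rfl⟩ : ∃ t : ℤ, 0 ≤ t ∧ x = t + 2 := ⟨x - 2, by omega, by ring⟩
    clear * - ht0 hm
    simp only [List.mem_cons, List.not_mem_nil, or_false] at hm
    rcases hm with rfl | rfl | rfl | rfl <;> simp only [ph] <;> rw [← sub_nonneg] <;> ring_nf <;> positivity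
  have hk0 : (0 : ℤ) < k := by exact_mod_cast (show 0 < k by omega)
  exact num8x hv2 hk0 hW hWa hle8 (rowE8_7 hV) (rowE8_9 hV) (rowE8_14 hV) (rowE8_15 hV) (rowE8_18 hV) (rowE8_20 hV)
    (rowE8_24 hV) (rowE8_30 hV)

end

end Cfsg.Agent.R2.Spec.X4.H18
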