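import Cfsg.Agent.R2.Spec.X4.H18.SzNum

/-!
# Box X4 of S3435, `S = Ree(u)`, `u = 3 t²` : the numbers (helper18)
-/

set_option autoImplicit false
set_option linter.unusedVariables false

namespace Cfsg.Agent.R2.Spec.X4.H18

open Cfsg.Agent.H376.Six

universe u v

/-- the facts about `Ree(3 t²)` -/
structure ReeD (t : ℕ) (S : Type u) [Group S] : Prop where
  pw : ∃ e : ℕ, 1 ≤ e ∧ t = 3 ^ e
  sp : ∀ d : ℕ, (∃ x : S, orderOf x = d) ↔ (d ∣ 6 ∨ d ∣ 9 ∨ d ∣ 3 * t ^ 2 - 1 ∨ d ∣ (3 * t ^ 2 + 1) / 2 ∨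
    d ∣ 3 * t ^ 2 - 3 * t + 1 ∨ d ∣ 3 * t ^ 2 + 3 * t + 1)

section

variable {p q k A k' B m i : ℕ} {W : ℕ → Prop} {S : Type u} [Group S]

/-- the numbers -/
structure Nr (t T1 T2 D0 D1 : ℕ) : Prop where
  t3 : 3 ≤ t
  d3 : 3 ∣ t
  odd : t % 2 = 1
  z1 : (T1 : ℤ) = 3 * (t : ℤ) ^ 2 + 3 * t + 1
  z2 : (T2 : ℤ) = 3 * (t : ℤ) ^ 2 - 3 * t + 1
  z0 : (D0 : ℤ) = 3 * (t : ℤ) ^ 2 - 1
  zz : 2 * (D1 : ℤ) = 3 * (t : ℤ) ^ 2 + 1
  e0 : D0 % 4 = 2
  e1 : D1 % 2 = 0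

variable {t T1 T2 D0 D1 : ℕ}

theorem Nr.bd (n : Nr t T1 T2 D0 D1) : T2 ≤ T1 ∧ 27 * T1 ^ 3 < 16 * (3 * t) ^ 4 * T2 ∧
    7 * t < T2 + 3 ∧ 7 * t < T1 ∧ 6 * t + 4 ≤ D0 ∧ 2 * t ≤ D1 := by
  obtain ⟨h1, -, -, z1, z2, z0, zz, -, -⟩ := n
  obtain ⟨r, rfl⟩ : ∃ r, t = r + 3 := ⟨t - 3, by omega⟩
  have hr : (0 : ℤ) ≤ r := by positivity
  refine ⟨?_, ?_, ?_, ?_, ?_, ?_⟩
  · zify; rw [z1, z2]; push_cast; nlinarith
  · zify
    rw [z1, z2]
    push_cast
    apply pos_lt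
    clear * -
    ring_nf
    positivity
  · zify
    rw [z2]
    push_cast
    apply pos_lt
    clear * -
    ring_nf
    positivity
  · zify
    rw [z1]
    push_cast
    apply pos_lt
    clear * -
    ring_nf
    positivity
  · zify
    rw [z0]
    push_cast
    apply pos_le
    clear * -
    ring_nf
    positivity
  · have h4 : 4 * (((r + 3 : ℕ) : ℤ)) ≤ 2 * D1 := by
      rw [zz]
      push_cast
      apply pos_le
      clear * -
      ring_nf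
      positivity
    push_cast at h4
    omega

/-- the first state -/
theorem Nr.one (n : Nr t T1 T2 D0 D1) (h : LW p q k A k' B W) (hp3 : p ≠ 3) {T D : ℕ} (hT : T = T1 ∨ T = T2)
    (hD : D = T1 ∨ D = T2 ∨ D = D0 ∨ D = D1) (hTA : T ∣ A) (hDB : D ∣ B) (hk : k ∣ T) (hk' : k' ∣ D) : False := by
  obtain ⟨b1, b2, b3, b4, b5, b6⟩ := n.bd
  obtain ⟨h3, hd3, hto, z1, z2, z0, zz, e0, e1⟩ := n
  have hk19 := (k_ge h).1
  have hk25 := (k_ge h).2
  have hT0 : 0 < T := by rcases hT with rfl | rfl <;> omega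
  have hD0 : 0 < D := by rcases hD with rfl | rfl | rfl | rfl <;> omega
  have hkT := Nat.le_of_dvd hT0 hk
  have hk'D := Nat.le_of_dvd hD0 hk'
  have hT2 : T2 ≤ T := by rcases hT with rfl | rfl <;> omega
  have h3z : (3 : ℤ) ≤ t := by exact_mod_cast h3
  have hodd := (Side.k_odd h).2
  have hs1 : |1 - (t : ℤ)| = t - 1 := by rw [abs_of_nonpos (by omega)]; ring
  have hs2 : |(t : ℤ) + 1| = t + 1 := abs_of_nonneg (by omega)
  have hs3 : |2 - 3 * (t : ℤ)| = 3 * t - 2 := by rw [abs_of_nonpos (by omega)]; ring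
  have hs4 : |2 + 3 * (t : ℤ)| = 2 + 3 * t := abs_of_nonneg (by omega)
  have hs5 : |(t : ℤ)| = t := abs_of_nonneg (by omega)
  have hs6 : |-(t : ℤ)| = t := by rw [abs_neg]; exact hs5
  have b5z : 6 * (t : ℤ) + 4 ≤ D0 := by exact_mod_cast b5
  have b6z : 2 * (t : ℤ) ≤ D1 := by exact_mod_cast b6
  -- the smaller bounds for `k'`
  have hkD0 : k' ∣ D0 → 2 * k' ≤ D0 := by
    intro hd
    have h5 : k' * 2 ∣ D0 := Nat.Coprime.mul_dvd_of_dvd_of_dvd (Nat.coprime_two_right.2 hodd) hd (by omega)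
    have := Nat.le_of_dvd (by omega) h5
    omega
  have hkD1 : k' ∣ D1 → 2 * k' ≤ D1 := by
    intro hd
    have h5 : k' * 2 ∣ D1 := Nat.Coprime.mul_dvd_of_dvd_of_dvd (Nat.coprime_two_right.2 hodd) hd (by omega)
    have := Nat.le_of_dvd (by omega) h5
    omega
  have hcube : (q : ℤ) ^ 3 = 3 * (t : ℤ) ^ 3 - 2 * t → False := by
    intro hq
    obtain ⟨r, hr⟩ := hd3
    have h5 : (3 : ℤ) ∣ (q : ℤ) ^ 3 := by
      rw [hq, hr]
      push_cast
      exact ⟨27 * (r : ℤ) ^ 3 - 2 * r, by ring⟩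
    have h6 : 3 ∣ q ^ 3 := by exact_mod_cast h5
    have h7 := Nat.prime_three.dvd_of_dvd_pow h6
    obtain ⟨e, he⟩ := h.qp
    rw [he] at h7
    exact hp3 ((Nat.prime_dvd_prime_iff_eq Nat.prime_three h.pp).1 (Nat.prime_three.dvd_of_dvd_pow h7)).symm
  -- `D = D0`
  have killD0 : D = D0 → False := by
    rintro rfl
    have h5 := hkD0 hk'
    obtain ⟨M, hM⟩ : ∃ M, D = 2 * M := ⟨D / 2, by omega⟩
    have hMz : 2 * (M : ℤ) = 3 * (t : ℤ) ^ 2 - 1 := by rw [← z0]; exact_mod_cast hM.symm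
    have key : ∀ α : ℤ, (D : ℤ) ∣ α * T - 1 → (3 * (t : ℤ) - 2) ≤ |α| → |α| ≤ 3 * t + 2 → False := by
      intro α hα h6 h7
      refine kill h hTA hkT (M := M) (by omega) hDB (α := α) (κ := 1) (by norm_num) hα ?_ (by omega)
      have h8 : (3 * (t : ℤ) - 2) ^ 4 ≤ α ^ 4 := by
        have h9 := pow_le_pow_left₀ (by omega : (0 : ℤ) ≤ 3 * t - 2) h6 4
        have e : |α| ^ 4 = α ^ 4 := by
          rw [show (4 : ℕ) = 2 * 2 by norm_num, pow_mul, pow_mul, sq_abs]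
        rwa [e] at h9
      have h10 : (T2 : ℤ) ≤ T := by exact_mod_cast hT2
      have h11 : 16 * (T2 : ℤ) * (3 * (t : ℤ) - 2) ^ 4 ≤ 16 * T * α ^ 4 :=
        mul_le_mul (by linarith) h8 (by positivity) (by positivity)
      refine lt_of_lt_of_le ?_ h11
      have h12 : 8 * (27 * 1 ^ 4 * (M : ℤ) ^ 3) = 27 * (3 * (t : ℤ) ^ 2 - 1) ^ 3 := by rw [← hMz]; ring
      have h13 : 27 * (3 * (t : ℤ) ^ 2 - 1) ^ 3 < 8 * (16 * (T2 : ℤ) * (3 * (t : ℤ) - 2) ^ 4) := by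
        rw [z2]
        obtain ⟨r, hr⟩ : ∃ r, t = r + 3 := ⟨t - 3, by omega⟩
        rw [hr]
        push_cast
        apply pos_lt
        clear * -
        ring_nf
        positivity
      linarith
    rcases hT with rfl | rfl
    · exact key (2 - 3 * t) ⟨-(3 * (t : ℤ) + 1), by rw [z0, z1]; ring⟩ (by omega) (by omega)
    · exact key (2 + 3 * t) ⟨3 * (t : ℤ) - 1, by rw [z0, z2]; ring⟩ (by omega) (by omega)
  have killD1 : D = D1 → False := by
    rintro rfl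
    have h5 := hkD1 hk'
    obtain ⟨M, hM⟩ : ∃ M, D = 2 * M := ⟨D / 2, by omega⟩
    have hMz : 4 * (M : ℤ) = 3 * (t : ℤ) ^ 2 + 1 := by
      have : (D : ℤ) = 2 * M := by exact_mod_cast hM
      linarith
    have key : ∀ α : ℤ, (D : ℤ) ∣ α * T - 1 → |α| = t → False := by
      intro α hα h6
      refine kill h hTA hkT (M := M) (by omega) hDB (α := α) (κ := 1) (by norm_num) hα ?_ (by omega)
      have h8 : (t : ℤ) ^ 4 = α ^ 4 := by
        rw [← h6, show (4 : ℕ) = 2 * 2 by norm_num, pow_mul, pow_mul, sq_abs]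
      have h10 : (T2 : ℤ) ≤ T := by exact_mod_cast hT2
      rw [← h8]
      have h11 : 16 * (T2 : ℤ) * (t : ℤ) ^ 4 ≤ 16 * T * (t : ℤ) ^ 4 :=
        mul_le_mul_of_nonneg_right (by linarith) (by positivity)
      refine lt_of_lt_of_le ?_ h11
      have h12 : 64 * (27 * 1 ^ 4 * (M : ℤ) ^ 3) = 27 * (3 * (t : ℤ) ^ 2 + 1) ^ 3 := by rw [← hMz]; ring
      have h13 : 27 * (3 * (t : ℤ) ^ 2 + 1) ^ 3 < 64 * (16 * (T2 : ℤ) * (t : ℤ) ^ 4) := by
        rw [z2]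
        obtain ⟨r, hr⟩ : ∃ r, t = r + 3 := ⟨t - 3, by omega⟩
        rw [hr]
        push_cast
        apply pos_lt
        clear * -
        ring_nf
        positivity
      linarith
    rcases hT with rfl | rfl
    · refine key (-t) ⟨-(2 * (t : ℤ)) - 2, ?_⟩ hs6
      rw [z1]
      linear_combination ((t : ℤ) + 1) * zz
    · refine key t ⟨2 * (t : ℤ) - 2, ?_⟩ hs5
      rw [z2]
      linear_combination (-(t : ℤ) + 1) * zz
  have hne : T ≠ D := by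
    rintro rfl
    have h3 := Nat.dvd_gcd hTA hDB
    rw [h.side.coprime] at h3
    have := Nat.le_of_dvd one_pos h3
    omega
  obtain ⟨c, hc⟩ := hTA
  rw [mul_comm] at hc
  rcases hD with rfl | rfl | h5 | h5
  · rcases hT with rfl | rfl
    · exact hne rfl
    · -- `T2 ; T1`
      have hct := c_lt h hc hkT hk'D b2
      have hcz : (c : ℤ) < 3 * t := by exact_mod_cast hct
      have b4z : 7 * (t : ℤ) < D := by exact_mod_cast b4
      rcases kill_eq (α := (t : ℤ) + 1) (κ := 2) h hc hDB (by norm_num) ⟨(t : ℤ) - 1, by rw [z1, z2]; ring⟩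
        (by rw [hs2]; omega) with ⟨h6, h7⟩ | ⟨h6, h7⟩
      · have h8 : 2 * A = q ^ 3 + 1 := by rcases h.side.two_mul with h8 | h8 <;> omega
        have h9 : 2 * (A : ℤ) = (q : ℤ) ^ 3 + 1 := by exact_mod_cast h8
        have h10 : (A : ℤ) = c * T := by exact_mod_cast hc
        have h12 : 2 * (A : ℤ) = ((t : ℤ) + 1) * (3 * (t : ℤ) ^ 2 - 3 * t + 1) := by
          rw [h10, ← z2, ← h7]; ring
        refine hcube ?_
        linear_combination h12 - h9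
      · omega
  · rcases hT with rfl | rfl
    · -- `T1 ; T2`
      have hct := c_lt h hc hkT (M := T) (by omega) (b := 3 * t)
        (lt_of_lt_of_le b2 (Nat.mul_le_mul_left _ b1))
      have hcz : (c : ℤ) < 3 * t := by exact_mod_cast hct
      have b3z : 7 * (t : ℤ) < D + 3 := by exact_mod_cast b3
      rcases kill_eq (α := 1 - (t : ℤ)) (κ := 2) h hc hDB (by norm_num) ⟨-((t : ℤ) + 1), by rw [z1, z2]; ring⟩
        (by rw [hs1]; omega) with ⟨h6, h7⟩ | ⟨h6, h7⟩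
      · omega
      · have h8 : 2 * A + 1 = q ^ 3 := by rcases h.side.two_mul with h8 | h8 <;> omega
        have h9 : 2 * (A : ℤ) + 1 = (q : ℤ) ^ 3 := by exact_mod_cast h8
        have h10 : (A : ℤ) = c * T := by exact_mod_cast hc
        have h12 : 2 * (A : ℤ) = ((t : ℤ) - 1) * (3 * (t : ℤ) ^ 2 + 3 * t + 1) := by
          rw [h10, ← z1]
          linear_combination (T : ℤ) * h7
        refine hcube ?_
        linear_combination h12 - h9
    · exact hne rfl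
  · exact killD0 h5
  · exact killD1 h5


/-- the second state -/
theorem Nr.two (n : Nr t T1 T2 D0 D1) (h : LW p q k A k' B W) (h9 : 9 ≤ t) (hp5 : 5 ≤ p) {T X κ : ℕ}
    (hT : T = T1 ∨ T = T2) (hTA : T ∣ A)
    (hX : (κ = 1 ∧ (X = T1 ∨ X = T2) ∧ T ≠ X) ∨ (κ = 2 ∧ X = D0) ∨ (κ = 4 ∧ X = 2 * D1))
    (hX2 : 2 * X = κ * (p * (q ^ 2 + 1))) : False := by
  obtain ⟨b1, b2, b3, b4, b5, b6⟩ := n.bd
  obtain ⟨h3, hd3, hto, z1, z2, z0, zz, e0, e1⟩ := n
  have h9z : (9 : ℤ) ≤ t := by exact_mod_cast h9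
  have hp5z : (5 : ℤ) ≤ p := by exact_mod_cast hp5
  have hX2z : 2 * (X : ℤ) = κ * (p * ((q : ℤ) ^ 2 + 1)) := by exact_mod_cast hX2
  have hq0 : (0 : ℤ) ≤ q := by positivity
  have hκ : κ = 1 ∨ κ = 2 ∨ κ = 4 := by tauto
  have hmain : (p : ℤ) * ((q : ℤ) ^ 2 + 1) ≤ 6 * (t : ℤ) ^ 2 + 6 * t + 2 := by
    rcases hX with ⟨h4, h5 | h5, -⟩ | ⟨h4, h5⟩ | ⟨h4, h5⟩ <;> rw [h4, h5] at hX2z <;> push_cast at hX2z
    · rw [z1] at hX2z; linarith
    · rw [z2] at hX2z; linarith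
    · rw [z0] at hX2z; nlinarith
    · rw [zz] at hX2z; nlinarith
  have hq3 : 5 * ((q : ℤ) ^ 2 + 1) ≤ 6 * (t : ℤ) ^ 2 + 6 * t + 2 :=
    le_trans (mul_le_mul_of_nonneg_right hp5z (by positivity)) hmain
  have hq1 : 5 * (q : ℤ) < 6 * t := by
    by_contra hcon
    have h2 : (6 * (t : ℤ)) ^ 2 ≤ (5 * (q : ℤ)) ^ 2 := pow_le_pow_left₀ (by positivity) (not_lt.1 hcon) 2
    nlinarith
  have hT2 : 3 * (t : ℤ) ^ 2 - 3 * t + 1 ≤ T := by
    rw [← z2]
    have : T2 ≤ T := by rcases hT with rfl | rfl <;> omega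
    exact_mod_cast this
  have hpT : 2 * (p : ℤ) * (3 * (t : ℤ) ^ 2 - 3 * t + 1) ≤ 2 * p * T := mul_le_mul_of_nonneg_left hT2 (by positivity)
  have main : ∀ Δ : ℤ, |(T : ℤ) - X| ≤ Δ → 3 * (t : ℤ) - 2 ≤ |(T : ℤ) - X| →
      2 * (q : ℤ) * Δ + κ * p * (q + 1) < 2 * p * (3 * (t : ℤ) ^ 2 - 3 * t + 1) → False := by
    intro Δ h1 h2 h3
    refine pz_kill h hTA hκ hX2 ?_ (by linarith)
    have h4 : 2 * (q : ℤ) * |(T : ℤ) - X| ≤ 2 * q * Δ := mul_le_mul_of_nonneg_left h1 (by positivity)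
    linarith
  rcases hX with ⟨h4, h5, h6⟩ | ⟨h4, h5⟩ | ⟨h4, h5⟩
  · have h7 : |(T : ℤ) - X| = 6 * t := by
      rcases hT with rfl | rfl <;> rcases h5 with rfl | rfl
      · exact absurd rfl h6
      · rw [z1, z2, abs_of_nonneg (by linarith)]; ring
      · rw [z1, z2, abs_of_nonpos (by linarith)]; ring
      · exact absurd rfl h6
    refine main (6 * t) h7.le (by rw [h7]; linarith) ?_
    rw [h4]
    push_cast
    have h8 : (5 * (q : ℤ)) * (12 * t) ≤ (6 * t) * (12 * t) := mul_le_mul_of_nonneg_right hq1.le (by positivity)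
    have h10 : (p : ℤ) * (5 * q) ≤ p * (6 * t) := mul_le_mul_of_nonneg_left hq1.le (by positivity)
    have h11 : 5 * (30 * (t : ℤ) ^ 2 - 36 * t + 5) ≤ p * (30 * (t : ℤ) ^ 2 - 36 * t + 5) :=
      mul_le_mul_of_nonneg_right hp5z (by nlinarith)
    nlinarith
  · have h7 : |(T : ℤ) - X| ≤ 3 * t + 2 ∧ 3 * (t : ℤ) - 2 ≤ |(T : ℤ) - X| := by
      rw [h5]
      rcases hT with rfl | rfl
      · rw [z1, z0, abs_of_nonneg (by linarith)]; constructor <;> linarith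
      · rw [z2, z0, abs_of_nonpos (by linarith)]; constructor <;> linarith
    refine main (3 * t + 2) h7.1 h7.2 ?_
    rw [h4]
    push_cast
    have h8 : (5 * (q : ℤ)) * (2 * (3 * t + 2)) ≤ (6 * t) * (2 * (3 * t + 2)) :=
      mul_le_mul_of_nonneg_right hq1.le (by positivity)
    have h10 : (p : ℤ) * (5 * q) ≤ p * (6 * t) := mul_le_mul_of_nonneg_left hq1.le (by positivity)
    have h11 : 5 * (30 * (t : ℤ) ^ 2 - 42 * t) ≤ p * (30 * (t : ℤ) ^ 2 - 42 * t) :=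
      mul_le_mul_of_nonneg_right hp5z (by nlinarith)
    nlinarith
  · have h7 : |(T : ℤ) - X| = 3 * t := by
      rw [h5]
      push_cast
      rw [zz]
      rcases hT with rfl | rfl
      · rw [z1, abs_of_nonneg (by linarith)]; ring
      · rw [z2, abs_of_nonpos (by linarith)]; ring
    refine main (3 * t) h7.le (by rw [h7]; linarith) ?_
    rw [h4]
    push_cast
    have h8 : (5 * (q : ℤ)) * (6 * t) ≤ (6 * t) * (6 * t) := mul_le_mul_of_nonneg_right hq1.le (by positivity)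
    have h10 : (p : ℤ) * (5 * q) ≤ p * (6 * t) := mul_le_mul_of_nonneg_left hq1.le (by positivity)
    have h11 : 5 * (30 * (t : ℤ) ^ 2 - 54 * t - 10) ≤ p * (30 * (t : ℤ) ^ 2 - 54 * t - 10) :=
      mul_le_mul_of_nonneg_right hp5z (by nlinarith)
    nlinarith

/-- **`Ree(u)`.** -/
theorem ree_kill (h : SX p q k A k' B m i W S) (hg : Good W m i) {t : ℕ} (hS : ReeD t S) (hp3 : p ≠ 3) : False := by
  obtain ⟨e, he, hte⟩ := hS.pw
  have hd3 : 3 ∣ t := by rw [hte]; exact dvd_pow_self 3 (by omega)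
  have hto : t % 2 = 1 := by rw [hte, Nat.pow_mod]; norm_num
  have h3 : 3 ≤ t := by
    rw [hte]
    calc 3 = 3 ^ 1 := rfl
      _ ≤ 3 ^ e := Nat.pow_le_pow_right (by norm_num) he
  have hk19 := (k_ge h.lw).1
  obtain ⟨hko, hko'⟩ := Side.k_odd h.lw
  have htt : 3 * t ≤ t ^ 2 := by nlinarith
  obtain ⟨a, ha⟩ : ∃ a, t = 2 * a + 1 := ⟨t / 2, by omega⟩
  have ht2 : t ^ 2 = 4 * a ^ 2 + 4 * a + 1 := by rw [ha]; ring
  obtain ⟨T1, hT1⟩ : ∃ T1, 3 * t ^ 2 + 3 * t + 1 = T1 := ⟨_, rfl⟩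
  obtain ⟨T2, hT2⟩ : ∃ T2, 3 * t ^ 2 - 3 * t + 1 = T2 := ⟨_, rfl⟩
  obtain ⟨D0, hD0⟩ : ∃ D0, 3 * t ^ 2 - 1 = D0 := ⟨_, rfl⟩
  obtain ⟨D1, hD1⟩ : ∃ D1, (3 * t ^ 2 + 1) / 2 = D1 := ⟨_, rfl⟩
  have hsp := hS.sp
  simp only [hT1, hT2, hD0, hD1] at hsp
  have z1 : (T1 : ℤ) = 3 * (t : ℤ) ^ 2 + 3 * t + 1 := by rw [← hT1]; push_cast; ring
  have z2 : (T2 : ℤ) = 3 * (t : ℤ) ^ 2 - 3 * t + 1 := by
    have : T2 + 3 * t = 3 * t ^ 2 + 1 := by omega
    have : ((T2 + 3 * t : ℕ) : ℤ) = ((3 * t ^ 2 + 1 : ℕ) : ℤ) := by exact_mod_cast this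
    push_cast at this
    linarith
  have z0 : (D0 : ℤ) = 3 * (t : ℤ) ^ 2 - 1 := by
    have : D0 + 1 = 3 * t ^ 2 := by omega
    have : ((D0 + 1 : ℕ) : ℤ) = ((3 * t ^ 2 : ℕ) : ℤ) := by exact_mod_cast this
    push_cast at this
    linarith
  have zz : 2 * (D1 : ℤ) = 3 * (t : ℤ) ^ 2 + 1 := by
    have : 2 * D1 = 3 * t ^ 2 + 1 := by omega
    exact_mod_cast this
  have n : Nr t T1 T2 D0 D1 := ⟨h3, hd3, hto, z1, z2, z0, zz, by omega, by omega⟩
  have o1 : ∃ x : S, orderOf x = T1 := (hsp _).2 (by simp)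
  have o2 : ∃ x : S, orderOf x = T2 := (hsp _).2 (by simp)
  have o3 : ∃ x : S, orderOf x = D0 := (hsp _).2 (by simp)
  have o4 : ∃ x : S, orderOf x = D1 := (hsp _).2 (by simp)
  have hordT : ∀ T : ℕ, (T = T1 ∨ T = T2) → ∃ y : S, orderOf y = T := by
    rintro T (rfl | rfl)
    · exact o1
    · exact o2
  have hordD : ∀ D : ℕ, (D = T1 ∨ D = T2 ∨ D = D0 ∨ D = D1) → ∃ y : S, orderOf y = D := by
    rintro T (rfl | rfl | rfl | rfl)
    · exact o1
    · exact o2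
    · exact o3
    · exact o4
  -- an odd order `≥ 19` divides one of the four numbers
  have cls : ∀ N : ℕ, 19 ≤ N → (∃ x : S, orderOf x = N) → ∃ D, (D = T1 ∨ D = T2 ∨ D = D0 ∨ D = D1) ∧ N ∣ D := by
    intro N hN hx
    rcases (hsp N).1 hx with h1 | h1 | h1 | h1 | h1 | h1
    · have := Nat.le_of_dvd (by norm_num) h1; omega
    · have := Nat.le_of_dvd (by norm_num) h1; omega
    · exact ⟨D0, by simp, h1⟩
    · exact ⟨D1, by simp, h1⟩
    · exact ⟨T2, by simp, h1⟩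
    · exact ⟨T1, by simp, h1⟩
  obtain ⟨r₀, hr₀, hrk⟩ := Nat.exists_prime_and_dvd h.lw.k_pos.1.ne'
  have hr₀2 : r₀ ≠ 2 := by
    rintro rfl
    exact (Nat.not_even_iff_odd.2 hko) (even_iff_two_dvd.2 hrk)
  obtain ⟨T, hT, hkT⟩ : ∃ T, (T = T1 ∨ T = T2) ∧ k ∣ T := by
    obtain ⟨D, hD, hkD⟩ := cls k hk19 (h.kS hg)
    have key : D % 2 = 0 → (∃ x : S, orderOf x = D) → False := by
      rintro hev ⟨x, hx⟩
      have h4 : 2 * r₀ ∣ D := Nat.Coprime.mul_dvd_of_dvd_of_dvd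
        ((Nat.coprime_primes Nat.prime_two hr₀).2 (Ne.symm hr₀2)) (by omega) (hrk.trans hkD)
      have h5 := h.lw.dvd _ _ (h.WS x) (hx ▸ h4)
      exact h.lw.two hr₀ hrk h5
    rcases hD with h1 | h1 | h1 | h1
    · exact ⟨D, Or.inl h1, hkD⟩
    · exact ⟨D, Or.inr h1, hkD⟩
    · exact (key (by rw [h1]; omega) (hordD D (by simp [h1]))).elim
    · exact (key (by rw [h1]; omega) (hordD D (by simp [h1]))).elim
  have hTA := SX.dvdA h (hordT T hT) hkT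
  rcases h.dich with h1 | ⟨-, h1⟩
  · obtain ⟨D, hD, hkD⟩ := cls k' (by have := (k_ge h.lw).2; omega) (h.k'S h1)
    obtain ⟨r, hr, hrk⟩ := Nat.exists_prime_and_dvd h.lw.k_pos.2.ne'
    exact n.one h.lw hp3 hT hD hTA (SX.dvdB h (hordD D hD) hr hrk (hrk.trans hkD)) hkT hkD
  · have hp5 := odd_ne_three h.lw.pp h.lw.p2 hp3
    have hz := z_ge h.lw
    have hpz : 125 ≤ p * ((q ^ 2 + 1) / 2) := by
      calc 125 = 5 * 25 := by norm_num
        _ ≤ _ := Nat.mul_le_mul hp5 hz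
    obtain ⟨D, hD, hkD⟩ := cls _ (by omega) (h.pzS h1)
    obtain ⟨κ, hκ, hDκ, hD2⟩ := SX.pzD h (hordD D hD) hkD
    have h9 : 9 ≤ t := by
      by_contra hcon
      have h4 : t = 3 := by
        rw [hte] at hcon ⊢
        have h5 : e < 2 := by
          by_contra h6
          exact hcon (le_trans (by norm_num) (Nat.pow_le_pow_right (by norm_num) (not_lt.1 h6)) : 9 ≤ 3 ^ e)
        interval_cases e
        norm_num
      have h5 : D ≤ 37 := by
        rw [h4] at hT1 hT2 hD0 hD1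
        norm_num at hT1 hT2 hD0 hD1
        omega
      have h6 : 0 < D := by rcases hD with h7 | h7 | h7 | h7 <;> omega
      have := Nat.le_of_dvd h6 hkD
      omega
    have hpzo := Nat.odd_iff.1 (pz_odd h.lw)
    have hTo : ∀ N : ℕ, (N = T1 ∨ N = T2) → N % 2 = 1 := by
      rintro N (rfl | rfl) <;> omega
    rcases hD with h4 | h4 | h4 | h4
    · have hκ1 : κ = 1 := by
        rcases hκ with h5 | h5
        · exact h5
        · rw [h5] at hDκ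
          have := hTo D (Or.inl h4)
          omega
      refine n.two h.lw h9 hp5 hT hTA (X := D) (κ := κ) (Or.inl ⟨hκ1, Or.inl h4, ?_⟩) hD2
      rintro rfl
      exact (SX.pz_not h hkD).1 hTA
    · have hκ1 : κ = 1 := by
        rcases hκ with h5 | h5
        · exact h5
        · rw [h5] at hDκ
          have := hTo D (Or.inr h4)
          omega
      refine n.two h.lw h9 hp5 hT hTA (X := D) (κ := κ) (Or.inl ⟨hκ1, Or.inr h4, ?_⟩) hD2
      rintro rfl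
      exact (SX.pz_not h hkD).1 hTA
    · have hκ1 : κ = 2 := by
        rcases hκ with h5 | h5
        · rw [h5, one_mul] at hDκ
          have : D0 % 4 = 2 := n.e0
          omega
        · exact h5
      exact n.two h.lw h9 hp5 hT hTA (X := D) (κ := κ) (Or.inr (Or.inl ⟨hκ1, h4⟩)) hD2
    · have hκ1 : κ = 2 := by
        rcases hκ with h5 | h5
        · rw [h5, one_mul] at hDκ
          have : D1 % 2 = 0 := n.e1
          omega
        · exact h5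
      refine n.two h.lw h9 hp5 hT hTA (X := 2 * D) (κ := 4) (Or.inr (Or.inr ⟨rfl, by rw [h4]⟩)) ?_
      rw [hD2, hκ1]
      ring

end

end Cfsg.Agent.R2.Spec.X4.H18
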