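import Cfsg.Agent.R2.Spec.X4.H18.Gen

/-!
# Box X4 of S3435, `S = Sz(u)`, `u = 2 s²` : the numbers (helper18)
-/

set_option autoImplicit false
set_option linter.unusedVariables false

namespace Cfsg.Agent.R2.Spec.X4.H18

open Cfsg.Agent.H376.Six

universe u v

/-- the facts about `Sz(2 s²)` -/
structure SzD (s : ℕ) (S : Type u) [Group S] : Prop where
  pw : ∃ e : ℕ, 1 ≤ e ∧ s = 2 ^ e
  ub : ∀ x : S, Odd (orderOf x) → orderOf x ∣ 2 * s ^ 2 - 1 ∨ orderOf x ∣ 2 * s ^ 2 + 2 * s + 1 ∨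
    orderOf x ∣ 2 * s ^ 2 - 2 * s + 1
  o0 : ∃ x : S, orderOf x = 2 * s ^ 2 - 1
  op : ∃ x : S, orderOf x = 2 * s ^ 2 + 2 * s + 1
  om : ∃ x : S, orderOf x = 2 * s ^ 2 - 2 * s + 1

section

variable {p q k A k' B m i : ℕ} {W : ℕ → Prop} {S : Type u} [Group S]

theorem Side.k_odd (h : LW p q k A k' B W) : Odd k ∧ Odd k' := by
  have key : ∀ n : ℕ, (∀ r : ℕ, r.Prime → r ∣ n → 7 ≤ r) → Odd n := by
    intro n hn
    rw [← Nat.not_even_iff_odd]
    intro he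
    have := hn 2 Nat.prime_two (even_iff_two_dvd.1 he)
    omega
  exact ⟨key k fun r hr hd => (h.side.prime h.q2 hr (Or.inl hd)).1,
    key k' fun r hr hd => (h.side.prime h.q2 hr (Or.inr hd)).1⟩

theorem pz_odd (h : LW p q k A k' B W) : Odd (p * ((q ^ 2 + 1) / 2)) :=
  (h.pp.odd_of_ne_two h.p2).mul (Nat.odd_iff.2 h.side.z.2)

/-- two numbers -/
theorem cube_lo {s q : ℕ} (hs : 4 ≤ s) (h : 4 * s ^ 3 < q ^ 3 + 2 * s + 2) : 3 * s < 2 * q := by
  by_contra hcon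
  have h1 : (2 * q) ^ 3 ≤ (3 * s) ^ 3 := Nat.pow_le_pow_left (not_lt.1 hcon) 3
  obtain ⟨t, rfl⟩ : ∃ t, s = t + 4 := ⟨s - 4, by omega⟩
  ring_nf at h1 h
  nlinarith

theorem cube_hi {s q : ℕ} (hs : 4 ≤ s) (h : q ^ 3 < 4 * s ^ 3) : 5 * q < 8 * s := by
  by_contra hcon
  have h1 : (8 * s) ^ 3 ≤ (5 * q) ^ 3 := Nat.pow_le_pow_left (not_lt.1 hcon) 3
  have h2 : 0 < s ^ 3 := by positivity
  ring_nf at h1 h
  omega


/-- the numbers `2 s² - 1`, `2 s² + 2 s + 1`, `2 s² - 2 s + 1` -/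
structure Nm (s t T0 T1 T2 : ℕ) : Prop where
  t2 : 2 ≤ t
  st : s = 2 * t
  z0 : (T0 : ℤ) = 2 * (s : ℤ) ^ 2 - 1
  z1 : (T1 : ℤ) = 2 * (s : ℤ) ^ 2 + 2 * s + 1
  z2 : (T2 : ℤ) = 2 * (s : ℤ) ^ 2 - 2 * s + 1

variable {s t T0 T1 T2 : ℕ}

theorem Nm.bd (n : Nm s t T0 T1 T2) : T2 ≤ T0 ∧ T0 ≤ T1 ∧ T2 ≤ T1 ∧ 27 * T1 ^ 3 < 16 * (5 * t) ^ 4 * T2 ∧
    12 * t < T2 + 3 := by
  obtain ⟨h1, h2, z0, z1, z2⟩ := n
  obtain ⟨r, rfl⟩ : ∃ r, t = r + 2 := ⟨t - 2, by omega⟩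
  subst h2
  have hr : (0 : ℤ) ≤ r := by positivity
  refine ⟨?_, ?_, ?_, ?_, ?_⟩
  · zify; rw [z0, z2]; push_cast; nlinarith
  · zify; rw [z0, z1]; push_cast; nlinarith
  · zify; rw [z2, z1]; push_cast; nlinarith
  · zify
    rw [z1, z2]
    push_cast
    apply pos_lt
    clear * -
    ring_nf
    positivity
  · zify
    rw [z2]
    push_cast
    apply pos_lt
    clear * -
    ring_nf
    positivity

theorem Nm.c_lt (n : Nm s t T0 T1 T2) (h : LW p q k A k' B W) {T c : ℕ} (hT : T = T0 ∨ T = T1 ∨ T = T2)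
    (hc : A = c * T) (hk : k ≤ T) (hk' : k' ≤ T1) : c < 5 * t := by
  obtain ⟨b1, b2, b3, b4, b5⟩ := n.bd
  refine H18.c_lt h hc hk hk' (lt_of_lt_of_le b4 (Nat.mul_le_mul_left _ ?_))
  rcases hT with rfl | rfl | rfl
  · exact b1
  · exact b3
  · exact le_rfl

/-- the first state -/
theorem Nm.one (n : Nm s t T0 T1 T2) (h : LW p q k A k' B W) {T D : ℕ} (hT : T = T0 ∨ T = T1 ∨ T = T2)
    (hD : D = T0 ∨ D = T1 ∨ D = T2) (hTA : T ∣ A) (hDB : D ∣ B) (hk : k ∣ T) (hk' : k' ∣ D) : False := by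
  obtain ⟨b1, b2, b3, b4, b5⟩ := n.bd
  have h2 := n.t2
  have hst := n.st
  have z0 := n.z0
  have z1 := n.z1
  have z2 := n.z2
  have hAo := h.side.A_odd
  have hk19 := (k_ge h).1
  have hk25 := (k_ge h).2
  have hT1 : 0 < T1 := by omega
  have hT0 : 0 < T := by rcases hT with rfl | rfl | rfl <;> omega
  have hD0 : 0 < D := by rcases hD with rfl | rfl | rfl <;> omega
  have hkT := Nat.le_of_dvd hT0 hk
  have hk'D : k' ≤ T1 := (Nat.le_of_dvd hD0 hk').trans (by rcases hD with rfl | rfl | rfl <;> omega)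
  have hne : T ≠ D := by
    rintro rfl
    have h3 := Nat.dvd_gcd hTA hDB
    rw [h.side.coprime] at h3
    have := Nat.le_of_dvd one_pos h3
    omega
  obtain ⟨c, hc⟩ := hTA
  rw [mul_comm] at hc
  have hct := n.c_lt h hT hc hkT hk'D
  have hczt : (c : ℤ) < 5 * t := by exact_mod_cast hct
  have hstz : (s : ℤ) = 2 * t := by exact_mod_cast hst
  have h2z : (2 : ℤ) ≤ t := by exact_mod_cast h2
  have hs1 : |1 - (s : ℤ)| = s - 1 := by rw [abs_of_nonpos (by omega)]; ring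
  have hs2 : |(s : ℤ) + 1| = s + 1 := abs_of_nonneg (by omega)
  have hs3 : |(s : ℤ)| = s := abs_of_nonneg (by omega)
  have hs4 : |-(s : ℤ)| = s := by rw [abs_neg]; exact hs3
  have b5z : 12 * (t : ℤ) < T2 + 3 := by exact_mod_cast b5
  have b1z : (T2 : ℤ) ≤ T0 := by exact_mod_cast b1
  have b3z : (T2 : ℤ) ≤ T1 := by exact_mod_cast b3
  have hq := h.q7
  rcases hT with rfl | rfl | rfl <;> rcases hD with rfl | rfl | rfl
  · exact hne rfl
  · -- `T0 ; T1`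
    rcases kill_eq (α := (s : ℤ)) (κ := 1) h hc hDB (by norm_num) ⟨(s : ℤ) - 1, by rw [z0, z1]; ring⟩
      (by rw [hs3]; omega) with ⟨-, h3⟩ | ⟨-, h3⟩
    · have h4 : c = s := by omega
      rw [hc, h4, hst, mul_assoc, Nat.mul_mod_right] at hAo
      omega
    · omega
  · rcases kill_eq (α := -(s : ℤ)) (κ := 1) h hc hDB (by norm_num) ⟨-((s : ℤ) + 1), by rw [z0, z2]; ring⟩
      (by rw [hs4]; omega) with ⟨-, h3⟩ | ⟨-, h3⟩
    · omega
    · have h4 : c = s := by omega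
      rw [hc, h4, hst, mul_assoc, Nat.mul_mod_right] at hAo
      omega
  · -- `T1 ; T0`
    rcases kill_eq (α := 1 - (s : ℤ)) (κ := 1) h hc hDB (by norm_num) ⟨-(s : ℤ), by rw [z0, z1]; ring⟩
      (by rw [hs1]; omega) with ⟨-, h3⟩ | ⟨h6, h3⟩
    · omega
    · obtain ⟨a, ha⟩ := hk
      have h3' : (c : ℤ) = s - 1 := by omega
      have h7 : 2 * A + 1 = q ^ 3 := by rcases h.side.two_mul with h7 | h7 <;> omega
      have h8 : (q : ℤ) ^ 3 = 4 * (s : ℤ) ^ 3 - 2 * s - 1 := by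
        have : ((2 * A + 1 : ℕ) : ℤ) = ((q ^ 3 : ℕ) : ℤ) := by exact_mod_cast h7
        rw [hc] at this
        push_cast at this
        rw [← this, h3', z1]
        ring
      have h9 : 4 * s ^ 3 = q ^ 3 + 2 * s + 1 := by zify; linarith
      have l1 := cube_lo (s := s) (q := q) (by omega) (by omega)
      have l2 := cube_hi (s := s) (q := q) (by omega) (by omega)
      obtain ⟨g, hg, h10 | h10⟩ := cof_k h hc ha
      · have h11 : c = s - 1 := by omega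
        rw [h11] at h10
        have h12 : a ≠ 0 := by rintro rfl; omega
        rcases Nat.lt_or_ge a 3 with h13 | h13
        · have h14 : (s - 1) * a ≤ (s - 1) * 2 := Nat.mul_le_mul_left _ (by omega)
          have h15 : (s - 1) * 1 ≤ (s - 1) * a := Nat.mul_le_mul_left _ (by omega)
          rcases hg with rfl | rfl <;> omega
        · have h14 : (s - 1) * 3 ≤ (s - 1) * a := Nat.mul_le_mul_left _ h13
          rcases hg with rfl | rfl <;> omega
      · rcases h.side.two_mul with h7 | h7 <;> omega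
  · exact hne rfl
  · rcases kill_eq (α := 1 - (s : ℤ)) (κ := 2) h hc hDB (by norm_num) ⟨-((s : ℤ) + 1), by rw [z1, z2]; ring⟩
      (by rw [hs1]; omega) with ⟨-, h3⟩ | ⟨-, h3⟩ <;> omega
  · -- `T2 ; T0`
    rcases kill_eq (α := (s : ℤ) + 1) (κ := 1) h hc hDB (by norm_num) ⟨(s : ℤ), by rw [z0, z2]; ring⟩
      (by rw [hs2]; omega) with ⟨h6, h3⟩ | ⟨-, h3⟩
    · obtain ⟨a, ha⟩ := hk
      have h3' : (c : ℤ) = s + 1 := by omega
      have h7 : 2 * A = q ^ 3 + 1 := by rcases h.side.two_mul with h7 | h7 <;> omega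
      have h8 : (q : ℤ) ^ 3 = 4 * (s : ℤ) ^ 3 - 2 * s + 1 := by
        have : ((2 * A : ℕ) : ℤ) = ((q ^ 3 + 1 : ℕ) : ℤ) := by exact_mod_cast h7
        rw [hc] at this
        push_cast at this
        rw [h3', z2] at this
        linear_combination -this
      have h9 : 4 * s ^ 3 + 1 = q ^ 3 + 2 * s := by zify; linarith
      have l1 := cube_lo (s := s) (q := q) (by omega) (by omega)
      have l2 := cube_hi (s := s) (q := q) (by omega) (by omega)
      obtain ⟨g, hg, h10 | h10⟩ := cof_k h hc ha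
      · rcases h.side.two_mul with h7 | h7 <;> omega
      · have h11 : c = s + 1 := by omega
        rw [h11] at h10
        have h12 : a ≠ 0 := by rintro rfl; omega
        rcases Nat.lt_or_ge a 3 with h13 | h13
        · have h14 : (s + 1) * a ≤ (s + 1) * 2 := Nat.mul_le_mul_left _ (by omega)
          have h15 : (s + 1) * 1 ≤ (s + 1) * a := Nat.mul_le_mul_left _ (by omega)
          rcases hg with rfl | rfl <;> omega
        · have h14 : (s + 1) * 3 ≤ (s + 1) * a := Nat.mul_le_mul_left _ h13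
          rcases hg with rfl | rfl <;> omega
    · omega
  · rcases kill_eq (α := (s : ℤ) + 1) (κ := 2) h hc hDB (by norm_num) ⟨(s : ℤ) - 1, by rw [z1, z2]; ring⟩
      (by rw [hs2]; omega) with ⟨-, h3⟩ | ⟨-, h3⟩ <;> omega
  · exact hne rfl


theorem odd_ne_three {p : ℕ} (hp : p.Prime) (h2 : p ≠ 2) (h3 : p ≠ 3) : 5 ≤ p := by
  have h := hp.two_le
  have h4 : p ≠ 4 := by rintro rfl; revert hp; decide
  omega

/-- the second state -/
theorem Nm.two (n : Nm s t T0 T1 T2) (h : LW p q k A k' B W) (h8 : 8 ≤ s) {T X : ℕ}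
    (hT : T = T0 ∨ T = T1 ∨ T = T2) (hD : X = T0 ∨ X = T1 ∨ X = T2) (hTA : T ∣ A) (hne : T ≠ X)
    (hX : 2 * X = p * (q ^ 2 + 1)) : False := by
  obtain ⟨b1, b2, b3, b4, b5⟩ := n.bd
  have z0 := n.z0
  have z1 := n.z1
  have z2 := n.z2
  have h8z : (8 : ℤ) ≤ s := by exact_mod_cast h8
  have hp3 := h.p3
  have hq7 := h.q7
  have hXz : 2 * (X : ℤ) = p * ((q : ℤ) ^ 2 + 1) := by exact_mod_cast hX
  have hp3z : (3 : ℤ) ≤ p := by exact_mod_cast hp3
  have hq7z : (7 : ℤ) ≤ q := by exact_mod_cast hq7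
  have hX1 : (X : ℤ) ≤ 2 * (s : ℤ) ^ 2 + 2 * s + 1 := by
    rw [← z1]
    have : X ≤ T1 := by rcases hD with rfl | rfl | rfl <;> omega
    exact_mod_cast this
  have hT2 : 2 * (s : ℤ) ^ 2 - 2 * s + 1 ≤ T := by
    rw [← z2]
    have : T2 ≤ T := by rcases hT with rfl | rfl | rfl <;> omega
    exact_mod_cast this
  have hdiff : 2 * (s : ℤ) - 2 ≤ |(T : ℤ) - X| ∧ |(T : ℤ) - X| ≤ 4 * s := by
    rcases hT with rfl | rfl | rfl <;> rcases hD with rfl | rfl | rfl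
    · exact absurd rfl hne
    · rw [z0, z1, abs_of_nonpos (by linarith)]; constructor <;> linarith
    · rw [z0, z2, abs_of_nonneg (by linarith)]; constructor <;> linarith
    · rw [z0, z1, abs_of_nonneg (by linarith)]; constructor <;> linarith
    · exact absurd rfl hne
    · rw [z1, z2, abs_of_nonneg (by linarith)]; constructor <;> linarith
    · rw [z0, z2, abs_of_nonpos (by linarith)]; constructor <;> linarith
    · rw [z1, z2, abs_of_nonpos (by linarith)]; constructor <;> linarith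
    · exact absurd rfl hne
  have hmain : (p : ℤ) * ((q : ℤ) ^ 2 + 1) ≤ 4 * (s : ℤ) ^ 2 + 4 * s + 2 := by rw [← hXz]; linarith
  have hq3 : 3 * ((q : ℤ) ^ 2 + 1) ≤ 4 * (s : ℤ) ^ 2 + 4 * s + 2 :=
    le_trans (mul_le_mul_of_nonneg_right hp3z (by positivity)) hmain
  have hq1 : 173 * (q : ℤ) ≤ 200 * s + 99 := by
    by_contra hcon
    have h1 : 100 * (2 * (s : ℤ) + 1) ≤ 173 * q := by omega
    have h2 : (100 * (2 * (s : ℤ) + 1)) ^ 2 ≤ (173 * (q : ℤ)) ^ 2 := pow_le_pow_left₀ (by positivity) h1 2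
    nlinarith
  refine pz_kill h hTA (Or.inl rfl) (X := X) (by rw [one_mul]; exact hX) ?_ ?_
  · have h1 : 2 * (q : ℤ) * |(T : ℤ) - X| ≤ 2 * q * (4 * s) := mul_le_mul_of_nonneg_left hdiff.2 (by positivity)
    have h2 : 2 * (p : ℤ) * (2 * (s : ℤ) ^ 2 - 2 * s + 1) ≤ 2 * p * T := mul_le_mul_of_nonneg_left hT2 (by positivity)
    have h3 : 2 * (q : ℤ) * (4 * s) + p * (q + 1) < 2 * (p : ℤ) * (2 * (s : ℤ) ^ 2 - 2 * s + 1) := by
      by_cases hp : p = 3
      · rw [hp]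
        push_cast
        have h4 : 173 * (q : ℤ) * (8 * s + 3) ≤ (200 * s + 99) * (8 * s + 3) :=
          mul_le_mul_of_nonneg_right hq1 (by positivity)
        nlinarith
      · have hp5 := odd_ne_three h.pp h.p2 hp
        have hp5z : (5 : ℤ) ≤ p := by exact_mod_cast hp5
        have h5 : 5 * ((q : ℤ) ^ 2 + 1) ≤ 4 * (s : ℤ) ^ 2 + 4 * s + 2 :=
          le_trans (mul_le_mul_of_nonneg_right hp5z (by positivity)) hmain
        have h6 : (q : ℤ) ≤ s := by nlinarith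
        have h7 : 2 * (q : ℤ) * (4 * s) ≤ 8 * (s : ℤ) ^ 2 := by nlinarith
        have h8' : (p : ℤ) * (q + 1) ≤ p * (s + 1) := mul_le_mul_of_nonneg_left (by linarith) (by positivity)
        have h9 : 5 * (4 * (s : ℤ) ^ 2 - 5 * s + 1) ≤ p * (4 * (s : ℤ) ^ 2 - 5 * s + 1) :=
          mul_le_mul_of_nonneg_right hp5z (by nlinarith)
        nlinarith
    push_cast
    linarith
  · have : (q : ℤ) < 2 * s := by nlinarith
    linarith [hdiff.1]

/-- **`Sz(u)`.** -/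
theorem sz_kill (h : SX p q k A k' B m i W S) (hg : Good W m i) {s : ℕ} (hS : SzD s S) : False := by
  obtain ⟨e, he, hse⟩ := hS.pw
  have hs2 : 2 ∣ s := by rw [hse]; exact dvd_pow_self 2 (by omega)
  have hk19 := (k_ge h.lw).1
  obtain ⟨x, hx⟩ := h.kS hg
  have h2s : 2 ≤ s := by
    rw [hse]
    calc 2 = 2 ^ 1 := rfl
      _ ≤ 2 ^ e := Nat.pow_le_pow_right (by norm_num) he
  have hss : 2 * s ≤ s ^ 2 := by nlinarith
  have hx3 := hS.ub x (by rw [hx]; exact (Side.k_odd h.lw).1)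
  rw [hx] at hx3
  have hs4 : 4 ≤ s := by
    by_contra hcon
    have : s = 2 := by
      have : s ≠ 3 := by rintro rfl; omega
      omega
    subst this
    rcases hx3 with h1 | h1 | h1
    · have := Nat.le_of_dvd (by norm_num) h1; omega
    · have := Nat.le_of_dvd (by norm_num) h1; omega
    · have := Nat.le_of_dvd (by norm_num) h1; omega
  obtain ⟨t, ht⟩ : ∃ t, s = 2 * t := hs2
  obtain ⟨T0, hT0⟩ : ∃ T0, 2 * s ^ 2 - 1 = T0 := ⟨_, rfl⟩
  obtain ⟨T1, hT1⟩ : ∃ T1, 2 * s ^ 2 + 2 * s + 1 = T1 := ⟨_, rfl⟩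
  obtain ⟨T2, hT2⟩ : ∃ T2, 2 * s ^ 2 - 2 * s + 1 = T2 := ⟨_, rfl⟩
  have o0 := hS.o0
  have o1 := hS.op
  have o2 := hS.om
  have ub := hS.ub
  rw [hT0] at o0
  rw [hT1] at o1
  rw [hT2] at o2
  simp only [hT0, hT1, hT2] at ub
  rw [hT0, hT1, hT2] at hx3
  have z0 : (T0 : ℤ) = 2 * (s : ℤ) ^ 2 - 1 := by
    have : T0 + 1 = 2 * s ^ 2 := by omega
    have : ((T0 + 1 : ℕ) : ℤ) = ((2 * s ^ 2 : ℕ) : ℤ) := by exact_mod_cast this
    push_cast at this
    linarith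
  have z1 : (T1 : ℤ) = 2 * (s : ℤ) ^ 2 + 2 * s + 1 := by rw [← hT1]; push_cast; ring
  have z2 : (T2 : ℤ) = 2 * (s : ℤ) ^ 2 - 2 * s + 1 := by
    have : T2 + 2 * s = 2 * s ^ 2 + 1 := by omega
    have : ((T2 + 2 * s : ℕ) : ℤ) = ((2 * s ^ 2 + 1 : ℕ) : ℤ) := by exact_mod_cast this
    push_cast at this
    linarith
  have n : Nm s t T0 T1 T2 := ⟨by omega, ht, z0, z1, z2⟩
  -- the torus of `k`
  have hord : ∀ T : ℕ, (T = T0 ∨ T = T1 ∨ T = T2) → ∃ y : S, orderOf y = T := by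
    rintro T (rfl | rfl | rfl)
    · exact o0
    · exact o1
    · exact o2
  obtain ⟨T, hT, hkT⟩ : ∃ T, (T = T0 ∨ T = T1 ∨ T = T2) ∧ k ∣ T := by
    rcases hx3 with h1 | h1 | h1
    · exact ⟨T0, Or.inl rfl, h1⟩
    · exact ⟨T1, Or.inr (Or.inl rfl), h1⟩
    · exact ⟨T2, Or.inr (Or.inr rfl), h1⟩
  have hTA := SX.dvdA h (hord T hT) hkT
  rcases h.dich with h1 | ⟨-, h1⟩
  · obtain ⟨y, hy⟩ := h.k'S h1
    obtain ⟨D, hD, hkD⟩ : ∃ D, (D = T0 ∨ D = T1 ∨ D = T2) ∧ k' ∣ D := by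
      have h2 := ub y (by rw [hy]; exact (Side.k_odd h.lw).2)
      rw [hy] at h2
      rcases h2 with h1 | h1 | h1
      · exact ⟨T0, Or.inl rfl, h1⟩
      · exact ⟨T1, Or.inr (Or.inl rfl), h1⟩
      · exact ⟨T2, Or.inr (Or.inr rfl), h1⟩
    obtain ⟨r, hr, hrk⟩ := Nat.exists_prime_and_dvd h.lw.k_pos.2.ne'
    exact n.one h.lw hT hD hTA (SX.dvdB h (hord D hD) hr hrk (hrk.trans hkD)) hkT hkD
  · obtain ⟨y, hy⟩ := h.pzS h1
    obtain ⟨D, hD, hkD⟩ : ∃ D, (D = T0 ∨ D = T1 ∨ D = T2) ∧ p * ((q ^ 2 + 1) / 2) ∣ D := by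
      have h2 := ub y (by rw [hy]; exact pz_odd h.lw)
      rw [hy] at h2
      rcases h2 with h1 | h1 | h1
      · exact ⟨T0, Or.inl rfl, h1⟩
      · exact ⟨T1, Or.inr (Or.inl rfl), h1⟩
      · exact ⟨T2, Or.inr (Or.inr rfl), h1⟩
    obtain ⟨κ, hκ, hDκ, hD2⟩ := SX.pzD h (hord D hD) hkD
    have hDodd : D % 2 = 1 := by
      have a1 : (D : ℤ) % 2 = 1 := by
        rcases hD with rfl | rfl | rfl
        · rw [z0]; omega
        · rw [z1]; omega
        · rw [z2]; omega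
      omega
    have hκ1 : κ = 1 := by
      rcases hκ with h3 | h3
      · exact h3
      · rw [h3] at hDκ
        omega
    rw [hκ1, one_mul] at hD2
    have h8 : 8 ≤ s := by
      by_contra hcon
      have h4 : s = 4 := by
        rw [hse] at hs4 hcon ⊢
        have h5 : e < 3 := by
          by_contra h6
          exact hcon (le_trans (by norm_num) (Nat.pow_le_pow_right (by norm_num) (not_lt.1 h6)) : 8 ≤ 2 ^ e)
        interval_cases e
        · norm_num at hs4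
        · norm_num
      have h5 : D ≤ 41 := by
        rw [h4] at hT0 hT1 hT2
        norm_num at hT0 hT1 hT2
        omega
      have h6 := h.lw.p3
      have h7 := h.lw.q7
      have h9 : 3 * 50 ≤ p * (q ^ 2 + 1) := Nat.mul_le_mul h6 (by nlinarith)
      omega
    refine n.two h.lw h8 hT hD hTA ?_ hD2
    rintro rfl
    exact (SX.pz_not h hkD).1 hTA

end

end Cfsg.Agent.R2.Spec.X4.H18
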