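import Cfsg.Agent.R2.Spec.X4.H18.E6
import Cfsg.Agent.H352.UF.TwF4
import Cfsg.Agent.H378.OmF4
import Cfsg.Agent.H437.Iso.TwF4

/-!
# `²F₄(2b²)` : the facts (helper18)
-/

set_option autoImplicit false
set_option linter.unusedVariables false

namespace Cfsg.Agent.R2.Spec.X4.H18

open Cfsg Cfsg.Agent.H426.LieFam Cfsg.Agent.H493.PGF4T

universe u

/-- `t₊` at `b`, `t₋` at `-b` -/
def t4 (X : ℤ) : ℤ := 4 * X ^ 4 + 4 * X ^ 3 + 2 * X ^ 2 + 2 * X + 1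

/-- `Q ± √(2Q) + 1` -/
def t2 (X : ℤ) : ℤ := 2 * X ^ 2 + 2 * X + 1

/-- `Q² - Q + 1` -/
def t6 (X : ℤ) : ℤ := 4 * X ^ 4 - 2 * X ^ 2 + 1

/-- the facts about `²F₄(2b²)` -/
structure TF4Dat (b : ℕ) (S : Type*) [Group S] : Prop where
  hb : ∃ a, 1 ≤ a ∧ b = 2 ^ a
  near : ∀ r : ℕ, r.Prime → r ≠ 2 → r ∣ Nat.card S → (¬ ∃ x : S, orderOf x = 2 * r) →
    ¬ (r : ℤ) ∣ 2 * (b : ℤ) ^ 2 - 1 ∧ ¬ (r : ℤ) ∣ 2 * (b : ℤ) ^ 2 + 1 ∧ ¬ (r : ℤ) ∣ t2 b ∧ ¬ (r : ℤ) ∣ t2 (-b)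
  cc : ∀ X : ℤ, X = b ∨ X = -b → ∀ (x : S) (r : ℕ), r.Prime → r ∣ orderOf x → (r : ℤ) ∣ t4 X →
    ((orderOf x : ℕ) : ℤ) ∣ t4 X
  om : ∀ x : S, ∃ e m : ℕ, orderOf x = 2 ^ e * m ∧
    ((m : ℤ) ∣ (2 * (b : ℤ) ^ 2) ^ 4 - (2 * (b : ℤ) ^ 2) ^ 2 + 1 ∨ (m : ℤ) ∣ (2 * (b : ℤ) ^ 2) ^ 4 + 1 ∨
      (m : ℤ) ∣ (2 * (b : ℤ) ^ 2) ^ 4 - 1 ∨ (m : ℤ) ∣ ((2 * (b : ℤ) ^ 2) ^ 3 - 1) * ((2 * (b : ℤ) ^ 2) + 1) ∨
      (m : ℤ) ∣ ((2 * (b : ℤ) ^ 2) ^ 3 + 1) * ((2 * (b : ℤ) ^ 2) - 1))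
  ex4 : ∀ X : ℤ, X = b ∨ X = -b → ∃ x : S, ((orderOf x : ℕ) : ℤ) = t4 X
  ex6 : ∃ x : S, ((orderOf x : ℕ) : ℤ) = t6 b
  ex1p : ∀ X : ℤ, X = b ∨ X = -b → ∃ x : S, ((orderOf x : ℕ) : ℤ) = (2 * X ^ 2 - 1) * t2 X
  ex12 : ∃ x : S, ((orderOf x : ℕ) : ℤ) = (2 * (b : ℤ) ^ 2 - 1) * (2 * (b : ℤ) ^ 2 + 1)
  card : ((Nat.card S : ℕ) : ℤ) = (2 * (b : ℤ) ^ 2) ^ 12 * ((2 * (b : ℤ) ^ 2 - 1) * ((2 * (b : ℤ) ^ 2) ^ 3 + 1) *
    ((2 * (b : ℤ) ^ 2) ^ 4 - 1) * ((2 * (b : ℤ) ^ 2) ^ 6 + 1))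

theorem TF4Dat.congr {b : ℕ} {S Y : Type*} [Group S] [Group Y] (e : S ≃* Y) (h : TF4Dat b Y) : TF4Dat b S := by
  have key : ∀ {n : ℤ}, (∃ x : Y, ((orderOf x : ℕ) : ℤ) = n) → ∃ x : S, ((orderOf x : ℕ) : ℤ) = n := by
    rintro n ⟨x, hx⟩
    exact ⟨e.symm x, by rw [MulEquiv.orderOf_eq]; exact hx⟩
  refine ⟨h.hb, ?_, ?_, ?_, fun X hX => key (h.ex4 X hX), key h.ex6, fun X hX => key (h.ex1p X hX), key h.ex12, ?_⟩
  · intro r hr h2 hd hn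
    rw [Nat.card_congr e.toEquiv] at hd
    refine h.near r hr h2 hd fun ⟨x, hx⟩ => hn ⟨e.symm x, by rw [MulEquiv.orderOf_eq]; exact hx⟩
  · intro X hX x r hr hrx hd
    rw [← MulEquiv.orderOf_eq e] at hrx ⊢
    exact h.cc X hX (e x) r hr hrx hd
  · intro x
    rw [← MulEquiv.orderOf_eq e]
    exact h.om (e x)
  · rw [Nat.card_congr e.toEquiv]
    exact h.card

theorem tf4Dat {K : Type u} [Field K] [Fintype K] {a b : ℕ} (ha : 1 ≤ a) (hK : Fintype.card K = 2 ^ (2 * a + 1))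
    (hb : b = 2 ^ a) : TF4Dat b ↥(Lie.twistedF4 K (2 ^ a)) := by
  have := Fact.mk Nat.prime_two
  have hchar : CharP K 2 := Cfsg.Agent.ChevalleyStructure.TwF4.Twisted.charP_two hK
  obtain ⟨P, N, D⟩ := H541.PRegTF4.exists_par ha
  have hcard := S1068.result hK
  have hcard' : Nat.card ↥(Lie.twistedF4 K (2 ^ a)) = (2 ^ (2 * a + 1)) ^ 12 * ((2 ^ (2 * a + 1) - 1) *
      ((2 ^ (2 * a + 1)) ^ 3 + 1) * ((2 ^ (2 * a + 1)) ^ 4 - 1) * ((2 ^ (2 * a + 1)) ^ 6 + 1)) := by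
    rw [hcard]; ring
  obtain ⟨hIP, hIN⟩ := H541.PRegTF4.tor hK rfl D hcard'
  have C := H541.PRegTF4.ccdat hK rfl D
  have hbZ : (2 : ℤ) ^ a = (b : ℤ) := by rw [hb]; push_cast; rfl
  have hb2 : 2 ≤ b := by
    rw [hb]
    calc 2 = 2 ^ 1 := by norm_num
      _ ≤ 2 ^ a := Nat.pow_le_pow_right (by norm_num) ha
  have hb2Z : (2 : ℤ) ≤ b := by exact_mod_cast hb2
  have hPeq : (P : ℤ) = fP b := by rw [hb]; exact D.P_eq
  have hNeq : (N : ℤ) = fM b := by rw [hb]; exact D.N_eq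
  -- the small orders
  obtain ⟨n1, hn1⟩ : ∃ n : ℕ, (n : ℤ) = f1 b := ⟨(f1 b).toNat, Int.toNat_of_nonneg (by unfold f1; nlinarith)⟩
  obtain ⟨n2, hn2⟩ : ∃ n : ℕ, (n : ℤ) = f2 b := ⟨(f2 b).toNat, Int.toNat_of_nonneg (by unfold f2; positivity)⟩
  obtain ⟨np, hnp⟩ : ∃ n : ℕ, (n : ℤ) = fp b := ⟨(fp b).toNat, Int.toNat_of_nonneg (by unfold fp; positivity)⟩
  obtain ⟨nm, hnm⟩ : ∃ n : ℕ, (n : ℤ) = fm b := ⟨(fm b).toNat, Int.toNat_of_nonneg (by unfold fm; nlinarith)⟩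
  have h1pos : 0 < n1 := by
    have : (0 : ℤ) < n1 := by rw [hn1]; unfold f1; nlinarith
    exact_mod_cast this
  have h2pos : 0 < n2 := by
    have : (0 : ℤ) < n2 := by rw [hn2]; unfold f2; positivity
    exact_mod_cast this
  have hppos : 0 < np := by
    have : (0 : ℤ) < np := by rw [hnp]; unfold fp; positivity
    exact_mod_cast this
  have hmpos : 0 < nm := by
    have : (0 : ℤ) < nm := by rw [hnm]; unfold fm; nlinarith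
    exact_mod_cast this
  have hodd1 : n1 % 2 = 1 := by
    have h1 : (n1 : ℤ) = 2 * (b : ℤ) ^ 2 - 1 := hn1
    omega
  have hcop : ∀ {y z : ℕ}, y % 2 = 1 → (∀ r : ℕ, r.Prime → r ≠ 2 → (r : ℤ) ∣ y → (r : ℤ) ∣ z → False) →
      y.Coprime z := by
    intro y z hy hyz
    refine Nat.coprime_of_dvd fun r hr h1 h2 => ?_
    by_cases hr2 : r = 2
    · subst hr2; omega
    · exact hyz r hr hr2 (Int.natCast_dvd_natCast.2 h1) (Int.natCast_dvd_natCast.2 h2)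
  have hpr : ∀ {r : ℕ}, r.Prime → r ≠ 2 → ∀ {z : ℤ}, (r : ℤ) ∣ 2 * z → (r : ℤ) ∣ z := by
    intro r hr hr2 z hz
    have hr' := Nat.prime_iff_prime_int.1 hr
    rcases hr'.dvd_or_dvd hz with h1 | h1
    · exfalso
      have h3 : r ∣ 2 := by exact_mod_cast h1
      exact hr2 ((Nat.prime_dvd_prime_iff_eq hr Nat.prime_two).1 h3)
    · exact h1
  have hone : ∀ {r : ℕ}, r.Prime → ¬ (r : ℤ) ∣ 1 := fun {r} hr h1 =>
    hr.one_lt.ne' (Nat.dvd_one.1 (by exact_mod_cast h1))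
  have hc12 : n1.Coprime n2 := hcop hodd1 fun r hr hr2 h1 h2 => by
    rw [hn1] at h1
    rw [hn2] at h2
    have h3 : (r : ℤ) ∣ 2 * 1 := by
      have := dvd_sub h2 h1
      have e : f2 (b : ℤ) - f1 b = 2 * 1 := by unfold f1 f2; ring
      rwa [e] at this
    exact hone hr (hpr hr hr2 h3)
  have hc1p : n1.Coprime np := hcop hodd1 fun r hr hr2 h1 h2 => by
    rw [hn1] at h1
    rw [hnp] at h2
    have h3 : (r : ℤ) ∣ 2 * (b + 1) := by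
      have := dvd_sub h2 h1
      have e : fp (b : ℤ) - f1 b = 2 * (b + 1) := by unfold f1 fp; ring
      rwa [e] at this
    have h4 := hpr hr hr2 h3
    have h5 : (r : ℤ) ∣ 1 := by
      have e : (1 : ℤ) = f1 b - (b + 1) * (2 * (b - 1)) := by unfold f1; ring
      rw [e]
      exact dvd_sub h1 (h4.mul_right _)
    exact hone hr h5
  have hc1m : n1.Coprime nm := hcop hodd1 fun r hr hr2 h1 h2 => by
    rw [hn1] at h1
    rw [hnm] at h2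
    have h3 : (r : ℤ) ∣ 2 * (b - 1) := by
      have := dvd_sub h1 h2
      have e : f1 (b : ℤ) - fm b = 2 * (b - 1) := by unfold f1 fm; ring
      rwa [e] at this
    have h4 := hpr hr hr2 h3
    have h5 : (r : ℤ) ∣ 1 := by
      have e : (1 : ℤ) = f1 b - (b - 1) * (2 * (b + 1)) := by unfold f1; ring
      rw [e]
      exact dvd_sub h1 (h4.mul_right _)
    exact hone hr h5
  have hcK := H378.TwRowsF.cast_card hK
  rw [hbZ] at hcK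
  refine ⟨⟨a, ha, hb⟩, ?_, ?_, ?_, ?_, ?_, ?_, ?_, ?_⟩
  · intro r hr hr2 hd hn
    have hna : ¬ Cfsg.Agent.H94.PG.Adj ↥(Lie.twistedF4 K (2 ^ a)) r 2 := by
      rintro ⟨-, -, -, x, y, hx, hy, hxy⟩
      apply hn
      refine ⟨y * x, ?_⟩
      rw [hxy.symm.orderOf_mul_eq_mul_orderOf_of_coprime (by
        rw [hx, hy]
        exact (Nat.coprime_primes Nat.prime_two hr).2 (Ne.symm hr2)), hx, hy]
    have to_nat : ∀ {n : ℕ} {z : ℤ}, (r : ℤ) ∣ z → z ∣ (n : ℤ) → r ∣ n := fun h1 h2 =>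
      Int.natCast_dvd_natCast.1 (h1.trans h2)
    refine ⟨fun h1 => hna (H378.TwRowsF.adj_minus hK hr hr2 ?_), fun h1 => ?_, fun h1 => ?_, fun h1 => ?_⟩
    · rw [hbZ]
      exact h1
    · refine hna (H378.TwRowsF.adj_plus hK hr hr2 (to_nat h1 ?_))
      push_cast
      rw [hcK]
      exact ⟨1, by ring⟩
    · refine hna (H378.TwRowsF.adj_sq hK hr hr2 (to_nat h1 ?_))
      push_cast
      rw [hcK]
      exact ⟨fm b, by unfold t2 fm; ring⟩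
    · refine hna (H378.TwRowsF.adj_sq hK hr hr2 (to_nat h1 ?_))
      push_cast
      rw [hcK]
      exact ⟨fp b, by unfold t2 fp; ring⟩
  · rintro X hX x r hr hrx hd
    rcases hX with rfl | rfl
    · have e : t4 (b : ℤ) = (P : ℤ) := by rw [hPeq]; rfl
      rw [e] at hd ⊢
      exact Int.natCast_dvd_natCast.2 (H352.UF.tor_dvd C (dvd_mul_right P N) hIP hr hrx (Int.natCast_dvd_natCast.1 hd))
    · have e : t4 (-(b : ℤ)) = (N : ℤ) := by rw [hNeq]; unfold t4 fM; ring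
      rw [e] at hd ⊢
      exact Int.natCast_dvd_natCast.2 (H352.UF.tor_dvd C (dvd_mul_left N P) hIN hr hrx (Int.natCast_dvd_natCast.1 hd))
  · intro x
    have hle : Lie.twistedF4 K (2 ^ a) ≤ Lie.chevF4.group K :=
      H378.TwRowsF.genSubgroup_le_group Cfsg.Agent.BpExc.RowsUntw.f4T.inList _
    let ι : ↥(Lie.twistedF4 K (2 ^ a)) →* ↥(Lie.chevF4.group K) := Subgroup.inclusion hle
    have hι : Function.Injective ι := Subgroup.inclusion_injective _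
    obtain ⟨e, n, O⟩ := H378.OmF4.om_F4 (p := 2) (q := Nat.card K) rfl (ι x)
    rw [orderOf_injective ι hι] at O
    refine ⟨e, n, O.eq, ?_⟩
    rw [← hcK]
    have hK2 : 2 ≤ Nat.card K := Finite.one_lt_card
    generalize Nat.card K = Q at *
    have h2 : 1 ≤ Q ^ 2 := Nat.one_le_pow _ _ (by omega)
    have h3 : 1 ≤ Q ^ 3 := Nat.one_le_pow _ _ (by omega)
    have h4 : 1 ≤ Q ^ 4 := Nat.one_le_pow _ _ (by omega)
    have h24 : Q ^ 2 ≤ Q ^ 4 := Nat.pow_le_pow_right (by omega) (by norm_num)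
    have key : ∀ {P : ℕ} {A B : ℤ}, n ∣ P → ((P : ℕ) : ℤ) = A → A ∣ B → (n : ℤ) ∣ B := by
      rintro P A B h rfl e1
      exact (Int.natCast_dvd_natCast.2 h).trans e1
    by_cases he : e = 0
    · rcases O.s0 with h0 | h0 | h0 | h0 | h0
      · exact Or.inl (key h0 (by push_cast [h24]; rfl) dvd_rfl)
      · exact Or.inr (Or.inl (key h0 (by push_cast; rfl) dvd_rfl))
      · exact Or.inr (Or.inr (Or.inl (key h0 (by push_cast [h4]; rfl) dvd_rfl)))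
      · exact Or.inr (Or.inr (Or.inr (Or.inl (key h0 (by push_cast [h3]; rfl) dvd_rfl))))
      · exact Or.inr (Or.inr (Or.inr (Or.inr (key h0 (by push_cast [show 1 ≤ Q by omega]; rfl) dvd_rfl))))
    · rcases O.s1 he with h0 | h0 | h0 | h0 | h0
      · exact Or.inr (Or.inr (Or.inr (Or.inl (key h0 (by push_cast [h3]; rfl) (dvd_mul_right _ _)))))
      · exact Or.inr (Or.inr (Or.inr (Or.inr (key h0 (by push_cast; rfl) (dvd_mul_right _ _)))))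
      · exact Or.inr (Or.inr (Or.inl (key h0 (by push_cast [show 1 ≤ Q by omega]; rfl) ⟨Q + 1, by ring⟩)))
      · exact Or.inr (Or.inr (Or.inl (key h0 (by push_cast; rfl) ⟨Q - 1, by ring⟩)))
      · exact Or.inr (Or.inr (Or.inl (key h0 (by push_cast [h2]; rfl) ⟨(Q : ℤ) ^ 2 + 1, by ring⟩)))
  · rintro X (rfl | rfl)
    · obtain ⟨x, hx⟩ := H360.Iso.f4t_plus hK hb
      exact ⟨x, by rw [hx]; unfold t4; push_cast; ring⟩
    · obtain ⟨x, hx⟩ := H360.Iso.f4t_minus hK hb (N := N) (by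
        have : (N : ℤ) + 4 * (b : ℤ) ^ 3 + 2 * b = 4 * b ^ 4 + 2 * b ^ 2 + 1 := by rw [hNeq]; unfold fM; ring
        exact_mod_cast this)
      exact ⟨x, by rw [hx, hNeq]; unfold t4 fM; ring⟩
  · obtain ⟨n6, hn6⟩ : ∃ n : ℕ, (n : ℤ) = f6 b := ⟨(f6 b).toNat, Int.toNat_of_nonneg (by
      unfold f6; nlinarith [sq_nonneg ((b : ℤ) ^ 2 - 1), sq_nonneg ((b : ℤ) ^ 2)])⟩
    obtain ⟨x, hx⟩ := H437.Iso.f4t_order6 hK hb (N := n6) (by rw [hn6]; rfl)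
    exact ⟨x, by rw [hx, hn6]; rfl⟩
  · rintro X (rfl | rfl)
    · obtain ⟨x, hx⟩ := H352.UF.exists_cert_nat hK chainB_ok hThB certB_f1 certB_fp h1pos hppos (by rw [hbZ, hn1])
        (by rw [hbZ, hnp]) hc1p
      exact ⟨x, by rw [hx, Nat.cast_mul, hn1, hnp]; rfl⟩
    · obtain ⟨x, hx⟩ := H352.UF.exists_cert_nat hK chainC_ok hThC certC_f1 certC_fm h1pos hmpos (by rw [hbZ, hn1])
        (by rw [hbZ, hnm]) hc1m
      exact ⟨x, by rw [hx, Nat.cast_mul, hn1, hnm]; unfold f1 fm t2; ring⟩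
  · obtain ⟨x, hx⟩ := H352.UF.exists_cert_nat hK chainA_ok hThA certA_f1 certA_f2 h1pos h2pos (by rw [hbZ, hn1])
      (by rw [hbZ, hn2]) hc12
    exact ⟨x, by rw [hx, Nat.cast_mul, hn1, hn2]; rfl⟩
  · have hbb : ((2 ^ (2 * a + 1) : ℕ) : ℤ) = 2 * (b : ℤ) ^ 2 := by
      push_cast
      rw [← hbZ, ← pow_mul]
      ring
    have k1 : 1 ≤ 2 ^ (2 * a + 1) := Nat.one_le_two_pow
    have k4 : 1 ≤ (2 ^ (2 * a + 1)) ^ 4 := Nat.one_le_pow _ _ k1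
    rw [hcard', ← hbb]
    generalize 2 ^ (2 * a + 1) = Q at *
    push_cast [k1, k4]
    ring

end Cfsg.Agent.R2.Spec.X4.H18
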