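import Cfsg.Agent.H366.IsoE6
import Cfsg.Agent.H366.IsoE6T
import Cfsg.Agent.R2.Spec.X4.H18.TwNear

/-!
# `E₆(u)`, `²E₆(u)` : the tori `(x⁴ + 1)(x² - 1)`, `(x⁴ - 1)(x² - x + 1)`, the primes not adjacent to `2` (helper18)
-/

set_option autoImplicit false
set_option linter.unusedSectionVars false

namespace Cfsg.Agent.R2.Spec.X4.H18

open CoxeterSystem Subgroup Cfsg Cfsg.Lie Cfsg.Lie.ChevalleyDatum
open Cfsg.Agent.ChevalleyStructure.CoxeterGeomTypes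
open Cfsg.Agent.BpExc.FamInst Cfsg.Agent.BpExc.RowsUntw Cfsg.Agent.Nodes Cfsg.Agent.Nodes.RGDChev
open Cfsg.Agent.BpExc.FamExt Cfsg.Agent.BpExc.TowChev
open Cfsg.Agent.H378.AdjTab Cfsg.Agent.H378.CycTab Cfsg.Agent.H378.ExcAdj Cfsg.Agent.H378.ExcNear
open Cfsg.Agent.H493.PGTorus Cfsg.Agent.H493.PGCyc Cfsg.Agent.H129.WData Cfsg.Agent.H360.Iso Cfsg.Agent.H437.Iso
open Cfsg.Agent.H366.Iso Cfsg.Agent

universe u

/-- the partial products -/
def LE6d : List (Fin 6 × Mat 6) := [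
    (4, ![![-1, 0, -1, -1, -1, 0],
        ![0, -1, 0, -1, -1, 0],
        ![1, 0, 0, 0, 0, 0],
        ![0, 1, 1, 1, 1, 0],
        ![0, 0, 0, 1, 0, 0],
        ![0, 0, 0, 0, 1, 1]]),
    (3, ![![-1, 0, -1, -1, 0, 0],
        ![0, -1, 0, -1, 0, 0],
        ![1, 0, 0, 0, 0, 0],
        ![0, 1, 1, 1, 0, 0],
        ![0, 0, 0, 1, 1, 0],
        ![0, 0, 0, 0, 0, 1]]),
    (2, ![![-1, 0, -1, 0, 0, 0],
        ![0, -1, 0, 0, 0, 0],
        ![1, 0, 0, 0, 0, 0],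
        ![0, 1, 1, 1, 0, 0],
        ![0, 0, 0, 0, 1, 0],
        ![0, 0, 0, 0, 0, 1]]),
    (1, ![![-1, 0, 0, 0, 0, 0],
        ![0, -1, 0, 0, 0, 0],
        ![1, 0, 1, 0, 0, 0],
        ![0, 1, 0, 1, 0, 0],
        ![0, 0, 0, 0, 1, 0],
        ![0, 0, 0, 0, 0, 1]]),
    (0, ![![-1, 0, 0, 0, 0, 0],
        ![0, 1, 0, 0, 0, 0],
        ![1, 0, 1, 0, 0, 0],
        ![0, 0, 0, 1, 0, 0],
        ![0, 0, 0, 0, 1, 0],
        ![0, 0, 0, 0, 0, 1]])]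

/-- the eigenvector -/
def VE6d : Fin (5 + 1) → Fin 6 → ℤ := ![![1, 1, 2, 2, 2, 1],
      ![0, 1, 1, 2, 1, 1],
      ![0, 0, -1, 0, 0, 0],
      ![0, -1, 0, -1, 0, 0],
      ![0, 1, 1, 1, 1, 1],
      ![1, 1, 1, 2, 1, 1]]

/-- the functional -/
def UE6d : Fin 6 → ℤ := ![0, 0, 0, 0, 1, -1]

/-- the polynomial -/
def kE6d : Fin (5 + 1) → ℤ := ![-1, 0, 1, 0, -1, 0]

theorem chainE6d : ChainOK H378.AdjE6.Am LE6d := by decide +kernel

theorem eigE6d : EigOK (hd LE6d) kE6d VE6d UE6d := by decide +kernel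

theorem pvE6d (q : ℤ) : pv kE6d q = (q ^ 4 + 1) * (q ^ 2 - 1) := by
  simp [pv, kE6d, Fin.sum_univ_succ]
  ring

/-- the partial products -/
def LE6b : List (Fin 6 × Mat 6) := [
    (3, ![![-1, -1, -1, -2, -1, 0],
        ![0, 0, 0, 0, -1, 0],
        ![1, 0, 0, 0, 0, 0],
        ![0, 0, 1, 1, 1, 0],
        ![0, 1, 0, 0, 0, 0],
        ![0, 0, 0, 1, 1, 1]]),
    (4, ![![-1, -1, -1, -1, -1, 0],
        ![0, 0, 0, -1, -1, 0],
        ![1, 0, 0, 0, 0, 0],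
        ![0, 0, 1, 1, 1, 0],
        ![0, 1, 0, 1, 0, 0],
        ![0, 0, 0, 0, 1, 1]]),
    (1, ![![-1, -1, -1, -1, 0, 0],
        ![0, 0, 0, -1, 0, 0],
        ![1, 0, 0, 0, 0, 0],
        ![0, 0, 1, 1, 0, 0],
        ![0, 1, 0, 1, 1, 0],
        ![0, 0, 0, 0, 0, 1]]),
    (3, ![![-1, 0, -1, -1, 0, 0],
        ![0, -1, 0, -1, 0, 0],
        ![1, 0, 0, 0, 0, 0],
        ![0, 1, 1, 1, 0, 0],
        ![0, 0, 0, 1, 1, 0],
        ![0, 0, 0, 0, 0, 1]]),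
    (2, ![![-1, 0, -1, 0, 0, 0],
        ![0, -1, 0, 0, 0, 0],
        ![1, 0, 0, 0, 0, 0],
        ![0, 1, 1, 1, 0, 0],
        ![0, 0, 0, 0, 1, 0],
        ![0, 0, 0, 0, 0, 1]]),
    (1, ![![-1, 0, 0, 0, 0, 0],
        ![0, -1, 0, 0, 0, 0],
        ![1, 0, 1, 0, 0, 0],
        ![0, 1, 0, 1, 0, 0],
        ![0, 0, 0, 0, 1, 0],
        ![0, 0, 0, 0, 0, 1]]),
    (0, ![![-1, 0, 0, 0, 0, 0],
        ![0, 1, 0, 0, 0, 0],
        ![1, 0, 1, 0, 0, 0],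
        ![0, 0, 0, 1, 0, 0],
        ![0, 0, 0, 0, 1, 0],
        ![0, 0, 0, 0, 0, 1]])]

/-- the eigenvector -/
def VE6b : Fin (5 + 1) → Fin 6 → ℤ := ![![1, 2, 2, 3, 2, 1],
      ![-1, -1, -1, -1, 0, 0],
      ![1, 1, 1, 2, 1, 1],
      ![0, 1, 1, 1, 1, 1],
      ![0, -1, -1, -1, 0, 0],
      ![1, 1, 2, 2, 1, 1]]

/-- the functional -/
def UE6b : Fin 6 → ℤ := ![0, 0, 0, 0, 1, -1]

/-- the polynomial -/
def kE6b : Fin (5 + 1) → ℤ := ![-1, 1, -1, 0, 1, -1]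

theorem chainE6b : ChainOK H378.AdjE6.Am LE6b := by decide +kernel

theorem eigE6b : EigOK (hd LE6b) kE6b VE6b UE6b := by decide +kernel

theorem pvE6b (q : ℤ) : pv kE6b q = (q ^ 4 - 1) * (q ^ 2 - q + 1) := by
  simp [pv, kE6b, Fin.sum_univ_succ]
  ring

/-- the partial products -/
def LE6td : List (Fin 6 × Mat 6) := [
    (3, ![![1, 0, 1, 1, 0, 0],
        ![0, -1, 0, -1, 0, 0],
        ![0, 0, -1, -1, 0, 0],
        ![0, 1, 1, 1, 0, 0],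
        ![0, 0, 0, 1, 1, 0],
        ![0, 0, 0, 0, 0, 1]]),
    (2, ![![1, 0, 1, 0, 0, 0],
        ![0, -1, 0, 0, 0, 0],
        ![0, 0, -1, 0, 0, 0],
        ![0, 1, 1, 1, 0, 0],
        ![0, 0, 0, 0, 1, 0],
        ![0, 0, 0, 0, 0, 1]]),
    (1, ![![1, 0, 0, 0, 0, 0],
        ![0, -1, 0, 0, 0, 0],
        ![0, 0, 1, 0, 0, 0],
        ![0, 1, 0, 1, 0, 0],
        ![0, 0, 0, 0, 1, 0],
        ![0, 0, 0, 0, 0, 1]])]

/-- the matrix of the action -/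
def ThE6td : Mat 6 := ![![0, 0, 0, 0, 0, 1],
      ![0, -1, 0, -1, 0, 0],
      ![0, 0, 0, 1, 1, 0],
      ![0, 1, 1, 1, 0, 0],
      ![0, 0, -1, -1, 0, 0],
      ![1, 0, 1, 1, 0, 0]]

/-- the eigenvector -/
def VE6td : Fin (5 + 1) → Fin 6 → ℤ := ![![0, 0, 1, -1, 0, 1],
      ![1, -1, -1, 1, 0, 0],
      ![0, 1, -1, 1, -1, 0],
      ![-1, 0, 2, -1, 0, 0],
      ![0, -1, 0, 0, 1, 0],
      ![1, 1, -1, 0, 0, 0]]

/-- the functional -/
def UE6td : Fin 6 → ℤ := ![0, 0, 0, 0, 0, 1]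

/-- the polynomial -/
def kE6td : Fin (5 + 1) → ℤ := ![-1, 0, 1, 0, -1, 0]

theorem chainE6td : ChainOK H493.PGE6T.Am LE6td := by decide +kernel

theorem hThE6td : ∀ j, hd LE6td (H493.TwE6Alg.pi j) = ThE6td j := by decide +kernel

theorem eigE6td : EigOK (fun i j => ThE6td j i) kE6td VE6td UE6td := by decide +kernel

theorem pvE6td (q : ℤ) : pv kE6td q = (q ^ 4 + 1) * (q ^ 2 - 1) := by
  simp [pv, kE6td, Fin.sum_univ_succ]
  ring

/-- the partial products -/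
def LE6tb : List (Fin 6 × Mat 6) := [
    (3, ![![-1, 0, 0, 0, 0, 0],
        ![0, -1, 0, -1, 0, 0],
        ![1, 0, 1, 1, 0, 0],
        ![0, 1, 0, 0, 0, 0],
        ![0, 0, 0, 1, 1, 0],
        ![0, 0, 0, 0, 0, 1]]),
    (1, ![![-1, 0, 0, 0, 0, 0],
        ![0, -1, 0, 0, 0, 0],
        ![1, 0, 1, 0, 0, 0],
        ![0, 1, 0, 1, 0, 0],
        ![0, 0, 0, 0, 1, 0],
        ![0, 0, 0, 0, 0, 1]]),
    (0, ![![-1, 0, 0, 0, 0, 0],
        ![0, 1, 0, 0, 0, 0],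
        ![1, 0, 1, 0, 0, 0],
        ![0, 0, 0, 1, 0, 0],
        ![0, 0, 0, 0, 1, 0],
        ![0, 0, 0, 0, 0, 1]])]

/-- the matrix of the action -/
def ThE6tb : Mat 6 := ![![0, 0, 0, 0, 0, 1],
      ![0, -1, 0, -1, 0, 0],
      ![0, 0, 0, 1, 1, 0],
      ![0, 1, 0, 0, 0, 0],
      ![1, 0, 1, 1, 0, 0],
      ![-1, 0, 0, 0, 0, 0]]

/-- the eigenvector -/
def VE6tb : Fin (5 + 1) → Fin 6 → ℤ := ![![1, 0, 0, -1, 1, 0],
      ![1, -1, 0, 0, 0, 1],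
      ![0, 0, 0, 0, 0, 1],
      ![-1, 0, 1, 0, 0, 0],
      ![-1, 0, 0, 1, 0, -1],
      ![0, 1, 0, 0, 0, -1]]

/-- the functional -/
def UE6tb : Fin 6 → ℤ := ![0, 0, 0, 0, 1, 0]

/-- the polynomial -/
def kE6tb : Fin (5 + 1) → ℤ := ![-1, -1, -1, 0, 1, 1]

theorem chainE6tb : ChainOK H493.PGE6T.Am LE6tb := by decide +kernel

theorem hThE6tb : ∀ j, hd LE6tb (H493.TwE6Alg.pi j) = ThE6tb j := by decide +kernel

theorem eigE6tb : EigOK (fun i j => ThE6tb j i) kE6tb VE6tb UE6tb := by decide +kernel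

theorem pvE6tb (q : ℤ) : pv kE6tb q = (q ^ 4 - 1) * (q ^ 2 + q + 1) := by
  simp [pv, kE6tb, Fin.sum_univ_succ]
  ring


section E

variable {F : Type u} [Field F] [Finite F]

/-- an order `m / g` -/
theorem e6_ord {L : List (Fin 6 × Mat 6)} (hL : ChainOK H378.AdjE6.Am L)
    {f : ℕ} {c : Fin (f + 1) → ℤ} {V : Fin (f + 1) → Fin 6 → ℤ} {U : Fin 6 → ℤ} (h : EigOK (hd L) c V U)
    {m : ℕ} (hm : 0 < m) (hg : Nat.gcd 3 (Nat.card F - 1) ∣ m) (hdv : (m : ℤ) ∣ pv c (Nat.card F : ℕ)) :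
    ∃ x : ↥(chevE6.group F), Nat.gcd 3 (Nat.card F - 1) * orderOf x = m := by
  let cs : CoxeterSystem CoxeterMatrix.E₆ CoxeterMatrix.E₆.Group := CoxeterMatrix.E₆.toCoxeterSystem
  have := finite_W e6T cs
  have hg0 : 0 < Nat.gcd 3 (Nat.card F - 1) := Nat.gcd_pos_of_pos_left _ (by norm_num)
  obtain ⟨x, hx⟩ := exists_order_d e6T cs inv_E6 three_ne_zero H378.AdjE6.hA hL h
    (Nat.div_pos (Nat.le_of_dvd hm hg) hg0) (Nat.div_mul_cancel hg).symm hdv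
  exact ⟨x, by rw [hx, Nat.mul_div_cancel' hg]⟩

/-- primes not adjacent to `2` -/
theorem e6_near {r : ℕ} (hr : r.Prime) (h2 : r ≠ 2)
    (hd : r ∣ Nat.card ↥(chevE6.group F)) (hn : ¬ ∃ x : ↥(chevE6.group F), orderOf x = 2 * r) :
    (r : ℤ) ∣ ((Nat.card F : ℕ) : ℤ) ^ 4 + 1 ∨ (r : ℤ) ∣ ((Nat.card F : ℕ) : ℤ) ^ 4 - ((Nat.card F : ℕ) : ℤ) ^ 2 + 1 ∨
      (r : ℤ) ∣ ((Nat.card F : ℕ) : ℤ) ^ 6 + ((Nat.card F : ℕ) : ℤ) ^ 3 + 1 := by
  rcases adj_E6 F hr hd with h | ⟨-, -, -, x, y, hx, hy, hxy⟩ | h | h | h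
  · exact absurd h h2
  · exfalso
    apply hn
    refine ⟨y * x, ?_⟩
    rw [hxy.symm.orderOf_mul_eq_mul_orderOf_of_coprime (by
      rw [hx, hy]
      exact (Nat.coprime_primes Nat.prime_two hr).2 (Ne.symm h2)), hx, hy]
  · left
    have h3 := dvd8 hr h
    rwa [pv8] at h3
  · right; right
    have h3 := dvd9 hr h
    rwa [pv9] at h3
  · right; left
    have h3 := dvd12 hr h
    rwa [pv12] at h3

end E

section T

variable {K : Type u} [Field K] [Fintype K] {q : ℕ} (hq : IsPrimePow q) (hK : Fintype.card K = q ^ 2)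

include hq hK

theorem te6_ord {L : List (Fin 6 × Mat 6)} (hL : ChainOK H493.PGE6T.Am L) {Th : Mat 6}
    (hTh : ∀ j, hd L (H493.TwE6Alg.pi j) = Th j)
    {f : ℕ} {c : Fin (f + 1) → ℤ} {V : Fin (f + 1) → Fin 6 → ℤ} {U : Fin 6 → ℤ}
    (h : EigOK (fun i j => Th j i) c V U) (hc : c 0 = 1 ∨ c 0 = -1) {m : ℕ} (hm : 0 < m)
    (hg : Nat.gcd 3 (q + 1) ∣ m)
    (h1 : (m : ℤ) ∣ pv c q) : ∃ x : ↥(twistedE6 K q), Nat.gcd 3 (q + 1) * orderOf x = m := by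
  obtain ⟨x, hx⟩ := e6t_order hq hK hL hTh h hc hm hg h1
  exact ⟨x, by rw [hx, Nat.mul_div_cancel' hg]⟩

open Cfsg.Agent.H493.PGE6T Cfsg.Agent.H378.TwRows Cfsg.Agent.H378.TwAdj in
/-- primes not adjacent to `2` -/
theorem te6_near {r : ℕ} (hr : r.Prime) (h2 : r ≠ 2)
    (hd : r ∣ Nat.card ↥(twistedE6 K q)) (hn : ¬ ∃ x : ↥(twistedE6 K q), orderOf x = 2 * r) :
    (r : ℤ) ∣ (q : ℤ) ^ 4 + 1 ∨ (r : ℤ) ∣ (q : ℤ) ^ 4 - (q : ℤ) ^ 2 + 1 ∨
      (r : ℤ) ∣ (q : ℤ) ^ 6 - (q : ℤ) ^ 3 + 1 := by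
  obtain ⟨p, n, hp, hnn, hpn⟩ := id hq
  have hp := hp.nat_prime
  have hpq : p ∣ q := hpn ▸ dvd_pow_self p hnn.ne'
  have hq2 := hq.two_le
  have hadj : ¬ Cfsg.Agent.H94.PG.Adj ↥(twistedE6 K q) r 2 := by
    rintro ⟨-, -, -, x, y, hx, hy, hxy⟩
    apply hn
    refine ⟨y * x, ?_⟩
    rw [hxy.symm.orderOf_mul_eq_mul_orderOf_of_coprime (by
      rw [hx, hy]
      exact (Nat.coprime_primes Nat.prime_two hr).2 (Ne.symm h2)), hx, hy]
  obtain ⟨hpa, hcase⟩ := cases_2E6 hq hK hp hpq hr hd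
  rcases hcase with h | h | ⟨hp2, -⟩ | ⟨h3, h⟩
  · exact absurd h h2
  · exact absurd h hadj
  · by_cases hr3 : r = 3
    · rw [hr3] at hadj
      exact absurd (adj_three hq hK) hadj
    have hqo : ¬ 2 ∣ q := by
      rw [← hpn]
      intro h
      exact hp2 ((Nat.prime_dvd_prime_iff_eq Nat.prime_two hp).1 (Nat.prime_two.dvd_of_dvd_pow h)).symm
    have hq1 : 1 ≤ q := by omega
    have h1 : r ∣ q ^ 36 * (q ^ 2 - 1) * (q ^ 5 + 1) * (q ^ 6 - 1) * (q ^ 8 - 1) * (q ^ 9 + 1) * (q ^ 12 - 1) := by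
      rw [← Cfsg.Agent.S1066.result hq hK]
      exact hd.mul_left _
    have hg3 : ∀ {s : ℕ}, s.Prime → s ≠ 3 → s.Coprime (Nat.gcd 3 (q + 1)) := fun {s} hs h3 =>
      Nat.Coprime.coprime_dvd_right (Nat.gcd_dvd_left _ _) ((Nat.coprime_primes hs Nat.prime_three).2 h3)
    have hg0 : 0 < Nat.gcd 3 (q + 1) := Nat.gcd_pos_of_pos_left _ (by norm_num)
    -- a torus with an even order
    have key : ∀ {a : ℕ} {P : ℕ}, r ∣ P → 2 ∣ a → 0 < P → 0 < a →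
        (∃ x : ↥(twistedE6 K q), Nat.gcd 3 (q + 1) * orderOf x = P * a) → False := by
      rintro a P hrP ha hP0 ha0 ⟨x, hx⟩
      apply hn
      refine ord_dvd ⟨x, rfl⟩ (fun h0 => ?_) ?_
      · rw [h0, mul_zero] at hx
        exact absurd hx (Nat.mul_pos hP0 ha0).ne
      · refine Nat.Coprime.mul_dvd_of_dvd_of_dvd ((Nat.coprime_primes Nat.prime_two hr).2 (Ne.symm h2)) ?_ ?_
        · refine (hg3 Nat.prime_two (by norm_num)).dvd_of_dvd_mul_left ?_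
          rw [hx]
          exact ha.mul_left _
        · refine (hg3 hr hr3).dvd_of_dvd_mul_left ?_
          rw [hx]
          exact hrP.mul_right _
    have h21 : 2 ∣ q - 1 := by omega
    have h22 : 2 ∣ q + 1 := by omega
    have hq4 : 1 ≤ q ^ 4 := Nat.one_le_pow _ _ (by omega)
    have hg1 : Nat.gcd 3 (q + 1) ∣ q + 1 := Nat.gcd_dvd_right _ _
    have e4 : q ^ 4 - 1 = (q ^ 2 + 1) * (q - 1) * (q + 1) := by
      zify [hq1, hq4]
      ring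
    have ex4 : ∃ x : ↥(twistedE6 K q), Nat.gcd 3 (q + 1) * orderOf x = (q ^ 4 - 1) * (q ^ 2 + q + 1) := by
      refine te6_ord hq hK chainE6tb hThE6tb eigE6tb (by decide) (Nat.mul_pos ?_ (by positivity)) ?_ ?_
      · rw [e4]
        exact Nat.mul_pos (Nat.mul_pos (by positivity) (by omega)) (by omega)
      · rw [e4]
        exact (hg1.mul_left _).mul_right _
      · rw [pvE6tb]
        push_cast [hq4]
        exact dvd_rfl
    rcases cover hq.two_le hr h1 with (h | h | h | h | h | h | h) | h | h | h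
    · exfalso
      rw [← hpn] at h
      have h4 := (Nat.prime_dvd_prime_iff_eq hr hp).1 (hr.dvd_of_dvd_pow h)
      rw [h4] at hadj h2
      rcases hpa with h5 | h5
      · exact h2 h5
      · exact hadj h5
    · exfalso
      rw [pv_c1] at h
      have h' : r ∣ q - 1 := by
        have h4 : (r : ℤ) ∣ ((q - 1 : ℕ) : ℤ) := by push_cast [hq1]; exact h
        exact_mod_cast h4
      refine key (P := (q - 1) * ((q ^ 2 + 1) * (q ^ 2 + q + 1))) (a := q + 1) (h'.mul_right _) h22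
        (Nat.mul_pos (by omega) (by positivity)) (by omega) ?_
      obtain ⟨x, hx⟩ := ex4
      exact ⟨x, by rw [hx, e4]; ring⟩
    · exfalso
      rw [pv_c2] at h
      have h' : r ∣ q + 1 := by exact_mod_cast h
      refine key (P := (q + 1) * ((q ^ 2 + 1) * (q ^ 2 + q + 1))) (a := q - 1) (h'.mul_right _) h21
        (by positivity) (by omega) ?_
      obtain ⟨x, hx⟩ := ex4
      exact ⟨x, by rw [hx, e4]; ring⟩
    · exfalso
      rw [pv_c3] at h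
      have h' : r ∣ q ^ 2 + q + 1 := by exact_mod_cast h
      refine key (P := (q ^ 2 + q + 1) * ((q ^ 2 + 1) * (q + 1))) (a := q - 1) (h'.mul_right _) h21
        (by positivity) (by omega) ?_
      obtain ⟨x, hx⟩ := ex4
      exact ⟨x, by rw [hx, e4]; ring⟩
    · exfalso
      rw [pv_c4] at h
      have h' : r ∣ q ^ 2 + 1 := by exact_mod_cast h
      refine key (P := (q ^ 2 + 1) * ((q ^ 2 + q + 1) * (q + 1))) (a := q - 1) (h'.mul_right _) h21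
        (by positivity) (by omega) ?_
      obtain ⟨x, hx⟩ := ex4
      exact ⟨x, by rw [hx, e4]; ring⟩
    · exfalso
      have h3c : ∀ {s : ℕ}, s.Prime → s ≠ 3 → ¬ s ∣ Nat.gcd 3 (q + 1) := fun {s} hs h3 =>
        (hs.coprime_iff_not_dvd).1 (hg3 hs h3)
      exact hadj ((pairE_gen hq hK chainB_ok hThB eigB_6 (by decide) eigB_1 (by decide) hr Nat.prime_two
        (h3c hr hr3) (h3c Nat.prime_two (by norm_num)) h (two_dvd_c1 hqo)).adj hr Nat.prime_two h2)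
    · exfalso
      rw [pv_c10] at h
      have e10 : ((q : ℤ) ^ 4 - q ^ 3 + q ^ 2 - q + 1) * (q + 1) = (q : ℤ) ^ 5 + 1 := by ring
      have h' : r ∣ q ^ 5 + 1 := by
        have h4 : (r : ℤ) ∣ ((q ^ 5 + 1 : ℕ) : ℤ) := by
          push_cast
          rw [← e10]
          exact h.mul_right _
        exact_mod_cast h4
      refine key (P := q ^ 5 + 1) (a := q - 1) h' h21 (by positivity) (by omega) ?_
      refine te6_ord hq hK chainE6tA hThE6tA eigE6tA (by decide) (Nat.mul_pos (by omega) (by omega))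
        ((gt3_dvd5 q).mul_right _) ?_
      rw [pvE6tA]
      push_cast [hq1]
      exact dvd_rfl
    · rw [pv_c8] at h
      exact Or.inl h
    · rw [pv_c12] at h
      exact Or.inr (Or.inl h)
    · rw [pv_c18] at h
      exact Or.inr (Or.inr h)
  · rcases h with h | h | h
    · rw [pv_c8] at h
      exact Or.inl h
    · rw [pv_c12] at h
      exact Or.inr (Or.inl h)
    · rw [pv_c18] at h
      exact Or.inr (Or.inr h)

end T

end Cfsg.Agent.R2.Spec.X4.H18
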